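import Groth.Agent.L19.Approx.IdealExt
import Mathlib.AlgebraicGeometry.Morphisms.FinitePresentation
import Mathlib.AlgebraicGeometry.Morphisms.ClosedImmersion
import Mathlib.CategoryTheory.Limits.Constructions.Over.Connected

/-!
# Closed immersions of finite presentation and approximation of closed subschemes
-/

universe u

open CategoryTheory CategoryTheory.Limits AlgebraicGeometry TopologicalSpace Opposite

namespace Groth.L19.Approx

set_option backward.isDefEq.respectTransparency.types false
set_option backward.isDefEq.respectTransparency false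
set_option backward.defeqAttrib.useBackward true
set_option linter.style.haveILetI false

variable {X : Scheme.{u}}

theorem lfp_subschemeι {K : X.IdealSheafData} (hK : FGOn K ⊤) :
    LocallyOfFinitePresentation K.subschemeι := by
  refine IsZariskiLocalAtSource.of_openCover K.subschemeCover.openCover fun U => ?_
  change LocallyOfFinitePresentation (K.subschemeCover.f U ≫ K.subschemeι)
  rw [Scheme.IdealSheafData.subschemeCover_map_subschemeι, Scheme.IdealSheafData.glueDataObjι]
  haveI : LocallyOfFinitePresentation
      (Spec.map (CommRingCat.ofHom (Ideal.Quotient.mk (K.ideal U)))) :=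
    (HasRingHomProperty.Spec_iff (P := @LocallyOfFinitePresentation)).mpr
      (RingHom.FinitePresentation.of_surjective _ Ideal.Quotient.mk_surjective
        (by rw [CommRingCat.hom_ofHom, Ideal.mk_ker]; exact hK U le_top))
  infer_instance

theorem fgOn_ker {Z : Scheme.{u}} (i : Z ⟶ X) [IsClosedImmersion i]
    [LocallyOfFinitePresentation i] : FGOn i.ker ⊤ := by
  intro U _
  rw [Scheme.Hom.ker_apply]
  have h : (i.app U.1).hom.FinitePresentation := by
    rw [Scheme.Hom.app_eq_appLE]
    exact HasRingHomProperty.appLE (P := @LocallyOfFinitePresentation) i inferInstance U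
      ⟨_, U.2.preimage i⟩ le_rfl
  letI := (i.app U.1).hom.toAlgebra
  haveI : Algebra.FinitePresentation Γ(X, U.1) Γ(Z, i ⁻¹ᵁ U.1) := h
  exact Algebra.FinitePresentation.ker_fG_of_surjective
    (Algebra.ofId Γ(X, U.1) Γ(Z, i ⁻¹ᵁ U.1)) (Scheme.Hom.app_surjective i U.1 U.2)

theorem fgOn_iff_lfp (K : X.IdealSheafData) :
    FGOn K ⊤ ↔ LocallyOfFinitePresentation K.subschemeι :=
  ⟨lfp_subschemeι, fun _ => K.ker_subschemeι ▸ fgOn_ker K.subschemeι⟩

variable (L : X.IdealSheafData)

/-- The finite type subideals of an ideal sheaf. -/
def FGSub : Type u := {K : X.IdealSheafData // K ≤ L ∧ FGOn K ⊤}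

instance : PartialOrder (FGSub L) := inferInstanceAs (PartialOrder (Subtype _))

instance : Nonempty (FGSub L) := ⟨⟨⊥, bot_le, fgOn_bot ⊤⟩⟩

instance : IsDirected (FGSub L) (fun a b => a ≤ b) :=
  ⟨fun a b => ⟨⟨a.1 ⊔ b.1, sup_le a.2.1 b.2.1, a.2.2.sup b.2.2⟩, le_sup_left (a := a.1),
    le_sup_right (b := b.1)⟩⟩

/-- The system of closed subschemes of finite presentation containing a closed subscheme. -/
noncomputable def fgSystem : (FGSub L)ᵒᵖ ⥤ Over X where
  obj K := Over.mk K.unop.1.subschemeι
  map h := Over.homMk (Scheme.IdealSheafData.inclusion (show _ ≤ _ from h.unop.le))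
    (Scheme.IdealSheafData.inclusion_subschemeι _)
  map_id K := by
    apply Over.OverMorphism.ext
    exact (cancel_mono K.unop.1.subschemeι).mp (by simp)
  map_comp {K K' K''} f g := by
    apply Over.OverMorphism.ext
    exact (cancel_mono K''.unop.1.subschemeι).mp (by simp)

/-- The cone with vertex the closed subscheme itself. -/
noncomputable def fgCone : Cone (fgSystem L) where
  pt := Over.mk L.subschemeι
  π :=
    { app := fun K => Over.homMk (Scheme.IdealSheafData.inclusion K.unop.2.1)
        (Scheme.IdealSheafData.inclusion_subschemeι _)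
      naturality := fun K K' f => by
        apply Over.OverMorphism.ext
        exact (cancel_mono K'.unop.1.subschemeι).mp (by simp [fgSystem]) }

theorem le_ker_of_cone [CompactSpace X] [QuasiSeparatedSpace X] (s : Cone (fgSystem L)) :
    L ≤ s.pt.hom.ker := by
  refine le_of_forall_fgOn fun K hK hfg => ?_
  have h : (s.π.app (op ⟨K, hK, hfg⟩)).left ≫ K.subschemeι = s.pt.hom :=
    Over.w (s.π.app (op ⟨K, hK, hfg⟩))
  rw [← h]
  exact (Scheme.IdealSheafData.ker_subschemeι K).ge.trans (Scheme.Hom.le_ker_comp _ _)

/-- A closed subscheme is the limit of the closed subschemes of finite presentation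
containing it. -/
noncomputable def isLimitFGCone [CompactSpace X] [QuasiSeparatedSpace X] :
    IsLimit (fgCone L) where
  lift s := Over.homMk (IsClosedImmersion.lift L.subschemeι s.pt.hom
      ((Scheme.IdealSheafData.ker_subschemeι L).le.trans (le_ker_of_cone L s)))
    (IsClosedImmersion.lift_fac _ _ _)
  fac s K := by
    apply Over.OverMorphism.ext
    apply (cancel_mono K.unop.1.subschemeι).mp
    simp only [Category.assoc, Over.comp_left, fgCone]
    exact (by simp : _ = s.pt.hom).trans (Over.w (s.π.app K)).symm
  uniq s m _ := by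
    apply Over.OverMorphism.ext
    apply (cancel_mono L.subschemeι).mp
    exact (Over.w m).trans (by simp)

theorem isClosedImmersion_fgSystem_map {K K' : (FGSub L)ᵒᵖ} (f : K ⟶ K') :
    IsClosedImmersion ((fgSystem L).map f).left := by
  haveI : IsClosedImmersion (((fgSystem L).map f).left ≫ ((fgSystem L).obj K').hom) := by
    rw [Over.w]
    exact inferInstanceAs (IsClosedImmersion K.unop.1.subschemeι)
  haveI : IsClosedImmersion ((fgSystem L).obj K').hom :=
    inferInstanceAs (IsClosedImmersion K'.unop.1.subschemeι)
  exact IsClosedImmersion.of_comp_isClosedImmersion _ ((fgSystem L).obj K').hom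

theorem lfp_fgSystem (K : (FGSub L)ᵒᵖ) :
    LocallyOfFinitePresentation ((fgSystem L).obj K).hom :=
  lfp_subschemeι K.unop.2.2

end Groth.L19.Approx
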