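import Groth.Agent.L19.Approx.IdealExt
import Groth.Agent.L22.Ideal
import Mathlib.AlgebraicGeometry.AffineTransitionLimit

/-!
# Finite type ideals on a limit come from a stage
-/

universe u

open CategoryTheory CategoryTheory.Limits AlgebraicGeometry TopologicalSpace Opposite

namespace Groth.L19.Approx

set_option backward.isDefEq.respectTransparency.types false
set_option backward.isDefEq.respectTransparency false
set_option backward.defeqAttrib.useBackward true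
set_option linter.style.haveILetI false

theorem appLE_congr_hom {X Y : Scheme.{u}} {f g : X ⟶ Y} (h : f = g) (U : Y.Opens) (V : X.Opens)
    (e : V ≤ f ⁻¹ᵁ U) : f.appLE U V e = g.appLE U V (h ▸ e) := by
  subst h; rfl

variable {I : Type u} [Category.{u} I] [IsCofiltered I] {D : I ⥤ Scheme.{u}} {c : Cone D}
  [∀ {i j} (f : i ⟶ j), IsAffineHom (D.map f)]

open Scheme.Opens in
/-- Sections over the preimage of an affine open of a stage come from a later stage. -/
theorem exists_appLE_eq (hc : IsLimit c) (i : I) {V : (D.obj i).Opens} (hV : IsAffineOpen V)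
    (r : Γ(c.pt, c.π.app i ⁻¹ᵁ V)) :
    ∃ (j : Over i) (h : c.π.app i ⁻¹ᵁ V ≤ c.π.app j.left ⁻¹ᵁ (D.map j.hom ⁻¹ᵁ V))
      (s : Γ(D.obj j.left, D.map j.hom ⁻¹ᵁ V)),
      (c.π.app j.left).appLE (D.map j.hom ⁻¹ᵁ V) (c.π.app i ⁻¹ᵁ V) h s = r := by
  have (j : _) : IsAffine ((opensDiagram D i V).op.obj j).unop := hV.preimage _
  have (j : _) : IsAffine ((opensDiagram D i V).obj j) := hV.preimage _
  obtain ⟨⟨j⟩, s, hs⟩ := (Types.jointly_surjective_of_isColimit (isColimitOfPreserves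
    (Scheme.Γ ⋙ forget _) (isLimitOpensCone D c hc i V).op) ((c.π.app i ⁻¹ᵁ V).topIso.inv r))
  obtain ⟨s, rfl⟩ := (D.map j.hom ⁻¹ᵁ V).topIso.symm.commRingCatIsoToRingEquiv.surjective s
  have h : c.π.app j.left ⁻¹ᵁ D.map j.hom ⁻¹ᵁ V = c.π.app i ⁻¹ᵁ V := congr($(c.w j.hom) ⁻¹ᵁ V)
  have : r = (c.π.app j.left).appLE (D.map j.hom ⁻¹ᵁ V) (c.π.app i ⁻¹ᵁ V) h.ge s := by
    convert!
      show r = ((topIso _).inv ≫ ((opensCone D c i V).π.app j).appTop ≫ (topIso _).hom) s from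
        (c.π.app i ⁻¹ᵁ V).topIso.commRingCatIsoToRingEquiv.symm_apply_eq.mp hs.symm using 3
    simp [Scheme.Hom.app_eq_appLE, Scheme.Hom.resLE_appLE]
  exact ⟨j, h.ge, s, this.symm⟩

theorem exists_fgOn_stage (hc : IsLimit c) [∀ i, CompactSpace (D.obj i)]
    [∀ i, QuasiSeparatedSpace (D.obj i)] (J : c.pt.IdealSheafData) (hJ : FGOn J ⊤) :
    ∃ (j : I) (K : (D.obj j).IdealSheafData), FGOn K ⊤ ∧ K.comap (c.π.app j) = J := by
  classical
  obtain ⟨i⟩ := IsCofiltered.nonempty (C := I)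
  haveI := fun i => isAffineHom_π_app D c hc i
  obtain ⟨S, hS, hcov⟩ := exists_finite_affineOpens (U := (⊤ : (D.obj i).Opens)) isCompact_univ
  haveI := hS.to_subtype
  haveI := Fintype.ofFinite S
  let W : S → c.pt.affineOpens := fun k => ⟨_, k.1.2.preimage (c.π.app i)⟩
  choose G hG using fun k => hJ (W k) le_top
  choose jk hjk sk hsk using fun (p : (k : S) × (G k)) => exists_appLE_eq hc i p.1.1.2 p.2.1
  obtain ⟨j, hj⟩ := IsCofiltered.inf_objs_exists
    (insert (Over.mk (𝟙 i)) (Finset.univ.image jk))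
  have hW : ∀ k : S, (W k).1 ≤ c.π.app j.left ⁻¹ᵁ (D.map j.hom ⁻¹ᵁ k.1.1) := fun k => by
    rw [← Scheme.Hom.comp_preimage, c.w]
  have key : ∀ p : (k : S) × (G k), ∃ K : (D.obj j.left).IdealSheafData,
      FGOn K ⊤ ∧ K ≤ J.map (c.π.app j.left) ∧
        (p.2.1 : Γ(c.pt, (W p.1).1)) ∈ (K.ideal ⟨_, p.1.1.2.preimage (D.map j.hom)⟩).map
          ((c.π.app j.left).appLE _ _ (hW p.1)).hom := by
    intro p
    obtain ⟨m⟩ := hj (Finset.mem_insert_of_mem (Finset.mem_image_of_mem jk (Finset.mem_univ p)))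
    let Vj : (D.obj j.left).affineOpens := ⟨_, p.1.1.2.preimage (D.map j.hom)⟩
    have hm : Vj.1 ≤ D.map m.left ⁻¹ᵁ (D.map (jk p).hom ⁻¹ᵁ p.1.1.1) := by
      rw [← Scheme.Hom.comp_preimage, ← D.map_comp, Over.w m]
    let s := (D.map m.left).appLE _ Vj.1 hm (sk p)
    have hs : (c.π.app j.left).appLE Vj.1 (W p.1).1 (hW p.1) s = p.2.1 := by
      refine Eq.trans ?_ (hsk p)
      rw [← CommRingCat.comp_apply, Scheme.Hom.appLE_comp_appLE]
      exact congr($(appLE_congr_hom (c.w m.left) _ _ _) (sk p))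
    have hmem : s ∈ (J.map (c.π.app j.left)).ideal Vj := by
      rw [Scheme.IdealSheafData.ideal_map_of_isAffineHom, Ideal.mem_comap]
      have e : (W p.1).1 = c.π.app j.left ⁻¹ᵁ Vj.1 := by
        change c.π.app i ⁻¹ᵁ _ = _
        rw [← Scheme.Hom.comp_preimage, c.w]
      have hp : (p.2.1 : Γ(c.pt, (W p.1).1)) ∈ J.ideal (W p.1) :=
        hG p.1 ▸ Ideal.subset_span p.2.2
      have := Ideal.mem_map_of_mem (res (X := c.pt) e.ge) hp
      rw [map_res J (U := ⟨_, Vj.2.preimage (c.π.app j.left)⟩) (V := W p.1) e.ge, ← hs] at this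
      convert this using 1
      rw [Scheme.Hom.app_eq_appLE]
      exact congr($((c.π.app j.left).appLE_map (hW p.1) (homOfLE e.ge).op) s).symm
    obtain ⟨K, hK, hfg, hsK⟩ := exists_fgOn_mem _ Vj hmem
    exact ⟨K, hfg, hK, hs ▸ Ideal.mem_map_of_mem _ hsK⟩
  choose K hKfg hKle hKmem using key
  refine ⟨j.left, ⨆ p, K p, fun V hV => ?_, ?_⟩
  · rw [Scheme.IdealSheafData.ideal_iSup, iSup_apply]
    exact Submodule.fg_iSup _ fun p => hKfg p V hV
  refine le_antisymm (Scheme.IdealSheafData.le_map_iff_comap_le.mp (iSup_le hKle)) ?_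
  refine Scheme.IdealSheafData.le_of_iSup_eq_top W ?_ fun k => ?_
  · rw [← Scheme.Hom.preimage_iSup, ← hcov, Scheme.Hom.preimage_top]
  · rw [L22.Ideals.comap_ideal _ _ ⟨_, k.1.2.preimage (D.map j.hom)⟩ _ (hW k), ← hG k]
    refine Ideal.span_le.mpr fun x hx => ?_
    exact Ideal.map_mono (le_iSup K ⟨k, x, hx⟩ _) (hKmem ⟨k, x, hx⟩)

end Groth.L19.Approx
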