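import Groth.Agent.L19.Approx.Factor

/-!
# Qcqs schemes as limits of schemes of finite presentation over a quasi-separated base
-/

universe u

open CategoryTheory CategoryTheory.Limits AlgebraicGeometry TopologicalSpace Opposite

namespace Groth.L19.Approx

set_option backward.isDefEq.respectTransparency.types false
set_option backward.isDefEq.respectTransparency false
set_option backward.defeqAttrib.useBackward true
set_option linter.style.haveILetI false

variable {X M S : Scheme.{u}} (a : X ⟶ M) [IsAffineHom a] [CompactSpace M] [QuasiSeparatedSpace M]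
  (g : M ⟶ S)

/-- The affine finitely presented `M`-schemes receiving `X`, viewed over `S`. -/
noncomputable def factorSystem : (Idx a (⊤ : MorphismProperty Scheme.{u}))ᵒᵖ ⥤ Over S :=
  system a ⊤ ⋙ Over.map g

/-- The cone with vertex `X`. -/
noncomputable def factorCone : Cone (factorSystem a g) := (Over.map g).mapCone (cone a ⊤)

theorem isCofiltered_idx : IsCofiltered (Idx a (⊤ : MorphismProperty Scheme.{u}))ᵒᵖ := by
  have h : Cofinal a (⊤ : MorphismProperty Scheme.{u}) := fun {_} => cofinal_top a
  haveI := isDirected_idx h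
  haveI := nonempty_idx h
  infer_instance

theorem nonempty_isLimit_forget_cone :
    Nonempty (IsLimit ((Over.forget M).mapCone (cone a (⊤ : MorphismProperty Scheme.{u})))) := by
  have h : Cofinal a (⊤ : MorphismProperty Scheme.{u}) := fun {_} => cofinal_top a
  haveI := isCofiltered_idx a
  haveI : IsConnected (Idx a (⊤ : MorphismProperty Scheme.{u}))ᵒᵖ := IsCofiltered.isConnected _
  exact ⟨isLimitOfPreserves (Over.forget M) (nonempty_isLimit_cone a ⊤ h).some⟩

theorem nonempty_isLimit_factorCone : Nonempty (IsLimit (factorCone a g)) := by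
  haveI := isCofiltered_idx a
  haveI : IsConnected (Idx a (⊤ : MorphismProperty Scheme.{u}))ᵒᵖ := IsCofiltered.isConnected _
  exact ⟨isLimitOfReflects (Over.forget S)
    (show IsLimit ((Over.forget S).mapCone (factorCone a g)) from
      (nonempty_isLimit_forget_cone a).some)⟩

theorem isAffineHom_factorSystem_map {i j : (Idx a (⊤ : MorphismProperty Scheme.{u}))ᵒᵖ} (φ : i ⟶ j) :
    IsAffineHom ((factorSystem a g).map φ).left :=
  isAffineHom_system_map a ⊤ φ

theorem lfp_factorSystem [LocallyOfFinitePresentation g]
    (i : (Idx a (⊤ : MorphismProperty Scheme.{u}))ᵒᵖ) :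
    LocallyOfFinitePresentation ((factorSystem a g).obj i).hom := by
  haveI := lfp_system_hom a (⊤ : MorphismProperty Scheme.{u}) i
  exact inferInstanceAs (LocallyOfFinitePresentation
    (((system a (⊤ : MorphismProperty Scheme.{u})).obj i).hom ≫ g))

theorem compactSpace_factorSystem (i : (Idx a (⊤ : MorphismProperty Scheme.{u}))ᵒᵖ) :
    CompactSpace ((factorSystem a g).obj i).left := by
  haveI := isAffineHom_system_hom a (⊤ : MorphismProperty Scheme.{u}) i
  exact QuasiCompact.compactSpace_of_compactSpace
    ((system a (⊤ : MorphismProperty Scheme.{u})).obj i).hom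

theorem quasiSeparatedSpace_factorSystem (i : (Idx a (⊤ : MorphismProperty Scheme.{u}))ᵒᵖ) :
    QuasiSeparatedSpace ((factorSystem a g).obj i).left := by
  haveI := isAffineHom_system_hom a (⊤ : MorphismProperty Scheme.{u}) i
  exact quasiSeparatedSpace_of_quasiSeparated
    ((system a (⊤ : MorphismProperty Scheme.{u})).obj i).hom

theorem isAffineHom_factorCone_π (i : (Idx a (⊤ : MorphismProperty Scheme.{u}))ᵒᵖ) :
    IsAffineHom ((factorCone a g).π.app i).left := by
  haveI := isCofiltered_idx a
  haveI : ∀ {i j} (φ : i ⟶ j),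
      IsAffineHom ((system a (⊤ : MorphismProperty Scheme.{u}) ⋙ Over.forget M).map φ) :=
    fun φ => isAffineHom_system_map a ⊤ φ
  exact isAffineHom_π_app _ _ (nonempty_isLimit_forget_cone a).some i

theorem exists_factorSystem_isSeparated [QuasiCompact g] [QuasiSeparated g] [IsSeparated (a ≫ g)] :
    ∃ i, IsSeparated ((factorSystem a g).obj i).hom := by
  haveI := isCofiltered_idx a
  obtain ⟨i₀⟩ := IsCofiltered.nonempty (C := (Idx a (⊤ : MorphismProperty Scheme.{u}))ᵒᵖ)
  let D := system a (⊤ : MorphismProperty Scheme.{u}) ⋙ Over.forget M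
  haveI : ∀ {i j} (φ : i ⟶ j), IsAffineHom (D.map φ) := fun φ => isAffineHom_system_map a ⊤ φ
  haveI : CompactSpace (D.obj i₀) := compactSpace_factorSystem a g i₀
  haveI : QuasiSeparatedSpace (D.obj i₀) := quasiSeparatedSpace_factorSystem a g i₀
  let s : D.obj i₀ ⟶ S := ((system a (⊤ : MorphismProperty Scheme.{u})).obj i₀).hom ≫ g
  haveI := isAffineHom_system_hom a (⊤ : MorphismProperty Scheme.{u}) i₀
  haveI : IsSeparated (((Over.forget M).mapCone (cone a ⊤)).π.app i₀ ≫ s) := by
    have hw : ((Over.forget M).mapCone (cone a (⊤ : MorphismProperty Scheme.{u}))).π.app i₀ ≫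
        ((system a (⊤ : MorphismProperty Scheme.{u})).obj i₀).hom = a :=
      Over.w ((cone a (⊤ : MorphismProperty Scheme.{u})).π.app i₀)
    show IsSeparated (_ ≫ _ ≫ g)
    rw [reassoc_of% hw]; infer_instance
  obtain ⟨k, φ, hk⟩ := Limit.exists_isSeparated (i := i₀) s (nonempty_isLimit_forget_cone a).some
  refine ⟨k, ?_⟩
  rw [← Over.w ((factorSystem a g).map φ)]
  exact hk

end Groth.L19.Approx
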