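import Groth.Agent.L19.Approx.Model
import Groth.Agent.L19.Approx.IdealStage
import Groth.Agent.L19.Limit.Exists
import Mathlib.CategoryTheory.Limits.Constructions.Over.Connected

/-!
# Affine morphisms are limits of affine morphisms of finite presentation
-/

universe u

open CategoryTheory CategoryTheory.Limits AlgebraicGeometry TopologicalSpace Opposite

namespace Groth.L19.Approx

set_option backward.isDefEq.respectTransparency.types false
set_option backward.isDefEq.respectTransparency false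
set_option backward.defeqAttrib.useBackward true
set_option linter.style.haveILetI false

variable {X P : Scheme.{u}} (f : X ⟶ P)

/-- `exists_model_lift` in terms of sections on opens. -/
theorem exists_model_lift_appLE [IsAffineHom f] [CompactSpace P] [QuasiSeparatedSpace P]
    (V : P.affineOpens) (s : Γ(X, f ⁻¹ᵁ V.1)) :
    ∃ (M : Scheme.{u}) (q : M ⟶ P) (v : X ⟶ M), IsAffineHom q ∧ LocallyOfFinitePresentation q ∧
      v ≫ q = f ∧ ∃ (e : f ⁻¹ᵁ V.1 ≤ v ⁻¹ᵁ (q ⁻¹ᵁ V.1)) (t : Γ(M, q ⁻¹ᵁ V.1)),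
        v.appLE (q ⁻¹ᵁ V.1) (f ⁻¹ᵁ V.1) e t = s := by
  obtain ⟨M, q, v, h1, h2, h3, e, t, ht⟩ := exists_model_lift f V ((f ⁻¹ᵁ V.1).topIso.inv s)
  refine ⟨M, q, v, h1, h2, h3, e, (q ⁻¹ᵁ V.1).topIso.hom t, ?_⟩
  rw [Scheme.Hom.appTop, Scheme.Hom.resLE_app_top, CommRingCat.comp_apply,
    CommRingCat.comp_apply] at ht
  exact (ConcreteCategory.bijective_of_isIso (f ⁻¹ᵁ V.1).topIso.inv).1 ht

/-- A finite fibre product of affine schemes of finite presentation over `P` receiving `X`. -/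
structure Prod {σ : Type u} (M : σ → Scheme.{u}) (q : ∀ s, M s ⟶ P) (v : ∀ s, X ⟶ M s)
    (E : Finset σ) where
  /-- the scheme -/
  obj : Scheme.{u}
  /-- its structure map -/
  hom : obj ⟶ P
  /-- the projections -/
  pr : ∀ s ∈ E, obj ⟶ M s
  /-- the map from `X` -/
  pt : X ⟶ obj
  aff : IsAffineHom hom
  lfp : LocallyOfFinitePresentation hom
  pr_hom : ∀ s (hs : s ∈ E), pr s hs ≫ q s = hom
  pt_hom : pt ≫ hom = f
  pt_pr : ∀ s (hs : s ∈ E), pt ≫ pr s hs = v s
  hom_ext : ∀ {T : Scheme.{u}} (a b : T ⟶ obj), a ≫ hom = b ≫ hom →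
    (∀ s (hs : s ∈ E), a ≫ pr s hs = b ≫ pr s hs) → a = b
  exists_lift : ∀ {T : Scheme.{u}} (t : T ⟶ P) (c : ∀ s ∈ E, T ⟶ M s),
    (∀ s (hs : s ∈ E), c s hs ≫ q s = t) →
      ∃ a : T ⟶ obj, a ≫ hom = t ∧ ∀ s (hs : s ∈ E), a ≫ pr s hs = c s hs

theorem nonempty_prod {σ : Type u} (M : σ → Scheme.{u}) (q : ∀ s, M s ⟶ P) (v : ∀ s, X ⟶ M s)
    (hq : ∀ s, IsAffineHom (q s)) (hq' : ∀ s, LocallyOfFinitePresentation (q s))
    (hv : ∀ s, v s ≫ q s = f) (E : Finset σ) : Nonempty (Prod f M q v E) := by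
  classical
  induction E using Finset.induction with
  | empty =>
    exact ⟨{
      obj := P, hom := 𝟙 P, pr := fun s hs => absurd hs (Finset.notMem_empty s), pt := f
      aff := inferInstance, lfp := inferInstance
      pr_hom := fun s hs => absurd hs (Finset.notMem_empty s)
      pt_hom := Category.comp_id f
      pt_pr := fun s hs => absurd hs (Finset.notMem_empty s)
      hom_ext := fun a b h _ => by simpa using h
      exists_lift := fun t _ _ => ⟨t, Category.comp_id t, fun s hs => absurd hs (Finset.notMem_empty s)⟩ }⟩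
  | insert s₀ E hs₀ ih =>
    obtain ⟨Q⟩ := ih
    haveI := Q.aff; haveI := Q.lfp; haveI := hq s₀; haveI := hq' s₀
    let R := pullback Q.hom (q s₀)
    let hom : R ⟶ P := pullback.fst _ _ ≫ Q.hom
    haveI : IsAffineHom (pullback.fst Q.hom (q s₀)) := MorphismProperty.pullback_fst _ _ inferInstance
    haveI : LocallyOfFinitePresentation (pullback.fst Q.hom (q s₀)) :=
      MorphismProperty.pullback_fst _ _ inferInstance
    let pr : ∀ s ∈ insert s₀ E, R ⟶ M s := fun s hs =>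
      if h : s = s₀ then pullback.snd _ _ ≫ eqToHom (by rw [h])
      else pullback.fst _ _ ≫ Q.pr s ((Finset.mem_insert.mp hs).resolve_left h)
    have pr_self : ∀ h, pr s₀ h = pullback.snd _ _ := fun h => by simp [pr]
    have pr_of_mem : ∀ s (hs : s ∈ E) h, pr s h = pullback.fst _ _ ≫ Q.pr s hs := fun s hs h => by
      have : s ≠ s₀ := fun e => hs₀ (e ▸ hs)
      simp [pr, this]
    exact ⟨{
      obj := R, hom := hom, pr := pr
      pt := pullback.lift Q.pt (v s₀) (by rw [Q.pt_hom, hv s₀])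
      aff := by dsimp only [hom]; infer_instance
      lfp := by dsimp only [hom]; infer_instance
      pr_hom := fun s hs => by
        rcases Finset.mem_insert.mp hs with rfl | h
        · rw [pr_self hs, ← pullback.condition]
        · rw [pr_of_mem s h hs, Category.assoc, Q.pr_hom]
      pt_hom := by rw [pullback.lift_fst_assoc, Q.pt_hom]
      pt_pr := fun s hs => by
        rcases Finset.mem_insert.mp hs with rfl | h
        · rw [pr_self hs, pullback.lift_snd]
        · rw [pr_of_mem s h hs, pullback.lift_fst_assoc, Q.pt_pr]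
      hom_ext := fun {T} a b h1 h2 => by
        apply pullback.hom_ext
        · refine Q.hom_ext _ _ (by simpa [hom] using h1) fun s hs => ?_
          have := h2 s (Finset.mem_insert_of_mem hs)
          rwa [pr_of_mem s hs (Finset.mem_insert_of_mem hs), ← Category.assoc, ← Category.assoc] at this
        · have := h2 s₀ (Finset.mem_insert_self _ _)
          rwa [pr_self (Finset.mem_insert_self _ _)] at this
      exists_lift := fun {T} t c hc => by
        obtain ⟨a, ha, ha'⟩ := Q.exists_lift t (fun s hs => c s (Finset.mem_insert_of_mem hs))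
          (fun s hs => hc s _)
        refine ⟨pullback.lift a (c s₀ (Finset.mem_insert_self _ _)) (by rw [ha, hc]), by
          rw [pullback.lift_fst_assoc, ha], fun s hs => ?_⟩
        rcases Finset.mem_insert.mp hs with rfl | h
        · rw [pr_self hs, pullback.lift_snd]
        · rw [pr_of_mem s h hs, pullback.lift_fst_assoc, ha'] }⟩

theorem fgOn_comap {Z Z' : Scheme.{u}} (w : Z' ⟶ Z) {K : Z.IdealSheafData} (hK : FGOn K ⊤) :
    FGOn (K.comap w) ⊤ := by
  refine fgOn_of_le_iSup _ ⊤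
    (fun p : {p : Z.affineOpens × Z'.affineOpens // p.2.1 ≤ w ⁻¹ᵁ p.1.1} => p.1.2) ?_ fun p => ?_
  · intro z _
    obtain ⟨U, V, e, hz, -, -⟩ :=
      L22.Ideals.exists_affine_pair w z (W := ⊤) trivial (W' := ⊤) trivial
    exact Opens.mem_iSup.mpr ⟨⟨(U, V), e⟩, hz⟩
  · rw [L22.Ideals.comap_ideal w K p.1.1 p.1.2 p.2]
    exact (hK _ le_top).map _

/-- The index set of sections. -/
abbrev Sec : Type u := (V : P.affineOpens) × Γ(X, f ⁻¹ᵁ V.1)

variable [IsAffineHom f] [CompactSpace P] [QuasiSeparatedSpace P]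

/-- A chosen model of a section. -/
noncomputable def secObj (s : Sec f) : Scheme.{u} :=
  (exists_model_lift_appLE f s.1 s.2).choose

/-- Its structure map. -/
noncomputable def secHom (s : Sec f) : secObj f s ⟶ P :=
  (exists_model_lift_appLE f s.1 s.2).choose_spec.choose

/-- Its map from `X`. -/
noncomputable def secPt (s : Sec f) : X ⟶ secObj f s :=
  (exists_model_lift_appLE f s.1 s.2).choose_spec.choose_spec.choose

theorem sec_spec (s : Sec f) : IsAffineHom (secHom f s) ∧ LocallyOfFinitePresentation (secHom f s) ∧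
    secPt f s ≫ secHom f s = f ∧
    ∃ (e : f ⁻¹ᵁ s.1.1 ≤ secPt f s ⁻¹ᵁ (secHom f s ⁻¹ᵁ s.1.1))
      (t : Γ(secObj f s, secHom f s ⁻¹ᵁ s.1.1)),
        (secPt f s).appLE (secHom f s ⁻¹ᵁ s.1.1) (f ⁻¹ᵁ s.1.1) e t = s.2 :=
  (exists_model_lift_appLE f s.1 s.2).choose_spec.choose_spec.choose_spec

/-- The chosen finite products. -/
noncomputable def prod (E : Finset (Sec f)) : Prod f (secObj f) (secHom f) (secPt f) E :=
  (nonempty_prod f _ _ _ (fun s => (sec_spec f s).1) (fun s => (sec_spec f s).2.1)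
    (fun s => (sec_spec f s).2.2.1) E).some

/-- The projection between the products. -/
noncomputable def tr {E E' : Finset (Sec f)} (h : E ⊆ E') : (prod f E').obj ⟶ (prod f E).obj :=
  ((prod f E).exists_lift (prod f E').hom (fun s hs => (prod f E').pr s (h hs))
    (fun s hs => (prod f E').pr_hom s (h hs))).choose

theorem tr_hom {E E' : Finset (Sec f)} (h : E ⊆ E') : tr f h ≫ (prod f E).hom = (prod f E').hom :=
  ((prod f E).exists_lift (prod f E').hom (fun s hs => (prod f E').pr s (h hs))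
    (fun s hs => (prod f E').pr_hom s (h hs))).choose_spec.1

theorem tr_pr {E E' : Finset (Sec f)} (h : E ⊆ E') (s : Sec f) (hs : s ∈ E) :
    tr f h ≫ (prod f E).pr s hs = (prod f E').pr s (h hs) :=
  ((prod f E).exists_lift (prod f E').hom (fun s hs => (prod f E').pr s (h hs))
    (fun s hs => (prod f E').pr_hom s (h hs))).choose_spec.2 s hs

theorem pt_tr {E E' : Finset (Sec f)} (h : E ⊆ E') : (prod f E').pt ≫ tr f h = (prod f E).pt :=
  (prod f E).hom_ext _ _ (by rw [Category.assoc, tr_hom, (prod f E').pt_hom, (prod f E).pt_hom])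
    fun s hs => by rw [Category.assoc, tr_pr, (prod f E').pt_pr, (prod f E).pt_pr]

theorem tr_self (E : Finset (Sec f)) : tr f (Finset.Subset.refl E) = 𝟙 _ :=
  (prod f E).hom_ext _ _ (by rw [tr_hom, Category.id_comp]) fun s hs => by
    rw [tr_pr, Category.id_comp]

theorem tr_trans {E E' E'' : Finset (Sec f)} (h : E ⊆ E') (h' : E' ⊆ E'') :
    tr f h' ≫ tr f h = tr f (h.trans h') :=
  (prod f E).hom_ext _ _ (by rw [Category.assoc, tr_hom, tr_hom, tr_hom]) fun s hs => by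
    rw [Category.assoc, tr_pr, tr_pr, tr_pr]

variable (Pr : MorphismProperty Scheme.{u})

/-- The indices of the approximating system. -/
def Idx : Type u :=
  (E : Finset (Sec f)) × {K : (prod f E).obj.IdealSheafData //
    FGOn K ⊤ ∧ K ≤ (prod f E).pt.ker ∧ Pr (K.subschemeι ≫ (prod f E).hom)}

variable {f Pr}

noncomputable instance : Preorder (Idx f Pr) where
  le i j := ∃ h : i.1 ⊆ j.1, i.2.1.comap (tr f h) ≤ j.2.1
  le_refl i := ⟨Finset.Subset.refl _, by rw [tr_self, Scheme.IdealSheafData.comap_id]⟩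
  le_trans i j k := fun ⟨h, hK⟩ ⟨h', hK'⟩ => ⟨h.trans h', by
    rw [← tr_trans f h h', Scheme.IdealSheafData.comap_comp]
    exact (Scheme.IdealSheafData.comap_mono _ hK).trans hK'⟩

theorem comap_le_ker {E E' : Finset (Sec f)} (h : E ⊆ E') {K : (prod f E).obj.IdealSheafData}
    (hK : K ≤ (prod f E).pt.ker) : K.comap (tr f h) ≤ (prod f E').pt.ker := by
  rw [← Scheme.IdealSheafData.le_map_iff_comap_le, Scheme.IdealSheafData.map_ker, pt_tr]
  exact hK

variable (f Pr) in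
/-- The hypothesis: `Pr` can be achieved by a closed subscheme containing `X`. -/
def Cofinal : Prop :=
  ∀ {Z : Scheme.{u}} (g : Z ⟶ P) (j : X ⟶ Z), IsAffineHom g → LocallyOfFinitePresentation g →
    j ≫ g = f → ∃ K : Z.IdealSheafData, FGOn K ⊤ ∧ K ≤ j.ker ∧ Pr (K.subschemeι ≫ g)

variable [Pr.RespectsIso]

theorem exists_idx (hPr : Cofinal f Pr) (E : Finset (Sec f)) (K₀ : (prod f E).obj.IdealSheafData)
    (h₀ : FGOn K₀ ⊤) (h₀' : K₀ ≤ (prod f E).pt.ker) :
    ∃ i : Idx f Pr, ∃ h : E ⊆ i.1, K₀.comap (tr f h) ≤ i.2.1 := by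
  haveI := (prod f E).aff
  haveI := (prod f E).lfp
  haveI := lfp_subschemeι h₀
  let j := IsClosedImmersion.lift K₀.subschemeι (prod f E).pt (K₀.ker_subschemeι.le.trans h₀')
  have hj : j ≫ K₀.subschemeι = (prod f E).pt := IsClosedImmersion.lift_fac _ _ _
  obtain ⟨K', hK', hle, hP⟩ := hPr (K₀.subschemeι ≫ (prod f E).hom) j inferInstance inferInstance
    (by rw [reassoc_of% hj, (prod f E).pt_hom])
  haveI := lfp_subschemeι hK'
  let c := K'.subschemeι ≫ K₀.subschemeι
  let v := IsClosedImmersion.lift K'.subschemeι j (K'.ker_subschemeι.le.trans hle)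
  have hv : v ≫ K'.subschemeι = j := IsClosedImmersion.lift_fac _ _ _
  refine ⟨⟨E, c.ker, fgOn_ker c, ?_, ?_⟩, Finset.Subset.refl E, ?_⟩
  · have : v ≫ c = (prod f E).pt := by rw [reassoc_of% hv, hj]
    rw [← this]
    exact Scheme.Hom.le_ker_comp v c
  · have e : c.toImage ≫ c.ker.subschemeι = c := c.toImage_imageι
    rw [← MorphismProperty.cancel_left_of_respectsIso (P := Pr) c.toImage, ← Category.assoc, e,
      Category.assoc]
    exact hP
  · rw [tr_self, Scheme.IdealSheafData.comap_id]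
    exact K₀.ker_subschemeι.ge.trans (Scheme.Hom.le_ker_comp _ _)

theorem nonempty_idx (hPr : Cofinal f Pr) : Nonempty (Idx f Pr) :=
  ⟨(exists_idx hPr ∅ ⊥ (fgOn_bot ⊤) bot_le).choose⟩

theorem isDirected_idx (hPr : Cofinal f Pr) : IsDirected (Idx f Pr) (fun a b => a ≤ b) := by
  classical
  refine ⟨fun a b => ?_⟩
  have ha : a.1 ⊆ a.1 ∪ b.1 := Finset.subset_union_left
  have hb : b.1 ⊆ a.1 ∪ b.1 := Finset.subset_union_right
  obtain ⟨c, hc, hle⟩ := exists_idx hPr (a.1 ∪ b.1) (a.2.1.comap (tr f ha) ⊔ b.2.1.comap (tr f hb))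
    ((fgOn_comap _ a.2.2.1).sup (fgOn_comap _ b.2.2.1))
    (sup_le (comap_le_ker ha a.2.2.2.1) (comap_le_ker hb b.2.2.2.1))
  rw [Scheme.IdealSheafData.comap_sup, sup_le_iff, ← Scheme.IdealSheafData.comap_comp, tr_trans,
    ← Scheme.IdealSheafData.comap_comp, tr_trans] at hle
  exact ⟨c, ⟨_, hle.1⟩, ⟨_, hle.2⟩⟩

variable (f Pr)

omit [Pr.RespectsIso] in
theorem le_map_of_le {i j : Idx f Pr} (h : i ≤ j) : i.2.1 ≤ j.2.1.map (tr f h.1) :=
  Scheme.IdealSheafData.le_map_iff_comap_le.mpr h.2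

/-- The approximating system. -/
noncomputable def system : (Idx f Pr)ᵒᵖ ⥤ Over P where
  obj i := Over.mk (i.unop.2.1.subschemeι ≫ (prod f i.unop.1).hom)
  map {i j} a := Over.homMk
    (Scheme.IdealSheafData.subschemeMap i.unop.2.1 j.unop.2.1 (tr f a.unop.le.1)
      (le_map_of_le f Pr a.unop.le)) (by
    simp only [Over.mk_hom, Scheme.IdealSheafData.subschemeMap_subschemeι_assoc, tr_hom])
  map_id i := by
    apply Over.OverMorphism.ext
    apply (cancel_mono i.unop.2.1.subschemeι).mp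
    simp [tr_self]
  map_comp {i j k} a b := by
    apply Over.OverMorphism.ext
    apply (cancel_mono k.unop.2.1.subschemeι).mp
    simp [tr_trans]

/-- The cone with vertex `X`. -/
noncomputable def cone : Cone (system f Pr) where
  pt := Over.mk f
  π :=
    { app := fun i => Over.homMk
        (IsClosedImmersion.lift i.unop.2.1.subschemeι (prod f i.unop.1).pt
          (i.unop.2.1.ker_subschemeι.le.trans i.unop.2.2.2.1))
        (by simp [system, (prod f i.unop.1).pt_hom])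
      naturality := fun i j a => by
        apply Over.OverMorphism.ext
        apply (cancel_mono j.unop.2.1.subschemeι).mp
        simp [system, pt_tr] }

omit [Pr.RespectsIso] in
theorem isAffineHom_system_hom (i : (Idx f Pr)ᵒᵖ) : IsAffineHom ((system f Pr).obj i).hom := by
  haveI := (prod f i.unop.1).aff
  exact inferInstanceAs (IsAffineHom (i.unop.2.1.subschemeι ≫ (prod f i.unop.1).hom))

omit [Pr.RespectsIso] in
theorem lfp_system_hom (i : (Idx f Pr)ᵒᵖ) :
    LocallyOfFinitePresentation ((system f Pr).obj i).hom := by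
  haveI := (prod f i.unop.1).lfp
  haveI := lfp_subschemeι i.unop.2.2.1
  exact inferInstanceAs
    (LocallyOfFinitePresentation (i.unop.2.1.subschemeι ≫ (prod f i.unop.1).hom))

omit [Pr.RespectsIso] in
theorem prop_system_hom (i : (Idx f Pr)ᵒᵖ) : Pr ((system f Pr).obj i).hom :=
  i.unop.2.2.2.2

omit [Pr.RespectsIso] in
theorem isAffineHom_system_map {i j : (Idx f Pr)ᵒᵖ} (a : i ⟶ j) :
    IsAffineHom ((system f Pr).map a).left := by
  haveI := isAffineHom_system_hom f Pr j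
  haveI : IsAffineHom (((system f Pr).map a).left ≫ ((system f Pr).obj j).hom) := by
    rw [Over.w]; exact isAffineHom_system_hom f Pr i
  exact IsAffineHom.of_comp _ ((system f Pr).obj j).hom

theorem isIso_of_isIso_appTop {A B : Scheme.{u}} [IsAffine A] [IsAffine B] (w : A ⟶ B)
    (h : IsIso w.appTop) : IsIso w := by
  haveI := h
  exact ((MorphismProperty.isomorphisms Scheme.{u}).arrow_mk_iso_iff
    (arrowIsoSpecΓOfIsAffine w)).mpr (inferInstanceAs (IsIso (Spec.map w.appTop)))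

theorem comp_subschemeι_appLE_eq_zero {L Z : Scheme.{u}} {K : Z.IdealSheafData}
    (a : L ⟶ K.subscheme) (V : Z.affineOpens) {t : Γ(Z, V.1)} (ht : t ∈ K.ideal V) (W : L.Opens)
    (e : W ≤ (a ≫ K.subschemeι) ⁻¹ᵁ V.1) : (a ≫ K.subschemeι).appLE V.1 W e t = 0 := by
  have h0 : K.subschemeι.app V.1 t = 0 := by
    rw [← Scheme.IdealSheafData.ker_subschemeι_app K V, RingHom.mem_ker] at ht
    exact ht
  rw [Scheme.Hom.comp_appLE, CommRingCat.comp_apply, h0, map_zero]

omit [Pr.RespectsIso] in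
theorem hom_transition {i j : (Idx f Pr)ᵒᵖ} (a : i ⟶ j) :
    (system f Pr ⋙ Over.forget P).map a ≫ ((system f Pr).obj j).hom = ((system f Pr).obj i).hom :=
  Over.w ((system f Pr).map a)

section

variable {f Pr} (c : Cone (system f Pr ⋙ Over.forget P)) (φ : X ⟶ c.pt) (πL : c.pt ⟶ P)
  (hπL : ∀ i, c.π.app i ≫ ((system f Pr).obj i).hom = πL)
  (hcone : ∀ i, φ ≫ c.π.app i = ((cone f Pr).π.app i).left) (V : P.affineOpens)

include hcone in
omit [Pr.RespectsIso] in
theorem pt_eq (i : (Idx f Pr)ᵒᵖ) :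
    φ ≫ c.π.app i ≫ i.unop.2.1.subschemeι = (prod f i.unop.1).pt := by
  rw [← Category.assoc, hcone]
  simp [cone]

include hπL hcone in
theorem app_surjective (hPr : Cofinal f Pr) (hφ : φ ≫ πL = f) :
    Function.Surjective (φ.app (πL ⁻¹ᵁ V.1)) := by
  intro s'
  have hpre : φ ⁻¹ᵁ (πL ⁻¹ᵁ V.1) = f ⁻¹ᵁ V.1 := by rw [← Scheme.Hom.comp_preimage, hφ]
  let sec : Sec f := ⟨V, X.presheaf.map (eqToHom hpre.symm).op s'⟩
  obtain ⟨i, hi, -⟩ := exists_idx hPr {sec} ⊥ (fgOn_bot ⊤) bot_le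
  have hmem : sec ∈ i.1 := hi (Finset.mem_singleton_self _)
  obtain ⟨e, t, ht⟩ := (sec_spec f sec).2.2.2
  let w : c.pt ⟶ secObj f sec :=
    c.π.app (op i) ≫ i.2.1.subschemeι ≫ (prod f i.1).pr sec hmem
  have hw : φ ≫ w = secPt f sec := by
    show φ ≫ c.π.app (op i) ≫ i.2.1.subschemeι ≫ _ = _
    exact ((reassoc_of% pt_eq c φ hcone (op i)) _).trans ((prod f i.1).pt_pr sec hmem)
  have hw' : w ≫ secHom f sec = πL := by
    show (c.π.app (op i) ≫ i.2.1.subschemeι ≫ (prod f i.1).pr sec hmem) ≫ secHom f sec = _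
    rw [Category.assoc, Category.assoc, (prod f i.1).pr_hom]
    exact hπL (op i)
  have hWw : πL ⁻¹ᵁ V.1 ≤ w ⁻¹ᵁ (secHom f sec ⁻¹ᵁ V.1) := by
    rw [← Scheme.Hom.comp_preimage, hw']
  refine ⟨w.appLE (secHom f sec ⁻¹ᵁ V.1) (πL ⁻¹ᵁ V.1) hWw t, ?_⟩
  apply (ConcreteCategory.bijective_of_isIso (X.presheaf.map (eqToHom hpre.symm).op)).1
  refine Eq.trans ?_ ht
  rw [← appLE_congr_hom hw _ _ (by
    rw [Scheme.Hom.comp_preimage, ← hpre]; exact Scheme.Hom.preimage_mono φ hWw)]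
  rw [← Scheme.Hom.appLE_comp_appLE φ w (secHom f sec ⁻¹ᵁ V.1) (πL ⁻¹ᵁ V.1) (f ⁻¹ᵁ V.1) hWw hpre.ge,
    CommRingCat.comp_apply, Scheme.Hom.appLE, CommRingCat.comp_apply]
  rfl

set_option maxHeartbeats 1600000 in
include hπL hcone in
theorem app_injective (hPr : Cofinal f Pr) (hφ : φ ≫ πL = f) (hc : IsLimit c)
    [Nonempty (Idx f Pr)] [IsDirected (Idx f Pr) (fun a b => a ≤ b)]
    (z : Γ(c.pt, πL ⁻¹ᵁ V.1)) (hz : φ.app (πL ⁻¹ᵁ V.1) z = 0) : z = 0 := by
  obtain ⟨i₀⟩ : Nonempty (Idx f Pr)ᵒᵖ := inferInstance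
  haveI : ∀ {i j} (a : i ⟶ j), IsAffineHom ((system f Pr ⋙ Over.forget P).map a) :=
    fun a => isAffineHom_system_map f Pr a
  haveI := isAffineHom_system_hom f Pr i₀
  let U₀ := ((system f Pr).obj i₀).hom ⁻¹ᵁ V.1
  have hW₀ : c.π.app i₀ ⁻¹ᵁ U₀ = πL ⁻¹ᵁ V.1 := by rw [← Scheme.Hom.comp_preimage, hπL]
  obtain ⟨j, h, zj, hzj⟩ := exists_appLE_eq hc i₀ (V.2.preimage ((system f Pr).obj i₀).hom)
    (c.pt.presheaf.map (eqToHom hW₀).op z)
  let E := j.left.unop.1
  let K := j.left.unop.2.1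
  haveI := (prod f E).aff
  haveI : CompactSpace (prod f E).obj :=
    QuasiCompact.compactSpace_of_compactSpace (prod f E).hom
  haveI : QuasiSeparatedSpace (prod f E).obj :=
    quasiSeparatedSpace_of_quasiSeparated (prod f E).hom
  let VQ : (prod f E).obj.affineOpens := ⟨_, V.2.preimage (prod f E).hom⟩
  have hUj : (system f Pr ⋙ Over.forget P).map j.hom ⁻¹ᵁ U₀ = K.subschemeι ⁻¹ᵁ VQ.1 := by
    rw [← Scheme.Hom.comp_preimage, hom_transition]
    rfl
  obtain ⟨t, ht⟩ : ∃ t : Γ((prod f E).obj, VQ.1),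
      K.subschemeι.appLE VQ.1 _ hUj.le t = zj := by
    obtain ⟨t, ht⟩ := K.subschemeι_app_surjective VQ
      (((system f Pr ⋙ Over.forget P).obj j.left).presheaf.map (eqToHom hUj.symm).op zj)
    refine ⟨t, ?_⟩
    rw [Scheme.Hom.appLE, CommRingCat.comp_apply]
    erw [ht]
    erw [← CommRingCat.comp_apply, ← Functor.map_comp]
    simp
    rfl
  let a : c.pt ⟶ K.subscheme := c.π.app j.left
  have hW : πL ⁻¹ᵁ V.1 ≤ (a ≫ K.subschemeι) ⁻¹ᵁ VQ.1 := by
    rw [← Scheme.Hom.comp_preimage, Category.assoc]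
    exact (congrArg (· ⁻¹ᵁ V.1) (hπL j.left)).ge
  have hz' : (a ≫ K.subschemeι).appLE VQ.1 (πL ⁻¹ᵁ V.1) hW t = z := by
    apply (ConcreteCategory.bijective_of_isIso (c.pt.presheaf.map (eqToHom hW₀).op)).1
    refine Eq.trans ?_ hzj
    rw [← ht, ← CommRingCat.comp_apply, Scheme.Hom.appLE_map]
    exact congr($((Scheme.Hom.appLE_comp_appLE a K.subschemeι VQ.1 _ _ hUj.le h).symm) t)
  have hker : t ∈ ((prod f E).pt.ker).ideal VQ := by
    haveI : IsAffineHom ((prod f E).pt ≫ (prod f E).hom) := by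
      rw [(prod f E).pt_hom]; infer_instance
    haveI : IsAffineHom (prod f E).pt := IsAffineHom.of_comp _ (prod f E).hom
    rw [Scheme.Hom.ker_apply, RingHom.mem_ker, Scheme.Hom.app_eq_appLE]
    have hle : (prod f E).pt ⁻¹ᵁ VQ.1 ≤ φ ⁻¹ᵁ (πL ⁻¹ᵁ V.1) := by
      rw [← Scheme.Hom.comp_preimage, ← Scheme.Hom.comp_preimage, hφ, (prod f E).pt_hom]
    have e1 := appLE_congr_hom (pt_eq c φ hcone j.left).symm VQ.1 ((prod f E).pt ⁻¹ᵁ VQ.1) le_rfl
    rw [e1, ← Scheme.Hom.appLE_comp_appLE φ (a ≫ K.subschemeι) VQ.1 _ _ hW hle,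
      CommRingCat.comp_apply, hz']
    rw [Scheme.Hom.appLE, CommRingCat.comp_apply, hz, map_zero]
  obtain ⟨K', hK', hK'fg, htK'⟩ := exists_fgOn_mem _ VQ hker
  obtain ⟨k, hk, hle⟩ := exists_idx hPr E (K ⊔ K') (j.left.unop.2.2.1.sup hK'fg)
    (sup_le j.left.unop.2.2.2.1 hK')
  rw [Scheme.IdealSheafData.comap_sup, sup_le_iff] at hle
  let b : op k ⟶ j.left := (homOfLE (show j.left.unop ≤ k from ⟨hk, hle.1⟩)).op
  let ak : c.pt ⟶ k.2.1.subscheme := c.π.app (op k)
  have hfac : a ≫ K.subschemeι = (ak ≫ k.2.1.subschemeι) ≫ tr f hk := by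
    show c.π.app j.left ≫ _ = _
    rw [← c.w b, Category.assoc, Category.assoc]
    congr 1
    exact Scheme.IdealSheafData.subschemeMap_subschemeι _ _ _ (le_map_of_le f Pr b.unop.le)
  haveI := (prod f k.1).aff
  let Vk : (prod f k.1).obj.affineOpens := ⟨_, V.2.preimage (prod f k.1).hom⟩
  have hVk : Vk.1 ≤ tr f hk ⁻¹ᵁ VQ.1 := by rw [← Scheme.Hom.comp_preimage, tr_hom]
  have htk : (tr f hk).appLE VQ.1 Vk.1 hVk t ∈ k.2.1.ideal Vk := by
    refine hle.2 Vk ?_
    rw [L22.Ideals.comap_ideal (tr f hk) K' VQ Vk hVk]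
    exact Ideal.mem_map_of_mem _ htK'
  have hWk : πL ⁻¹ᵁ V.1 ≤ (ak ≫ k.2.1.subschemeι) ⁻¹ᵁ Vk.1 := by
    rw [← Scheme.Hom.comp_preimage, Category.assoc]
    exact (congrArg (· ⁻¹ᵁ V.1) (hπL (op k))).ge
  rw [← hz', appLE_congr_hom hfac,
    ← Scheme.Hom.appLE_comp_appLE (ak ≫ k.2.1.subschemeι) (tr f hk) VQ.1 Vk.1 _ hVk hWk,
    CommRingCat.comp_apply]
  exact comp_subschemeι_appLE_eq_zero ak Vk htk _ hWk

end

set_option maxHeartbeats 800000 in
/-- An affine morphism is the limit of the system. -/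
theorem nonempty_isLimit_cone (hPr : Cofinal f Pr) : Nonempty (IsLimit (cone f Pr)) := by
  classical
  haveI := nonempty_idx hPr
  haveI := isDirected_idx hPr
  let D := system f Pr ⋙ Over.forget P
  haveI : ∀ {i j} (a : i ⟶ j), IsAffineHom (D.map a) := fun a => isAffineHom_system_map f Pr a
  haveI : HasLimit D := Limit.hasLimit D
  let c := limit.cone D
  have hc : IsLimit c := limit.isLimit D
  let c' : Cone D := (Over.forget P).mapCone (cone f Pr)
  let φ : X ⟶ c.pt := hc.lift c'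
  obtain ⟨i₀⟩ : Nonempty (Idx f Pr)ᵒᵖ := inferInstance
  let πL : c.pt ⟶ P := c.π.app i₀ ≫ ((system f Pr).obj i₀).hom
  have hπL : ∀ i, c.π.app i ≫ ((system f Pr).obj i).hom = πL := by
    intro i
    show _ = c.π.app i₀ ≫ _
    rw [← c.w (IsCofiltered.minToLeft i i₀), ← c.w (IsCofiltered.minToRight i i₀), Category.assoc,
      Category.assoc, hom_transition, hom_transition]
  have hcone : ∀ i, φ ≫ c.π.app i = ((cone f Pr).π.app i).left := fun i => hc.fac c' i
  have hφ : φ ≫ πL = f := by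
    show φ ≫ c.π.app i₀ ≫ _ = f
    rw [← Category.assoc, hcone]
    exact Over.w ((cone f Pr).π.app i₀)
  haveI hπaff : ∀ i, IsAffineHom (c.π.app i) := fun i => isAffineHom_π_app D c hc i
  haveI := isAffineHom_system_hom f Pr i₀
  haveI : IsAffineHom πL := inferInstanceAs (IsAffineHom (c.π.app i₀ ≫ _))
  haveI : IsIso φ := by
    refine IsZariskiLocalAtTarget.of_iSup_eq_top (P := MorphismProperty.isomorphisms Scheme.{u})
      (fun V : P.affineOpens => πL ⁻¹ᵁ V.1) ?_ fun V => ?_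
    · rw [← Scheme.Hom.preimage_iSup, iSup_affineOpens_eq_top, Scheme.Hom.preimage_top]
    haveI : IsAffine (πL ⁻¹ᵁ V.1).toScheme := V.2.preimage πL
    have hpre : φ ⁻¹ᵁ (πL ⁻¹ᵁ V.1) = f ⁻¹ᵁ V.1 := by rw [← Scheme.Hom.comp_preimage, hφ]
    haveI : IsAffine (φ ⁻¹ᵁ (πL ⁻¹ᵁ V.1)).toScheme := hpre ▸ V.2.preimage f
    refine isIso_of_isIso_appTop (φ ∣_ (πL ⁻¹ᵁ V.1)) ?_
    suffices IsIso (φ.app (πL ⁻¹ᵁ V.1)) by
      rw [morphismRestrict_appTop]
      haveI : IsIso (φ.app ((πL ⁻¹ᵁ V.1).ι ''ᵁ ⊤)) := by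
        rw [Scheme.Opens.ι_image_top]; exact this
      infer_instance
    refine (ConcreteCategory.isIso_iff_bijective _).mpr
      ⟨(injective_iff_map_eq_zero (φ.app (πL ⁻¹ᵁ V.1)).hom).mpr
        (app_injective c φ πL hπL hcone V hPr hφ hc), app_surjective c φ πL hπL hcone V hPr hφ⟩
  have hlim' : IsLimit c' := by
    haveI : IsIso (hc.lift c') := inferInstanceAs (IsIso φ)
    exact IsLimit.ofPointIso hc
  haveI : IsConnected (Idx f Pr)ᵒᵖ := IsCofiltered.isConnected _
  exact ⟨isLimitOfReflects (Over.forget P) hlim'⟩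

end Groth.L19.Approx
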