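import Groth.Agent.L19.Approx.System
import Groth.Agent.L19.Limit.Proper
import Groth.Agent.L19.ImmLift
import Mathlib.CategoryTheory.Limits.Connected

/-!
# Proper schemes as limits of proper schemes of finite presentation
-/

universe u

open CategoryTheory CategoryTheory.Limits AlgebraicGeometry TopologicalSpace Opposite IsLocalRing

namespace Groth.L19.Approx

set_option backward.isDefEq.respectTransparency.types false
set_option backward.isDefEq.respectTransparency false
set_option backward.defeqAttrib.useBackward true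
set_option linter.style.haveILetI false

variable {X Z S : Scheme.{u}} (j : X ⟶ Z) (g : Z ⟶ S) [CompactSpace Z] [QuasiSeparatedSpace Z]
  [IsClosedImmersion j] [CompactSpace S] [QuasiSeparatedSpace S]

/-- The morphisms from the spectrum of a field through all stages factor through `X`. -/
theorem exists_lift_of_forall_mem {K : Type u} [Field K] (m : Spec (CommRingCat.of K) ⟶ Z)
    (h : ∀ i : (FGSub j.ker)ᵒᵖ, m (closedPoint K) ∈ Set.range i.unop.1.subschemeι) :
    ∃ k : Spec (CommRingCat.of K) ⟶ X, k ≫ j = m := by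
  haveI : IsConnected (FGSub j.ker)ᵒᵖ := IsCofiltered.isConnected _
  choose k hk using fun i : (FGSub j.ker)ᵒᵖ =>
    Groth.L19.exists_lift_of_isImmersion i.unop.1.subschemeι m (by
      rintro _ ⟨p, rfl⟩
      exact (Subsingleton.elim (α := PrimeSpectrum K) p (closedPoint K)) ▸ h i)
  let s : Cone (fgSystem j.ker ⋙ Over.forget Z) :=
    ⟨_, { app := k
          naturality := fun a b φ => by
            haveI : IsClosedImmersion ((fgSystem j.ker).obj b).hom :=
              inferInstanceAs (IsClosedImmersion b.unop.1.subschemeι)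
            apply (cancel_mono ((fgSystem j.ker).obj b).hom).mp
            simp only [Functor.const_obj_map, Category.id_comp, Functor.comp_map, Over.forget_map,
              Category.assoc, Over.w]
            exact (hk b).trans (hk a).symm }⟩
  obtain ⟨i₀⟩ : Nonempty (FGSub j.ker) := inferInstance
  refine ⟨(isLimitForgetFGCone j).lift s ≫ inv j.toImage, ?_⟩
  have h1 := π_app_comp j (𝟙 Z) (op i₀)
  rw [Category.comp_id, Category.comp_id] at h1
  rw [Category.assoc, ← h1, ← Category.assoc, IsLimit.fac]
  exact hk _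

/-- Some stage is universally closed over the base. -/
theorem exists_stage_universallyClosed [LocallyOfFiniteType g] [UniversallyClosed (j ≫ g)] :
    ∃ i : (FGSub j.ker)ᵒᵖ, UniversallyClosed ((overSystem j g).obj i).hom := by
  haveI : IsConnected (FGSub j.ker)ᵒᵖ := IsCofiltered.isConnected _
  haveI : QuasiCompact g := quasiCompact_of_compactSpace g
  by_contra! hne
  have key : ∀ i : (FGSub j.ker)ᵒᵖ, ∃ P : Limit.ValPair Z S, P.Comm g (𝟙 S) ∧
      P.m (closedPoint P.K) ∈ Set.range i.unop.1.subschemeι ∧ ¬ P.Lifts g (𝟙 S) := by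
    intro i
    by_contra! h
    haveI : QuasiCompact (i.unop.1.subschemeι ≫ g) := inferInstance
    refine hne i ?_
    rw [overSystem_hom]
    refine .of_valuativeCriterion _ (Limit.existence_of_valPair _ fun P hP => ?_)
    obtain ⟨l, hl, hl'⟩ := h (Limit.ValPair.mk P.R P.K (P.m ≫ i.unop.1.subschemeι) P.φ)
      (by
        show (P.m ≫ _) ≫ g = _
        rw [Category.assoc]
        exact hP)
      ⟨P.m (closedPoint P.K), by rw [Scheme.Hom.comp_apply]; rfl⟩
    change Spec (CommRingCat.of P.R) ⟶ Z at l
    change P.η ≫ l = P.m ≫ i.unop.1.subschemeι at hl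
    change l ≫ g = P.φ ≫ 𝟙 S at hl'
    have hsub : Set.range l ⊆ Set.range i.unop.1.subschemeι := by
      rintro _ ⟨p, rfl⟩
      have hη : P.η (closedPoint P.K) ⤳ p := by
        rw [← PrimeSpectrum.le_iff_specializes]
        intro a (ha : algebraMap P.R P.K a ∈ (closedPoint P.K).asIdeal)
        rw [show (closedPoint P.K).asIdeal = ⊥ from
          IsLocalRing.isField_iff_maximalIdeal_eq.mp (Field.toIsField _), Ideal.mem_bot,
          map_eq_zero_iff _ (IsFractionRing.injective P.R P.K)] at ha
        exact ha ▸ zero_mem _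
      refine (hη.map l.continuous).mem_closed
        i.unop.1.subschemeι.isClosedEmbedding.isClosed_range ⟨P.m (closedPoint P.K), ?_⟩
      exact ((congr($hl (closedPoint P.K))).trans (Scheme.Hom.comp_apply ..)).symm.trans
        (Scheme.Hom.comp_apply ..)
    obtain ⟨l', hl''⟩ := Groth.L19.exists_lift_of_isImmersion i.unop.1.subschemeι l hsub
    refine ⟨l', ?_, ?_⟩
    · apply (cancel_mono i.unop.1.subschemeι).mp
      rw [Category.assoc, hl'', hl]
    · rw [← Category.assoc, hl'', hl']
  choose P hPc hPm hPn using key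
  haveI : ∀ i : (FGSub j.ker)ᵒᵖ, CompactSpace (((Functor.const (FGSub j.ker)ᵒᵖ).obj S).obj i) :=
    fun _ => ‹CompactSpace S›
  haveI : ∀ i : (FGSub j.ker)ᵒᵖ, QuasiSeparatedSpace (((Functor.const (FGSub j.ker)ᵒᵖ).obj S).obj i) :=
    fun _ => ‹QuasiSeparatedSpace S›
  obtain ⟨T, hTeq, hTm, hTlift, -, -⟩ :=
    Limit.exists_valPair_ultra (isLimitConstCone (FGSub j.ker)ᵒᵖ S) P
  obtain ⟨i₀⟩ : Nonempty (FGSub j.ker) := inferInstance
  have hTc : T.Comm g (𝟙 S) := by
    have := hTeq (op i₀) g (𝟙 S) fun i b => by simpa using hPc i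
    simpa [Limit.ValPair.Comm] using this
  obtain ⟨k, hk⟩ := exists_lift_of_forall_mem j T.m fun i =>
    hTm i _ i.unop.1.subschemeι.isClosedEmbedding.isClosed_range fun i' b => by
      obtain ⟨y, hy⟩ := hPm i'
      refine ⟨((fgSystem j.ker).map b).left y, ?_⟩
      refine (Scheme.Hom.comp_apply _ _ y).symm.trans ?_
      exact (congr($(Over.w ((fgSystem j.ker).map b)) y)).trans hy
  obtain ⟨l, hl, hl'⟩ := Limit.lifts_of_universallyClosed (j ≫ g)
    (Limit.ValPair.mk T.R T.K k T.φ) (by
      show k ≫ j ≫ g = _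
      rw [reassoc_of% hk]
      exact hTc)
  change Spec (CommRingCat.of T.R) ⟶ X at l
  change T.η ≫ l = k at hl
  change l ≫ j ≫ g = T.φ ≫ 𝟙 S at hl'
  obtain ⟨i, b, hlift⟩ := hTlift (op i₀) g (𝟙 S) (fun i b => by simpa using hPc i)
    ⟨l ≫ j, by rw [← hk, ← hl, Category.assoc], by simpa using hl'⟩
  exact hPn i (by simpa [Limit.ValPair.Lifts] using hlift)

/-- Some stage, and all later ones, are proper over the base. -/
theorem exists_stage_isProper [LocallyOfFiniteType g] [QuasiSeparated g] [IsProper (j ≫ g)] :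
    ∃ i : (FGSub j.ker)ᵒᵖ, ∀ k : (FGSub j.ker)ᵒᵖ, (k ⟶ i) →
      IsProper ((overSystem j g).obj k).hom := by
  haveI : QuasiCompact g := quasiCompact_of_compactSpace g
  obtain ⟨i₁, h₁⟩ := exists_stage_universallyClosed j g
  obtain ⟨i₂, h₂⟩ := exists_stage_isSeparated j g
  refine ⟨IsCofiltered.min i₁ i₂, fun k a => ?_⟩
  haveI := isClosedImmersion_overSystem_map j g (a ≫ IsCofiltered.minToLeft i₁ i₂)
  haveI := isClosedImmersion_overSystem_map j g (a ≫ IsCofiltered.minToRight i₁ i₂)
  haveI : UniversallyClosed ((overSystem j g).obj k).hom := by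
    rw [← Over.w ((overSystem j g).map (a ≫ IsCofiltered.minToLeft i₁ i₂))]
    exact MorphismProperty.comp_mem _ _ _ inferInstance h₁
  haveI : IsSeparated ((overSystem j g).obj k).hom := by
    rw [← Over.w ((overSystem j g).map (a ≫ IsCofiltered.minToRight i₁ i₂))]
    exact MorphismProperty.comp_mem _ _ _ inferInstance h₂
  haveI : LocallyOfFiniteType ((overSystem j g).obj k).hom :=
    inferInstanceAs (LocallyOfFiniteType (k.unop.1.subschemeι ≫ g))
  exact { }

omit [IsClosedImmersion j] [CompactSpace Z] [QuasiSeparatedSpace Z] [CompactSpace S] [QuasiSeparatedSpace S] in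
theorem isClosedImmersion_overCone_π (i : (FGSub j.ker)ᵒᵖ) :
    IsClosedImmersion ((overCone j g).π.app i).left := by
  haveI : IsClosedImmersion (((overCone j g).π.app i).left ≫ i.unop.1.subschemeι) := by
    rw [show ((overCone j g).π.app i).left ≫ i.unop.1.subschemeι = j.imageι from
      Over.w ((fgCone j.ker).π.app i)]
    infer_instance
  exact IsClosedImmersion.of_comp_isClosedImmersion _ i.unop.1.subschemeι

end Groth.L19.Approx
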