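import Mathlib.AlgebraicGeometry.Gluing
import Mathlib.AlgebraicGeometry.Morphisms.QuasiSeparated
import Mathlib.CategoryTheory.Limits.Shapes.Pullback.HasPullback

/-!
# Gluing two schemes along an open subscheme
-/

universe u

open CategoryTheory CategoryTheory.Limits AlgebraicGeometry TopologicalSpace

namespace Groth.L19.Approx

set_option backward.isDefEq.respectTransparency.types false
set_option backward.isDefEq.respectTransparency false
set_option backward.defeqAttrib.useBackward true
set_option linter.style.haveILetI false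

variable {Z A B : Scheme.{u}} (a : Z ⟶ A) (b : Z ⟶ B) [IsOpenImmersion a] [IsOpenImmersion b]

instance isOpenImmersion_span_map {i j : WalkingSpan} (f : i ⟶ j) :
    IsOpenImmersion ((span a b).map f) := by
  cases f with
  | id => exact inferInstanceAs (IsOpenImmersion ((span a b).map (𝟙 i)))
  | init k =>
    cases k with
    | left => exact inferInstanceAs (IsOpenImmersion a)
    | right => exact inferInstanceAs (IsOpenImmersion b)

instance hasPushout_openImmersion : HasPushout a b :=
  inferInstanceAs (HasColimit (span a b))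

instance isOpenImmersion_inl : IsOpenImmersion (pushout.inl a b) :=
  inferInstanceAs (IsOpenImmersion (colimit.ι (span a b) WalkingSpan.left))

instance isOpenImmersion_inr : IsOpenImmersion (pushout.inr a b) :=
  inferInstanceAs (IsOpenImmersion (colimit.ι (span a b) WalkingSpan.right))

theorem exists_inl_or_inr (p : (pushout a b : Scheme.{u})) :
    (∃ x, pushout.inl a b x = p) ∨ ∃ y, pushout.inr a b y = p := by
  obtain ⟨i, x, rfl⟩ := Scheme.IsLocallyDirected.ι_jointly_surjective (span a b) p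
  match i, x with
  | none, x =>
    refine Or.inl ⟨a x, ?_⟩
    exact congr($(colimit.w (span a b) WalkingSpan.Hom.fst) x)
  | some .left, x => exact Or.inl ⟨x, rfl⟩
  | some .right, x => exact Or.inr ⟨x, rfl⟩

theorem exists_of_inl_eq_inr {x : A} {y : B} (h : pushout.inl a b x = pushout.inr a b y) :
    ∃ z, a z = x ∧ b z = y := by
  obtain ⟨k, fi, fj, z, hi, hj⟩ :=
    (Scheme.IsLocallyDirected.ι_eq_ι_iff (span a b) (i := WalkingSpan.left)
      (j := WalkingSpan.right)).mp h
  cases fi with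
  | id => cases fj
  | init k =>
    cases fj with
    | init k' => exact ⟨z, hi, hj⟩

theorem opensRange_sup_opensRange :
    (pushout.inl a b).opensRange ⊔ (pushout.inr a b).opensRange = ⊤ :=
  top_le_iff.mp fun p _ => (exists_inl_or_inr a b p).imp id id

theorem preimage_inl_opensRange_inr :
    pushout.inl a b ⁻¹ᵁ (pushout.inr a b).opensRange = a.opensRange := by
  ext x
  constructor
  · rintro ⟨y, hy⟩
    obtain ⟨z, hz, -⟩ := exists_of_inl_eq_inr a b hy.symm
    exact ⟨z, hz⟩
  · rintro ⟨z, rfl⟩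
    exact ⟨b z, congr($(pushout.condition (f := a) (g := b)) z).symm⟩

/-- A scheme covered by two quasi-separated opens with quasi-compact intersection is
quasi-separated. -/
theorem quasiSeparatedSpace_of_sup {X : Scheme.{u}} (U V : X.Opens) (h : U ⊔ V = ⊤)
    (hU : IsQuasiSeparated (U : Set X)) (hV : IsQuasiSeparated (V : Set X))
    (hUV : IsCompact ((U ⊓ V : X.Opens) : Set X)) : QuasiSeparatedSpace X := by
  have hmem : ∀ x : X, x ∈ U ∨ x ∈ V := fun x => by
    simpa using h.ge (Opens.mem_top x)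
  have key : ∀ (U V : X.Opens), (∀ x, x ∈ U ∨ x ∈ V) → IsQuasiSeparated (V : Set X) →
      IsCompact ((U ⊓ V : X.Opens) : Set X) → ∀ W : X.Opens, IsCompact (W : Set X) →
      IsCompact ((W : Set X) ∩ U) := by
    intro U V hmem hV hUV W hW
    obtain ⟨K, hK⟩ : ∃ K : Finset {T : X.affineOpens // T.1 ≤ W ∧ (T.1 ≤ U ∨ T.1 ≤ V)},
        (W : Set X) ⊆ ⋃ T ∈ K, (T.1.1 : Set X) := by
      refine hW.elim_finite_subcover _ (fun T => T.1.1.2) fun x hx => ?_
      rcases hmem x with h | h
      · obtain ⟨_, ⟨T, hT, rfl⟩, hxT, hle⟩ := X.isBasis_affineOpens.exists_subset_of_mem_open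
          (show x ∈ W ⊓ U from ⟨hx, h⟩) (W ⊓ U).2
        exact Set.mem_iUnion.mpr ⟨⟨⟨T, hT⟩, fun y hy => (hle hy).1, .inl fun y hy => (hle hy).2⟩, hxT⟩
      · obtain ⟨_, ⟨T, hT, rfl⟩, hxT, hle⟩ := X.isBasis_affineOpens.exists_subset_of_mem_open
          (show x ∈ W ⊓ V from ⟨hx, h⟩) (W ⊓ V).2
        exact Set.mem_iUnion.mpr ⟨⟨⟨T, hT⟩, fun y hy => (hle hy).1, .inr fun y hy => (hle hy).2⟩, hxT⟩
    have e : (W : Set X) ∩ U = ⋃ T ∈ K, ((T.1.1 : Set X) ∩ U) := by
      ext x
      simp only [Set.mem_inter_iff, Set.mem_iUnion]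
      constructor
      · rintro ⟨hx, hxU⟩
        obtain ⟨T, hT, hxT⟩ := Set.mem_iUnion₂.mp (hK hx)
        exact ⟨T, hT, hxT, hxU⟩
      · rintro ⟨T, _, hxT, hxU⟩
        exact ⟨T.2.1 hxT, hxU⟩
    rw [e]
    refine K.finite_toSet.isCompact_biUnion fun T _ => ?_
    rcases T.2.2 with hle | hle
    · rw [Set.inter_eq_left.mpr hle]
      exact T.1.2.isCompact
    · have e : (T.1.1 : Set X) ∩ U = (T.1.1 : Set X) ∩ ((U ⊓ V : X.Opens) : Set X) := by
        ext x
        exact ⟨fun h => ⟨h.1, h.2, hle h.1⟩, fun h => ⟨h.1, h.2.1⟩⟩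
      rw [e]
      exact hV _ _ hle T.1.1.2 T.1.2.isCompact (fun x hx => hx.2) (U ⊓ V).2 hUV
  refine ⟨fun W W' hW hWc hW' hWc' => ?_⟩
  have e : W ∩ W' = (W ∩ U) ∩ (W' ∩ U) ∪ (W ∩ V) ∩ (W' ∩ V) := by
    ext x
    constructor
    · rintro ⟨h1, h2⟩
      rcases hmem x with h | h
      · exact .inl ⟨⟨h1, h⟩, h2, h⟩
      · exact .inr ⟨⟨h1, h⟩, h2, h⟩
    · rintro (⟨h1, h2⟩ | ⟨h1, h2⟩) <;> exact ⟨h1.1, h2.1⟩
  rw [e]
  have hmem' : ∀ x : X, x ∈ V ∨ x ∈ U := fun x => (hmem x).symm
  have hVU : IsCompact ((V ⊓ U : X.Opens) : Set X) := inf_comm U V ▸ hUV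
  exact (hU _ _ Set.inter_subset_right (hW.inter U.2) (key U V hmem hV hUV ⟨W, hW⟩ hWc)
      Set.inter_subset_right (hW'.inter U.2) (key U V hmem hV hUV ⟨W', hW'⟩ hWc')).union
    (hV _ _ Set.inter_subset_right (hW.inter V.2) (key V U hmem' hU hVU ⟨W, hW⟩ hWc)
      Set.inter_subset_right (hW'.inter V.2) (key V U hmem' hU hVU ⟨W', hW'⟩ hWc'))

theorem compactSpace_pushout [CompactSpace A] [CompactSpace B] :
    CompactSpace (pushout a b : Scheme.{u}) := by
  refine ⟨?_⟩
  have e : (Set.univ : Set (pushout a b : Scheme.{u})) =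
      Set.range (pushout.inl a b) ∪ Set.range (pushout.inr a b) :=
    (Set.eq_univ_of_forall fun p => exists_inl_or_inr a b p).symm
  rw [e]
  exact (isCompact_range (pushout.inl a b).continuous).union
    (isCompact_range (pushout.inr a b).continuous)

theorem quasiSeparatedSpace_pushout [QuasiSeparatedSpace A] [QuasiSeparatedSpace B]
    [CompactSpace Z] : QuasiSeparatedSpace (pushout a b : Scheme.{u}) := by
  refine quasiSeparatedSpace_of_sup _ _ (opensRange_sup_opensRange a b) ?_ ?_ ?_
  · simpa using isQuasiSeparated_univ.image_of_isEmbedding (pushout.inl a b).isOpenEmbedding.isEmbedding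
  · simpa using isQuasiSeparated_univ.image_of_isEmbedding (pushout.inr a b).isOpenEmbedding.isEmbedding
  · have : (((pushout.inl a b).opensRange ⊓ (pushout.inr a b).opensRange : (pushout a b).Opens) :
        Set (pushout a b : Scheme.{u})) = Set.range (a ≫ pushout.inl a b) := by
      rw [Scheme.Hom.comp_base, TopCat.coe_comp, Set.range_comp]
      have := congrArg (fun U : A.Opens => (pushout.inl a b) '' (U : Set A))
        (preimage_inl_opensRange_inr a b)
      simp only [Scheme.Hom.coe_opensRange, Opens.map_coe, Set.image_preimage_eq_inter_range] at this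
      rw [← this, Set.inter_comm]
      rfl
    rw [this]
    exact isCompact_range (a ≫ pushout.inl a b).continuous

/-- A scheme covered by two opens is their pushout. -/
theorem exists_glue {X : Scheme.{u}} (U V : X.Opens) (h : U ⊔ V = ⊤) {P : Scheme.{u}}
    (f : U.toScheme ⟶ P) (g : V.toScheme ⟶ P)
    (hfg : X.homOfLE (inf_le_left : U ⊓ V ≤ U) ≫ f = X.homOfLE (inf_le_right : U ⊓ V ≤ V) ≫ g) :
    ∃ φ : X ⟶ P, U.ι ≫ φ = f ∧ V.ι ≫ φ = g := by
  let 𝒰 := X.openCoverOfIsOpenCover (fun i : Bool => cond i U V)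
    (top_le_iff.mp (h.ge.trans (sup_le (le_iSup_of_le true le_rfl) (le_iSup_of_le false le_rfl))))
  let F : ∀ i, 𝒰.X i ⟶ P := fun i => match i with
    | true => f
    | false => g
  have compat : pullback.fst U.ι V.ι ≫ f = pullback.snd U.ι V.ι ≫ g := by
    let l := IsOpenImmersion.lift (U ⊓ V).ι (pullback.fst U.ι V.ι ≫ U.ι) (by
      rw [IsOpenImmersion.range_pullback_to_base_of_left]
      simp [Scheme.Opens.range_ι])
    have h1 : l ≫ X.homOfLE (inf_le_left : U ⊓ V ≤ U) = pullback.fst U.ι V.ι := by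
      rw [← cancel_mono U.ι, Category.assoc, Scheme.homOfLE_ι, IsOpenImmersion.lift_fac]
    have h2 : l ≫ X.homOfLE (inf_le_right : U ⊓ V ≤ V) = pullback.snd U.ι V.ι := by
      rw [← cancel_mono V.ι, Category.assoc, Scheme.homOfLE_ι, IsOpenImmersion.lift_fac,
        pullback.condition]
    rw [← h1, ← h2, Category.assoc, Category.assoc, hfg]
  have hc : ∀ i j, pullback.fst (𝒰.f i) (𝒰.f j) ≫ F i = pullback.snd _ _ ≫ F j := by
    intro i j
    match i, j with
    | true, true =>
      exact congrArg (· ≫ f) ((cancel_mono U.ι).mp pullback.condition)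
    | false, false =>
      exact congrArg (· ≫ g) ((cancel_mono V.ι).mp pullback.condition)
    | true, false => exact compat
    | false, true =>
      have := congrArg ((pullbackSymmetry V.ι U.ι).hom ≫ ·) compat
      simp only [pullbackSymmetry_hom_comp_fst_assoc, pullbackSymmetry_hom_comp_snd_assoc] at this
      exact this.symm
  exact ⟨𝒰.glueMorphisms F hc, 𝒰.ι_glueMorphisms F hc true, 𝒰.ι_glueMorphisms F hc false⟩

end Groth.L19.Approx
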