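import Groth.Agent.L19.Approx.Closed
import Groth.Agent.L19.Approx.Glue
import Groth.Agent.L19.Limit.Fixed
import Groth.Agent.S12442

/-!
# Embedding a scheme of finite type into one of finite presentation
-/

universe u

open CategoryTheory CategoryTheory.Limits AlgebraicGeometry TopologicalSpace Opposite

namespace Groth.L19.Approx

set_option backward.isDefEq.respectTransparency.types false
set_option backward.isDefEq.respectTransparency false
set_option backward.defeqAttrib.useBackward true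
set_option linter.style.haveILetI false

/-- `f` factors as a closed immersion into a qcqs scheme locally of finite presentation over the
base, followed by the structure morphism. -/
def Embeds {X S : Scheme.{u}} (f : X ⟶ S) : Prop :=
  ∃ (Z : Scheme.{u}) (g : Z ⟶ S) (j : X ⟶ Z), LocallyOfFinitePresentation g ∧
    CompactSpace Z ∧ QuasiSeparatedSpace Z ∧ IsClosedImmersion j ∧ j ≫ g = f

theorem Embeds.of_iso {X Y S : Scheme.{u}} (e : Y ⟶ X) [IsIso e] {f : X ⟶ S} (h : Embeds f) :
    Embeds (e ≫ f) := by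
  obtain ⟨Z, g, j, hg, hc, hq, hj, rfl⟩ := h
  exact ⟨Z, g, e ≫ j, hg, hc, hq, inferInstance, Category.assoc _ _ _⟩

theorem embeds_of_isEmpty {X S : Scheme.{u}} [IsEmpty X] (f : X ⟶ S) : Embeds f := by
  haveI : CompactSpace X := Finite.compactSpace
  haveI : QuasiSeparatedSpace X :=
    ⟨fun U V _ _ _ _ => (Subsingleton.elim (U ∩ V) ∅) ▸ isCompact_empty⟩
  haveI : IsOpenImmersion f := inferInstance
  exact ⟨X, f, 𝟙 X, inferInstance, inferInstance, inferInstance, inferInstance, Category.id_comp f⟩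

theorem embeds_of_isAffine {X S : Scheme.{u}} [IsAffine X] (f : X ⟶ S) [LocallyOfFiniteType f]
    (V : S.Opens) (hV : IsAffineOpen V) (hf : ∀ x, f x ∈ V) : Embeds f := by
  let l : X ⟶ Spec Γ(S, V) := IsOpenImmersion.lift hV.fromSpec f (by
    rw [hV.range_fromSpec]; rintro _ ⟨x, rfl⟩; exact hf x)
  have hl : l ≫ hV.fromSpec = f := IsOpenImmersion.lift_fac _ _ _
  haveI : LocallyOfFiniteType (l ≫ hV.fromSpec) := hl ▸ inferInstance
  haveI : LocallyOfFiniteType l := locallyOfFiniteType_of_comp l hV.fromSpec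
  let φ : Γ(S, V) ⟶ Γ(X, ⊤) := Spec.preimage (X.isoSpec.inv ≫ l)
  haveI : LocallyOfFiniteType (Spec.map φ) := by
    rw [Spec.map_preimage]; infer_instance
  have hft : φ.hom.FiniteType := (HasRingHomProperty.Spec_iff (P := @LocallyOfFiniteType)).mp ‹_›
  algebraize [φ.hom]
  obtain ⟨n, g, hg⟩ := Algebra.FiniteType.iff_quotient_mvPolynomial''.mp
    (show Algebra.FiniteType Γ(S, V) Γ(X, ⊤) from hft)
  let C : CommRingCat.{u} := CommRingCat.of (MvPolynomial (Fin n) Γ(S, V))
  let ψ : Γ(S, V) ⟶ C := CommRingCat.ofHom MvPolynomial.C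
  haveI : LocallyOfFinitePresentation (Spec.map ψ) :=
    (HasRingHomProperty.Spec_iff (P := @LocallyOfFinitePresentation)).mpr (by
      rw [show ψ.hom = algebraMap Γ(S, V) (MvPolynomial (Fin n) Γ(S, V)) from rfl,
        RingHom.finitePresentation_algebraMap]
      infer_instance)
  haveI : IsClosedImmersion (Spec.map (CommRingCat.ofHom g.toRingHom) : Spec Γ(X, ⊤) ⟶ Spec C) :=
    IsClosedImmersion.spec_of_surjective _ hg
  refine ⟨Spec C, Spec.map ψ ≫ hV.fromSpec,
    X.isoSpec.hom ≫ Spec.map (CommRingCat.ofHom g.toRingHom), inferInstance, inferInstance,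
    inferInstance, inferInstance, ?_⟩
  have e : ψ ≫ CommRingCat.ofHom g.toRingHom = φ := by
    ext x; exact g.commutes x
  rw [Category.assoc, ← Spec.map_comp_assoc, e, Spec.map_preimage, Category.assoc,
    Iso.hom_inv_id_assoc, hl]

theorem comap_map_of_isOpenImmersion {G Z : Scheme.{u}} (ι : G ⟶ Z) [IsOpenImmersion ι]
    [QuasiCompact ι] (I : G.IdealSheafData) : (I.map ι).comap ι = I := by
  ext V : 2
  have H : IsAffineOpen (ι ⁻¹ᵁ (ι ''ᵁ V.1)) := by
    rw [ι.preimage_image_eq]; exact V.2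
  rw [Scheme.IdealSheafData.ideal_comap_of_isOpenImmersion,
    Scheme.IdealSheafData.ideal_map _ _ _ H, Ideal.comap_comap, ← CommRingCat.hom_comp,
    Scheme.Hom.appIso_inv_app]
  have hsq : ∀ (W : G.affineOpens) (e : W = V),
      (I.ideal W).comap (G.presheaf.map (eqToHom (congrArg (fun U : G.affineOpens => U.1) e)).op).hom =
        I.ideal V := by
    intro W e; subst e; simp
  exact hsq ⟨_, H⟩ (Subtype.ext (ι.preimage_image_eq V.1))

theorem comap_inf_of_isOpenImmersion {G Z : Scheme.{u}} (ι : G ⟶ Z) [IsOpenImmersion ι]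
    (I J : Z.IdealSheafData) : (I ⊓ J).comap ι = I.comap ι ⊓ J.comap ι := by
  ext V : 2
  simp only [Scheme.IdealSheafData.ideal_inf, Pi.inf_apply,
    Scheme.IdealSheafData.ideal_comap_of_isOpenImmersion, Ideal.comap_inf]

theorem ker_eq_comap_of_isPullback {N U G Z : Scheme.{u}} {jG : N ⟶ G} {p : N ⟶ U} {ι : G ⟶ Z}
    {j : U ⟶ Z} [IsClosedImmersion j] (h : IsPullback jG p ι j) : jG.ker = j.ker.comap ι := by
  rw [← h.isoPullback_hom_fst, Scheme.Hom.ker_comp_of_isIso,
    Scheme.IdealSheafData.ker_fst_of_isClosedImmersion]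

/-- A closed subscheme of finite presentation of a quasi-compact open, containing a given closed
subscheme, extends to one of the whole scheme. -/
theorem exists_extend {N U M Z : Scheme.{u}} [CompactSpace Z] [QuasiSeparatedSpace Z]
    (G : Z.Opens) (hG : IsCompact (G : Set Z)) (j : U ⟶ Z) [IsClosedImmersion j]
    (jG : N ⟶ G.toScheme) (p : N ⟶ U) (hpb : IsPullback jG p G.ι j)
    (m : M ⟶ G.toScheme) [IsClosedImmersion m] [LocallyOfFinitePresentation m]
    (hle : m.ker ≤ jG.ker) :
    ∃ (K : Z.IdealSheafData) (a : M ⟶ K.subscheme), FGOn K ⊤ ∧ K ≤ j.ker ∧ IsOpenImmersion a ∧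
      a ≫ K.subschemeι = m ≫ G.ι ∧ (↑(K.subschemeι ⁻¹ᵁ G) : Set K.subscheme) = Set.range a := by
  haveI : CompactSpace G := isCompact_iff_compactSpace.mp hG
  haveI : QuasiCompact G.ι := quasiCompact_of_compactSpace _
  let L := j.ker ⊓ m.ker.map G.ι
  have hL : L.comap G.ι = m.ker := by
    rw [comap_inf_of_isOpenImmersion, comap_map_of_isOpenImmersion, ← ker_eq_comap_of_isPullback hpb]
    exact inf_eq_right.mpr hle
  have hfg : FGOn L G := by
    intro V hV
    have hV' : G.ι ''ᵁ (G.ι ⁻¹ᵁ V.1) = V.1 := by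
      rw [Scheme.Hom.image_preimage_eq_opensRange_inf, Scheme.Opens.opensRange_ι]
      exact inf_eq_right.mpr hV
    have H : IsAffineOpen (G.ι ⁻¹ᵁ V.1) :=
      V.2.preimage_of_isOpenImmersion _ (by rw [Scheme.Opens.opensRange_ι]; exact hV)
    have h := fgOn_ker m ⟨_, H⟩ le_top
    rw [← hL, Scheme.IdealSheafData.ideal_comap_of_isOpenImmersion] at h
    have h' := h.map (G.ι.appIso (G.ι ⁻¹ᵁ V.1)).inv.hom
    rw [Ideal.map_comap_of_surjective _
      (ConcreteCategory.bijective_of_isIso (G.ι.appIso (G.ι ⁻¹ᵁ V.1)).inv).2] at h'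
    have e : (⟨_, H.image_of_isOpenImmersion G.ι⟩ : Z.affineOpens) = V := Subtype.ext hV'
    rw [← e]
    exact h'
  obtain ⟨K, hKL, hK, heq⟩ := exists_fgOn_top L hG hfg
  have hcomap : K.comap G.ι = m.ker := by
    rw [← hL]
    ext V : 2
    simp only [Scheme.IdealSheafData.ideal_comap_of_isOpenImmersion]
    rw [heq _ ((G.ι.image_le_opensRange _).trans G.opensRange_ι.le)]
  have hker : K ≤ (m ≫ G.ι).ker := by
    rw [Scheme.Hom.ker_comp]
    exact Scheme.IdealSheafData.le_map_iff_comap_le.mpr hcomap.le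
  let a : M ⟶ K.subscheme :=
    IsClosedImmersion.lift K.subschemeι (m ≫ G.ι) (K.ker_subschemeι.le.trans hker)
  have ha : a ≫ K.subschemeι = m ≫ G.ι := IsClosedImmersion.lift_fac _ _ _
  have hsq : IsPullback m a G.ι K.subschemeι :=
    isPullback_of_isClosedImmersion m K.subschemeι a G.ι ha.symm (by rw [K.ker_subschemeι, hcomap])
  haveI : IsOpenImmersion a := MorphismProperty.of_isPullback hsq inferInstance
  refine ⟨K, a, hK, hKL.trans inf_le_left, inferInstance, ha, ?_⟩
  have h := IsOpenImmersion.image_preimage_eq_preimage_image_of_isPullback hsq ⊤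
  simpa using congrArg (fun U : K.subscheme.Opens => (U : Set K.subscheme)) h.symm

theorem compactSpace_subscheme {Z : Scheme.{u}} [CompactSpace Z] (K : Z.IdealSheafData) :
    CompactSpace K.subscheme :=
  QuasiCompact.compactSpace_of_compactSpace K.subschemeι

theorem isIso_ι_of_eq_top {Z : Scheme.{u}} {U : Z.Opens} (h : U = ⊤) : IsIso U.ι := by
  subst h
  exact inferInstanceAs (IsIso Z.topIso.hom)

theorem exists_isOpen_preimage_eq {U Z : Scheme.{u}} (j : U ⟶ Z) [IsClosedImmersion j]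
    (O : U.Opens) (hO : IsCompact (O : Set U)) :
    ∃ G : Z.Opens, IsCompact (G : Set Z) ∧ j ⁻¹ᵁ G = O := by
  obtain ⟨t, ht, hte⟩ := j.isClosedEmbedding.isInducing.isOpen_iff.mp O.2
  obtain ⟨F, hF⟩ := (hO.image j.continuous).elim_finite_subcover
    (fun V : {V : Z.affineOpens // (V.1 : Set Z) ⊆ t} => (V.1.1 : Set Z)) (fun V => V.1.1.2)
    (fun y hy => by
      obtain ⟨x, hx, rfl⟩ := hy
      obtain ⟨_, ⟨V, hV, rfl⟩, hxV, hle⟩ :=
        Z.isBasis_affineOpens.exists_subset_of_mem_open (hte.ge hx) ht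
      exact Set.mem_iUnion.mpr ⟨⟨⟨V, hV⟩, hle⟩, hxV⟩)
  refine ⟨⨆ V : F, V.1.1.1, ?_, ?_⟩
  · rw [Opens.coe_iSup]
    exact isCompact_iUnion fun V => V.1.1.2.isCompact
  · ext x
    simp only [Opens.map_coe, Set.mem_preimage, Opens.coe_iSup, Set.mem_iUnion]
    constructor
    · rintro ⟨V, hV⟩
      exact hte.le (V.1.2 hV)
    · intro hx
      obtain ⟨V, hV, hxV⟩ := Set.mem_iUnion₂.mp (hF ⟨x, hx, rfl⟩)
      exact ⟨⟨V, hV⟩, hxV⟩

theorem isClosedImmersion_morphismRestrict_of_isPullback {T U A P : Scheme.{u}} {φ : T ⟶ P}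
    {i : A ⟶ P} [IsOpenImmersion i] {j' : U ⟶ A} {u : U ⟶ T} (h : IsPullback j' u i φ)
    [IsClosedImmersion j'] : IsClosedImmersion (φ ∣_ i.opensRange) := by
  rw [MorphismProperty.arrow_mk_iso_iff @IsClosedImmersion (morphismRestrictOpensRange φ i),
    ← h.flip.isoPullback_inv_snd, MorphismProperty.cancel_left_of_respectsIso (P := @IsClosedImmersion)]
  infer_instance

set_option maxHeartbeats 800000 in
theorem embeds_of_sup {T S : Scheme.{u}} [QuasiSeparatedSpace T] [QuasiSeparatedSpace S]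
    (q : T ⟶ S) (U W : T.Opens) (hcov : U ⊔ W = ⊤) (hUc : IsCompact (U : Set T))
    (hWc : IsCompact (W : Set T)) (hU : Embeds (U.ι ≫ q)) (hW : Embeds (W.ι ≫ q)) :
    Embeds q := by
  obtain ⟨Z, g, j, hg, hZc, hZq, hj, hjg⟩ := hU
  obtain ⟨A, gA, k, hgA, hAc, hAq, hk, hkg⟩ := hW
  let p := T.homOfLE (inf_le_left : U ⊓ W ≤ U)
  let r := T.homOfLE (inf_le_right : U ⊓ W ≤ W)
  have hc : IsCompact ((U ⊓ W : T.Opens) : Set T) := hUc.inter_of_isOpen hWc U.2 W.2
  haveI : CompactSpace (U ⊓ W).toScheme := isCompact_iff_compactSpace.mp hc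
  obtain ⟨G, hGc, hG⟩ := exists_isOpen_preimage_eq j p.opensRange (by
    rw [Scheme.Hom.coe_opensRange]; exact isCompact_range p.continuous)
  obtain ⟨H, hHc, hH⟩ := exists_isOpen_preimage_eq k r.opensRange (by
    rw [Scheme.Hom.coe_opensRange]; exact isCompact_range r.continuous)
  have hG' : ∀ x, (p ≫ j) x ∈ G := fun x => hG.ge ⟨x, rfl⟩
  have hH' : ∀ x, (r ≫ k) x ∈ H := fun x => hH.ge ⟨x, rfl⟩
  let jG : (U ⊓ W).toScheme ⟶ G.toScheme := IsOpenImmersion.lift G.ι (p ≫ j)
    (by rw [Scheme.Opens.range_ι]; rintro _ ⟨x, rfl⟩; exact hG' x)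
  let kH : (U ⊓ W).toScheme ⟶ H.toScheme := IsOpenImmersion.lift H.ι (r ≫ k)
    (by rw [Scheme.Opens.range_ι]; rintro _ ⟨x, rfl⟩; exact hH' x)
  have hjG : jG ≫ G.ι = p ≫ j := IsOpenImmersion.lift_fac _ _ _
  have hkH : kH ≫ H.ι = r ≫ k := IsOpenImmersion.lift_fac _ _ _
  have pbG : IsPullback jG p G.ι j := IsOpenImmersion.isPullback _ _ _ _ hjG.symm
    (by rw [Scheme.Opens.opensRange_ι, hG])
  have pbH : IsPullback kH r H.ι k := IsOpenImmersion.isPullback _ _ _ _ hkH.symm
    (by rw [Scheme.Opens.opensRange_ι, hH])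
  haveI : IsClosedImmersion jG := MorphismProperty.of_isPullback pbG.flip hj
  haveI : IsClosedImmersion kH := MorphismProperty.of_isPullback pbH.flip hk
  haveI : CompactSpace G := isCompact_iff_compactSpace.mp hGc
  haveI : CompactSpace H := isCompact_iff_compactSpace.mp hHc
  haveI : QuasiSeparatedSpace G.toScheme := .of_isOpenEmbedding G.ι.isOpenEmbedding
  haveI : QuasiSeparatedSpace H.toScheme := .of_isOpenEmbedding H.ι.isOpenEmbedding
  let D := fgSystem jG.ker ⋙ Over.forget G.toScheme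
  let c : Cone D := (Over.forget G.toScheme).mapCone (fgCone jG.ker)
  haveI : IsConnected (FGSub jG.ker)ᵒᵖ := IsCofiltered.isConnected _
  have hlim : IsLimit c := isLimitOfPreserves (Over.forget G.toScheme) (isLimitFGCone jG.ker)
  haveI : ∀ i, CompactSpace (D.obj i) := fun i =>
    compactSpace_subscheme i.unop.1
  haveI hqs : ∀ i, QuasiSeparatedSpace (D.obj i) := fun i =>
    quasiSeparatedSpace_of_quasiSeparated i.unop.1.subschemeι
  haveI haff : ∀ {i i'} (f : i ⟶ i'), IsAffineHom (D.map f) := fun f => by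
    haveI : IsClosedImmersion (D.map f) := isClosedImmersion_fgSystem_map jG.ker f
    infer_instance
  let t : D ⟶ (Functor.const _).obj S :=
    { app := fun i => ((fgSystem jG.ker).obj i).hom ≫ G.ι ≫ g
      naturality := fun i i' f => by
        simp only [D, Functor.comp_map, Over.forget_map, Functor.const_obj_map, Over.w_assoc]
        exact (Category.comp_id _).symm }
  let e : c.pt ⟶ (U ⊓ W).toScheme := inv jG.toImage
  have he : e ≫ jG = jG.imageι := by rw [IsIso.inv_comp_eq, Scheme.Hom.toImage_imageι]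
  haveI : IsIso e := inferInstanceAs (IsIso (inv jG.toImage))
  have hp : p ≫ U.ι = r ≫ W.ι := by simp [p, r]
  have hc' : ∀ i, c.π.app i ≫ ((fgSystem jG.ker).obj i).hom = jG.imageι := fun i =>
    Over.w ((fgCone jG.ker).π.app i)
  obtain ⟨i, h₀, hh₀, hh₀'⟩ := Scheme.exists_π_app_comp_eq_of_locallyOfFinitePresentation
    D t (H.ι ≫ gA) c hlim (e ≫ kH) (by
      ext i : 2
      simp only [NatTrans.comp_app, Functor.const_map_app, Category.assoc]
      calc c.π.app i ≫ t.app i = (c.π.app i ≫ ((fgSystem jG.ker).obj i).hom) ≫ G.ι ≫ g := by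
              simp [t]
        _ = e ≫ p ≫ j ≫ g := by rw [hc' i, ← he, Category.assoc, reassoc_of% hjG]
        _ = e ≫ kH ≫ H.ι ≫ gA := by rw [reassoc_of% hkH, hjg, hkg, reassoc_of% hp])
  haveI : LocallyOfFiniteType h₀ := by
    haveI : LocallyOfFinitePresentation ((fgSystem jG.ker).obj i).hom := lfp_fgSystem _ i
    haveI : LocallyOfFiniteType (h₀ ≫ H.ι ≫ gA) := by
      rw [hh₀']
      change LocallyOfFiniteType (((fgSystem jG.ker).obj i).hom ≫ G.ι ≫ g)
      infer_instance
    exact locallyOfFiniteType_of_comp h₀ (H.ι ≫ gA)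
  haveI : IsClosedImmersion (c.π.app i ≫ h₀) := by rw [hh₀]; infer_instance
  haveI : QuasiCompact h₀ := quasiCompact_of_compactSpace h₀
  obtain ⟨i', φ, hφ⟩ := Limit.exists_isClosedImmersion hlim
    (fun f => isClosedImmersion_fgSystem_map jG.ker f) h₀
  let h : D.obj i' ⟶ H.toScheme := D.map φ ≫ h₀
  haveI : IsClosedImmersion h := hφ
  let m : D.obj i' ⟶ G.toScheme := ((fgSystem jG.ker).obj i').hom
  haveI : IsClosedImmersion m := inferInstanceAs (IsClosedImmersion i'.unop.1.subschemeι)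
  haveI : LocallyOfFinitePresentation m := lfp_fgSystem _ i'
  have hh' : h ≫ H.ι ≫ gA = m ≫ G.ι ≫ g := by
    simp only [h, Category.assoc]
    rw [hh₀', t.naturality φ]
    simp [t, m]
  haveI : LocallyOfFinitePresentation h := by
    haveI : LocallyOfFinitePresentation (h ≫ H.ι ≫ gA) := by
      rw [hh']
      infer_instance
    exact Groth.Agent.S12442.result h (H.ι ≫ gA)
  have hm : (inv e ≫ c.π.app i') ≫ m = jG := by
    rw [Category.assoc, hc' i', IsIso.inv_comp_eq, he]
  have hh : (inv e ≫ c.π.app i') ≫ h = kH := by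
    rw [Category.assoc, IsIso.inv_comp_eq, ← hh₀, ← c.w φ, Category.assoc]
  obtain ⟨K, a, hKfg, hKle, _, ha, hrgA⟩ := exists_extend G hGc j jG p pbG m
    ((Scheme.Hom.le_ker_comp (inv e ≫ c.π.app i') _).trans_eq (congrArg Scheme.Hom.ker hm))
  obtain ⟨K', b, hKfg', hKle', _, hb, hrgB⟩ := exists_extend H hHc k kH r pbH h
    ((Scheme.Hom.le_ker_comp (inv e ≫ c.π.app i') _).trans_eq (congrArg Scheme.Hom.ker hh))
  let j' := IsClosedImmersion.lift K.subschemeι j (K.ker_subschemeι.le.trans hKle)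
  let k' := IsClosedImmersion.lift K'.subschemeι k (K'.ker_subschemeι.le.trans hKle')
  have hj' : j' ≫ K.subschemeι = j := IsClosedImmersion.lift_fac _ _ _
  have hk' : k' ≫ K'.subschemeι = k := IsClosedImmersion.lift_fac _ _ _
  haveI : IsClosedImmersion (j' ≫ K.subschemeι) := hj'.symm ▸ hj
  haveI : IsClosedImmersion (k' ≫ K'.subschemeι) := hk'.symm ▸ hk
  haveI : IsClosedImmersion j' := IsClosedImmersion.of_comp_isClosedImmersion _ K.subschemeι
  haveI : IsClosedImmersion k' := IsClosedImmersion.of_comp_isClosedImmersion _ K'.subschemeι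
  let n : (U ⊓ W).toScheme ⟶ D.obj i' := inv e ≫ c.π.app i'
  have hna : p ≫ j' = n ≫ a := by
    rw [← cancel_mono K.subschemeι, Category.assoc, Category.assoc, hj', ha, ← Category.assoc, hm,
      hjG]
  have hnb : r ≫ k' = n ≫ b := by
    rw [← cancel_mono K'.subschemeι, Category.assoc, Category.assoc, hk', hb, ← Category.assoc, hh,
      hkH]
  obtain ⟨φT, hφU, hφW⟩ := exists_glue U W hcov (j' ≫ pushout.inl a b) (k' ≫ pushout.inr a b) (by
    change p ≫ _ = r ≫ _
    rw [reassoc_of% hna, reassoc_of% hnb, pushout.condition])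
  haveI : CompactSpace K.subscheme := compactSpace_subscheme K
  haveI : CompactSpace K'.subscheme := compactSpace_subscheme K'
  haveI : QuasiSeparatedSpace K.subscheme := quasiSeparatedSpace_of_quasiSeparated K.subschemeι
  haveI : QuasiSeparatedSpace K'.subscheme := quasiSeparatedSpace_of_quasiSeparated K'.subschemeι
  haveI := lfp_subschemeι hKfg
  haveI := lfp_subschemeι hKfg'
  have hab : a ≫ K.subschemeι ≫ g = b ≫ K'.subschemeι ≫ gA := by
    rw [reassoc_of% ha, reassoc_of% hb, hh']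
  refine ⟨pushout a b, pushout.desc _ _ hab, φT, ?_, compactSpace_pushout a b,
    quasiSeparatedSpace_pushout a b, ?_, ?_⟩
  · refine IsZariskiLocalAtSource.of_openCover
      (Scheme.IsLocallyDirected.openCover (span a b)) fun i => ?_
    match i with
    | none =>
      change LocallyOfFinitePresentation (colimit.ι (span a b) none ≫ pushout.desc _ _ hab)
      rw [← colimit.w (span a b) WalkingSpan.Hom.fst, Category.assoc]
      change LocallyOfFinitePresentation (a ≫ pushout.inl a b ≫ pushout.desc _ _ hab)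
      rw [pushout.inl_desc]; infer_instance
    | some .left =>
      change LocallyOfFinitePresentation (pushout.inl a b ≫ pushout.desc _ _ hab)
      rw [pushout.inl_desc]; infer_instance
    | some .right =>
      change LocallyOfFinitePresentation (pushout.inr a b ≫ pushout.desc _ _ hab)
      rw [pushout.inr_desc]; infer_instance
  · have hmemT : ∀ x : T, x ∈ U ∨ x ∈ W := fun x => by simpa using hcov.ge (Opens.mem_top x)
    have hU' : ∀ x, φT (U.ι x) = pushout.inl a b (j' x) := fun x => congr($hφU x)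
    have hW' : ∀ x, φT (W.ι x) = pushout.inr a b (k' x) := fun x => congr($hφW x)
    have preU : φT ⁻¹ᵁ (pushout.inl a b).opensRange = U.ι.opensRange := by
      rw [Scheme.Opens.opensRange_ι]
      ext x
      refine ⟨fun ⟨y, hy⟩ => ?_, fun hx => ⟨_, (hU' ⟨x, hx⟩).symm⟩⟩
      rcases hmemT x with hx | hx
      · exact hx
      · obtain ⟨z, -, hz⟩ := exists_of_inl_eq_inr a b (hy.trans (hW' ⟨x, hx⟩))
        have hk'' : k ⟨x, hx⟩ ∈ H := by
          rw [show k ⟨x, hx⟩ = K'.subschemeι (b z) from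
            (congr($hk' ⟨x, hx⟩)).symm.trans (by simp [hz]),
            show K'.subschemeι (b z) = H.ι (h z) from congr($hb z)]
          exact (h z).2
        obtain ⟨w, hw⟩ := hH.le hk''
        have : (r w).1 = x := congrArg Subtype.val hw
        rw [← this]
        simpa [r] using w.2.1
    have preW : φT ⁻¹ᵁ (pushout.inr a b).opensRange = W.ι.opensRange := by
      rw [Scheme.Opens.opensRange_ι]
      ext x
      refine ⟨fun ⟨y, hy⟩ => ?_, fun hx => ⟨_, (hW' ⟨x, hx⟩).symm⟩⟩
      rcases hmemT x with hx | hx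
      · obtain ⟨z, hz, -⟩ := exists_of_inl_eq_inr a b ((hU' ⟨x, hx⟩).symm.trans hy.symm)
        have hj'' : j ⟨x, hx⟩ ∈ G := by
          rw [show j ⟨x, hx⟩ = K.subschemeι (a z) from
            (congr($hj' ⟨x, hx⟩)).symm.trans (by simp [hz]),
            show K.subschemeι (a z) = G.ι (m z) from congr($ha z)]
          exact (m z).2
        obtain ⟨w, hw⟩ := hG.le hj''
        have : (p w).1 = x := congrArg Subtype.val hw
        rw [← this]
        simpa [p] using w.2.2
      · exact hx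
    refine IsZariskiLocalAtTarget.of_iSup_eq_top
      (fun i : Bool => cond i (pushout.inl a b).opensRange (pushout.inr a b).opensRange)
      (top_le_iff.mp ((opensRange_sup_opensRange a b).ge.trans
        (sup_le (le_iSup_of_le true le_rfl) (le_iSup_of_le false le_rfl)))) fun i => ?_
    cases i with
    | true =>
      exact isClosedImmersion_morphismRestrict_of_isPullback
        (IsOpenImmersion.isPullback j' U.ι (pushout.inl a b) φT hφU preU)
    | false =>
      exact isClosedImmersion_morphismRestrict_of_isPullback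
        (IsOpenImmersion.isPullback k' W.ι (pushout.inr a b) φT hφW preW)
  · refine (Scheme.openCoverOfIsOpenCover T (fun i : Bool => cond i U W)
      (top_le_iff.mp (hcov.ge.trans
        (sup_le (le_iSup_of_le true le_rfl) (le_iSup_of_le false le_rfl))))).hom_ext _ _ fun i => ?_
    cases i with
    | true =>
      change U.ι ≫ φT ≫ _ = U.ι ≫ q
      rw [reassoc_of% hφU, pushout.inl_desc, reassoc_of% hj', hjg]
    | false =>
      change W.ι ≫ φT ≫ _ = W.ι ≫ q
      rw [reassoc_of% hφW, pushout.inr_desc, reassoc_of% hk', hkg]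

/-- A morphism locally of finite type from a qcqs scheme to a quasi-separated one factors as a
closed immersion followed by a morphism of finite presentation. -/
theorem embeds_of_locallyOfFiniteType {X S : Scheme.{u}} (f : X ⟶ S) [LocallyOfFiniteType f]
    [CompactSpace X] [QuasiSeparatedSpace X] [QuasiSeparatedSpace S] : Embeds f := by
  classical
  obtain ⟨F, hF⟩ := isCompact_univ.elim_finite_subcover
    (fun W : {W : X.affineOpens // ∃ V : S.affineOpens, W.1 ≤ f ⁻¹ᵁ V.1} => (W.1.1 : Set X))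
    (fun W => W.1.1.2) (fun x _ => by
      obtain ⟨_, ⟨V, hV, rfl⟩, hxV, -⟩ :=
        S.isBasis_affineOpens.exists_subset_of_mem_open (Set.mem_univ (f x)) isOpen_univ
      obtain ⟨_, ⟨W, hW, rfl⟩, hxW, hle⟩ :=
        X.isBasis_affineOpens.exists_subset_of_mem_open (show x ∈ f ⁻¹ᵁ V from hxV) (f ⁻¹ᵁ V).2
      exact Set.mem_iUnion.mpr ⟨⟨⟨W, hW⟩, ⟨V, hV⟩, hle⟩, hxW⟩)
  suffices H : ∀ t : Finset {W : X.affineOpens // ∃ V : S.affineOpens, W.1 ≤ f ⁻¹ᵁ V.1},
      IsCompact ((t.sup (fun W => W.1.1) : X.Opens) : Set X) ∧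
      Embeds ((t.sup (fun W => W.1.1)).ι ≫ f) by
    have h := (H F).2
    have e : F.sup (fun W => W.1.1) = ⊤ := top_le_iff.mp fun x _ => by
      obtain ⟨W, hW, hxW⟩ := Set.mem_iUnion₂.mp (hF (Set.mem_univ x))
      exact Finset.le_sup (f := fun W : {W : X.affineOpens // _} => W.1.1) hW hxW
    haveI : IsIso (F.sup (fun W => W.1.1)).ι := isIso_ι_of_eq_top e
    simpa using h.of_iso (inv (F.sup (fun W => W.1.1)).ι)
  intro t
  induction t using Finset.induction with
  | empty =>
    refine ⟨by simp, ?_⟩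
    haveI : IsEmpty ((∅ : Finset {W : X.affineOpens // ∃ V : S.affineOpens, W.1 ≤ f ⁻¹ᵁ V.1}).sup
        (fun W => W.1.1)).toScheme := ⟨fun x => (show x.1 ∈ (⊥ : X.Opens) from x.2).elim⟩
    exact embeds_of_isEmpty _
  | insert W t _ ih =>
    obtain ⟨hc, hE⟩ := ih
    obtain ⟨V, hWV⟩ := W.2
    let U := t.sup (fun W => W.1.1)
    have e : (insert W t).sup (fun W => W.1.1) = U ⊔ W.1.1 := by
      rw [Finset.sup_insert, sup_comm]
    rw [e]
    have hc' : IsCompact ((U ⊔ W.1.1 : X.Opens) : Set X) := by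
      rw [Opens.coe_sup]; exact hc.union W.1.2.isCompact
    refine ⟨hc', ?_⟩
    let T := (U ⊔ W.1.1)
    let U' : T.toScheme.Opens := T.ι ⁻¹ᵁ U
    let W' : T.toScheme.Opens := T.ι ⁻¹ᵁ W.1.1
    haveI : IsAffine W.1.1.toScheme := W.1.2
    haveI : QuasiSeparatedSpace T.toScheme := .of_isOpenEmbedding T.ι.isOpenEmbedding
    let eU : U'.toScheme ≅ U.toScheme := Scheme.Opens.isoOfLE le_sup_left
    let eW : W'.toScheme ≅ W.1.1.toScheme := Scheme.Opens.isoOfLE le_sup_right
    refine embeds_of_sup (T.ι ≫ f) U' W' ?_ ?_ ?_ ?_ ?_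
    · rw [← Scheme.Hom.preimage_sup]; exact T.ι_preimage_self
    · exact T.ι.isOpenEmbedding.isInducing.isCompact_preimage' hc
        (by rw [Scheme.Opens.range_ι]; exact (le_sup_left : U ≤ U ⊔ W.1.1))
    · exact T.ι.isOpenEmbedding.isInducing.isCompact_preimage' W.1.2.isCompact
        (by rw [Scheme.Opens.range_ι]; exact (le_sup_right : W.1.1 ≤ U ⊔ W.1.1))
    · have : U'.ι ≫ T.ι ≫ f = eU.hom ≫ U.ι ≫ f := by simp [eU, U']
      rw [this]; exact hE.of_iso eU.hom
    · have : W'.ι ≫ T.ι ≫ f = eW.hom ≫ W.1.1.ι ≫ f := by simp [eW, W']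
      rw [this]
      exact (embeds_of_isAffine (W.1.1.ι ≫ f) V.1 V.2 fun x => hWV x.2).of_iso eW.hom

end Groth.L19.Approx
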