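import Mathlib.AlgebraicGeometry.IdealSheaf.Functorial
import Mathlib.AlgebraicGeometry.Morphisms.QuasiSeparated

/-!
# Extending finitely generated quasi-coherent ideals from quasi-compact opens
-/

universe u

open CategoryTheory AlgebraicGeometry TopologicalSpace

namespace Groth.L19.Approx

set_option backward.isDefEq.respectTransparency.types false
set_option backward.isDefEq.respectTransparency false
set_option backward.defeqAttrib.useBackward true
set_option linter.style.haveILetI false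

variable {X : Scheme.{u}}

/-- Restriction of sections as a ring homomorphism. -/
abbrev res {U V : X.Opens} (h : U ≤ V) : Γ(X, V) →+* Γ(X, U) :=
  (X.presheaf.map (homOfLE h).op).hom

theorem res_comp {U V W : X.Opens} (h : U ≤ V) (h' : V ≤ W) :
    (res h).comp (res h') = res (h.trans h') := by
  rw [res, res, res, ← CommRingCat.hom_comp, ← Functor.map_comp]
  rfl

theorem res_res {U V W : X.Opens} (h : U ≤ V) (h' : V ≤ W) (s : Γ(X, W)) :
    res h (res h' s) = res (h.trans h') s :=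
  congr($(res_comp h h') s)

theorem le_of_forall_exists_basicOpen {V : X.Opens} (hV : IsAffineOpen V) (a b : Ideal Γ(X, V))
    (H : ∀ x ∈ V, ∃ r : Γ(X, V), x ∈ X.basicOpen r ∧
      a.map (res (X.basicOpen_le r)) ≤ b.map (res (X.basicOpen_le r))) : a ≤ b := by
  choose! r hr hle using H
  have : Ideal.span (Set.range fun x : V => r x.1) = ⊤ := by
    rw [← hV.self_le_iSup_basicOpen_iff]
    exact fun x hx => Opens.mem_iSup.mpr ⟨⟨_, ⟨x, hx⟩, rfl⟩, hr x hx⟩
  have inst := hV.isLocalization_basicOpen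
  refine Submodule.le_of_isLocalized_span _ this (fun i ↦ Γ(X, X.basicOpen i.1))
    (fun i ↦ Algebra.linearMap Γ(X, V) Γ(X, X.basicOpen i.1)) ?_
  rintro ⟨_, j, rfl⟩
  simp only [← Submodule.restrictScalars_localized' Γ(X, X.basicOpen (r j.1)),
    Ideal.localized'_eq_map, RingHom.algebraMap_toAlgebra]
  exact hle j.1 j.2

theorem le_of_forall_map_le {V : X.Opens} (hV : IsAffineOpen V) (a b : Ideal Γ(X, V))
    {ι : Type*} (W : ι → X.Opens) (hWV : ∀ k, W k ≤ V) (hcov : V ≤ ⨆ k, W k)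
    (H : ∀ k, a.map (res (hWV k)) ≤ b.map (res (hWV k))) : a ≤ b := by
  refine le_of_forall_exists_basicOpen hV a b fun x hx => ?_
  obtain ⟨k, hk⟩ := Opens.mem_iSup.mp (hcov hx)
  obtain ⟨r, hr, hxr⟩ := hV.exists_basicOpen_le ⟨x, hk⟩ hx
  refine ⟨r, hxr, ?_⟩
  rw [← res_comp hr (hWV k), ← Ideal.map_map, ← Ideal.map_map]
  exact Ideal.map_mono (H k)

theorem map_res (L : X.IdealSheafData) {U V : X.affineOpens} (h : U.1 ≤ V.1) :
    (L.ideal V).map (res h) = L.ideal U :=
  L.map_ideal (U := U) (V := V) h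

theorem ideal_le_of_le_iSup {I J : X.IdealSheafData} (V : X.affineOpens) {ι : Type*}
    (W : ι → X.affineOpens) (hcov : V.1 ≤ ⨆ k, (W k).1)
    (H : ∀ k, I.ideal (W k) ≤ J.ideal (W k)) : I.ideal V ≤ J.ideal V := by
  refine le_of_forall_exists_basicOpen V.2 _ _ fun x hx => ?_
  obtain ⟨k, hk⟩ := Opens.mem_iSup.mp (hcov hx)
  obtain ⟨r, hr, hxr⟩ := V.2.exists_basicOpen_le ⟨x, hk⟩ hx
  refine ⟨r, hxr, ?_⟩
  rw [map_res I (U := X.affineBasicOpen r) (X.basicOpen_le r),
    map_res J (U := X.affineBasicOpen r) (X.basicOpen_le r),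
    ← map_res I (U := X.affineBasicOpen r) (V := W k) hr,
    ← map_res J (U := X.affineBasicOpen r) (V := W k) hr]
  exact Ideal.map_mono (H k)

theorem exists_span_map_eq (L : X.IdealSheafData) (V : X.affineOpens) {ι : Type*} [Finite ι]
    (W : ι → X.affineOpens) (hWV : ∀ k, (W k).1 ≤ V.1) (hfg : ∀ k, (L.ideal (W k)).FG) :
    ∃ T : Ideal Γ(X, V.1), T.FG ∧ T ≤ L.ideal V ∧
      ∀ k, T.map (res (hWV k)) = L.ideal (W k) := by
  classical
  have : ∀ k, ∃ T : Finset Γ(X, V.1), ↑T ⊆ (L.ideal V : Set Γ(X, V.1)) ∧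
      L.ideal (W k) ≤ (Ideal.span (T : Set Γ(X, V.1))).map (res (hWV k)) := by
    intro k
    have h : L.ideal (W k) = Ideal.span (res (hWV k) '' (L.ideal V : Set Γ(X, V.1))) :=
      (map_res L (hWV k)).symm
    obtain ⟨s, hs, hs'⟩ := (Submodule.fg_span_iff_fg_span_finset_subset _).mp (h ▸ hfg k)
    obtain ⟨t, ht, rfl⟩ := Finset.subset_set_image_iff.mp hs
    refine ⟨t, ht, ?_⟩
    rw [h, Ideal.map_span, ← Finset.coe_image]
    exact hs'.le
  choose T hTL hT using this
  haveI := Fintype.ofFinite ι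
  refine ⟨Ideal.span ((Finset.univ.biUnion T : Finset _) : Set Γ(X, V.1)), ⟨_, rfl⟩, ?_, fun k => ?_⟩
  · rw [Ideal.span_le]
    intro x hx
    obtain ⟨k, -, hk⟩ := Finset.mem_biUnion.mp hx
    exact hTL k hk
  · refine le_antisymm ?_ ((hT k).trans (Ideal.map_mono (Ideal.span_mono ?_)))
    · rw [← map_res L (hWV k)]
      refine Ideal.map_mono (Ideal.span_le.mpr fun x hx => ?_)
      obtain ⟨j, -, hj⟩ := Finset.mem_biUnion.mp hx
      exact hTL j hj
    · exact Finset.coe_subset.mpr (Finset.subset_biUnion_of_mem T (Finset.mem_univ k))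

theorem fg_of_le_iSup (L : X.IdealSheafData) (V : X.affineOpens) {ι : Type*}
    (W : ι → X.affineOpens) (hcov : V.1 ≤ ⨆ k, (W k).1) (hfg : ∀ k, (L.ideal (W k)).FG) :
    (L.ideal V).FG := by
  have : ∀ x : V.1, ∃ (k : ι) (r : Γ(X, V.1)), X.basicOpen r ≤ (W k).1 ∧ x.1 ∈ X.basicOpen r := by
    intro x
    obtain ⟨k, hk⟩ := Opens.mem_iSup.mp (hcov x.2)
    exact ⟨k, V.2.exists_basicOpen_le ⟨x.1, hk⟩ x.2⟩
  choose k r hr hxr using this
  obtain ⟨F, hF⟩ := V.2.isCompact.elim_finite_subcover (fun x : V.1 => (X.basicOpen (r x) : Set X))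
    (fun x => (X.basicOpen (r x)).2) (fun x hx => Set.mem_iUnion.mpr ⟨⟨x, hx⟩, hxr _⟩)
  obtain ⟨T, hTfg, hTle, hT⟩ := exists_span_map_eq L V (fun x : F => X.affineBasicOpen (r x.1))
    (fun x => X.basicOpen_le _)
    (fun x => by
      rw [← map_res L (U := X.affineBasicOpen (r x.1)) (V := W (k x.1)) (hr x.1)]
      exact (hfg _).map _)
  suffices T = L.ideal V by rwa [← this]
  refine hTle.antisymm (le_of_forall_map_le V.2 _ _ (fun x : F => X.basicOpen (r x.1))
    (fun x => X.basicOpen_le _) (fun x hx => ?_) (fun x => ?_))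
  · obtain ⟨y, hy, hxy⟩ := Set.mem_iUnion₂.mp (hF hx)
    exact Opens.mem_iSup.mpr ⟨⟨y, hy⟩, hxy⟩
  · exact ((map_res L (U := X.affineBasicOpen (r x.1)) (V := V) (X.basicOpen_le _)).trans (hT x).symm).le

/-- An ideal sheaf is of finite type on an open. -/
def FGOn (L : X.IdealSheafData) (U : X.Opens) : Prop :=
  ∀ V : X.affineOpens, V.1 ≤ U → (L.ideal V).FG

theorem FGOn.mono {L : X.IdealSheafData} {U U' : X.Opens} (h : FGOn L U) (hle : U' ≤ U) :
    FGOn L U' :=
  fun V hV => h V (hV.trans hle)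

theorem fgOn_of_le_iSup (L : X.IdealSheafData) (U : X.Opens) {ι : Type*} (W : ι → X.affineOpens)
    (hcov : U ≤ ⨆ k, (W k).1) (hfg : ∀ k, (L.ideal (W k)).FG) : FGOn L U :=
  fun V hV => fg_of_le_iSup L V W (hV.trans hcov) hfg

theorem le_iSup_affineOpens (U : X.Opens) :
    U ≤ ⨆ V : {V : X.affineOpens // V.1 ≤ U}, V.1.1 := by
  intro x hx
  obtain ⟨_, ⟨W, hW, rfl⟩, hxW, hWU⟩ :=
    X.isBasis_affineOpens.exists_subset_of_mem_open hx U.2
  exact Opens.mem_iSup.mpr ⟨⟨⟨W, hW⟩, hWU⟩, hxW⟩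

theorem FGOn.sup_affine {L : X.IdealSheafData} {U : X.Opens} (hU : FGOn L U) (W : X.affineOpens)
    (hW : (L.ideal W).FG) : FGOn L (U ⊔ W.1) := by
  refine fgOn_of_le_iSup L _ (ι := Option {V : X.affineOpens // V.1 ≤ U})
    (fun o => o.elim W Subtype.val) (sup_le ?_ ?_) fun k => ?_
  · exact (le_iSup_affineOpens U).trans
      (iSup_le fun V => le_iSup_of_le (some V) le_rfl)
  · exact le_iSup_of_le none le_rfl
  · cases k with
    | none => exact hW
    | some V => exact hU V.1 V.2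

theorem exists_finite_affineOpens {U : X.Opens} (hU : IsCompact (U : Set X)) :
    ∃ (s : Set X.affineOpens), s.Finite ∧ U = ⨆ V : s, V.1.1 := by
  obtain ⟨s, hs, e⟩ := isCompact_iff_finite_and_eq_biUnion_affineOpens.mp hU
  refine ⟨s, hs, ?_⟩
  rw [iSup_subtype]
  exact e

theorem mem_ker_of_forall {Z : Scheme.{u}} (g : Z ⟶ X) [QuasiCompact g] (W : X.Opens)
    (hg : ∀ z, g z ∈ W) (V : X.affineOpens) (s : Γ(X, V.1))
    (H : ∀ (V' : X.affineOpens) (h : V'.1 ≤ V.1), V'.1 ≤ W → res h s ∈ g.ker.ideal V') :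
    s ∈ g.ker.ideal V := by
  rw [Scheme.Hom.ker_apply, RingHom.mem_ker]
  apply Z.IsSheaf.section_ext
  intro z hz
  obtain ⟨_, ⟨V', hV', rfl⟩, hzV', hle⟩ := X.isBasis_affineOpens.exists_subset_of_mem_open
    (show g z ∈ V.1 ⊓ W from ⟨hz, hg z⟩) (V.1 ⊓ W).2
  refine ⟨g ⁻¹ᵁ V', fun y hy => (hle hy).1, hzV', ?_⟩
  have := H ⟨V', hV'⟩ (fun y hy => (hle hy).1) (fun y hy => (hle hy).2)
  rw [Scheme.Hom.ker_apply, RingHom.mem_ker] at this
  rw [map_zero, ← this]
  exact (congr($(g.naturality (homOfLE (show V' ≤ V.1 from fun y hy => (hle hy).1)).op) s)).symm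

/-- The quasi-coherent ideal cut out by an ideal of the sections on an affine open: the kernel of
the morphism from the closed subscheme of this open it defines. -/
noncomputable def kerSpan (W : X.affineOpens) (T : Ideal Γ(X, W.1)) : X.IdealSheafData :=
  ((Scheme.IdealSheafData.ofIdealTop (T.map W.1.topIso.inv.hom)).subschemeι ≫ W.1.ι).ker

instance quasiCompact_ι [QuasiSeparatedSpace X] (W : X.affineOpens) : QuasiCompact W.1.ι :=
  haveI : CompactSpace W.1 := isCompact_iff_compactSpace.mp W.2.isCompact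
  quasiCompact_of_compactSpace _

theorem kerSpan_ideal_self [QuasiSeparatedSpace X] (W : X.affineOpens) (T : Ideal Γ(X, W.1)) :
    (kerSpan W T).ideal W = T := by
  haveI : IsAffine W.1.toScheme := W.2
  have hpre : W.1.ι ⁻¹ᵁ W.1 = ⊤ := W.1.ι_preimage_self
  have H : IsAffineOpen (W.1.ι ⁻¹ᵁ W.1) := hpre ▸ isAffineOpen_top _
  rw [kerSpan, ← Scheme.IdealSheafData.map, Scheme.IdealSheafData.ideal_map _ _ W H,
    Scheme.IdealSheafData.ofIdealTop_ideal, Ideal.map_map, ← CommRingCat.hom_comp]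
  have e : W.1.topIso.inv ≫ W.1.toScheme.presheaf.map
      (homOfLE (le_top (a := W.1.ι ⁻¹ᵁ W.1))).op = W.1.ι.app W.1 := by
    simp only [Scheme.Opens.topIso_inv, Scheme.Opens.ι_app, Scheme.Opens.toScheme_presheaf_map,
      ← Functor.map_comp]
    rfl
  haveI : IsIso (W.1.ι.app W.1) := Scheme.Hom.isIso_app _ _ (by simp)
  rw [e]
  exact Ideal.comap_map_of_bijective _ (ConcreteCategory.bijective_of_isIso (W.1.ι.app W.1))

theorem mem_kerSpan_of_forall [QuasiSeparatedSpace X] (W : X.affineOpens) (T : Ideal Γ(X, W.1))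
    (V : X.affineOpens) (s : Γ(X, V.1))
    (H : ∀ (V' : X.affineOpens) (h : V'.1 ≤ V.1) (h' : V'.1 ≤ W.1),
      res h s ∈ T.map (res h')) :
    s ∈ (kerSpan W T).ideal V := by
  refine mem_ker_of_forall _ W.1 (fun z => ?_) V s fun V' h h' => ?_
  · exact (((Scheme.IdealSheafData.ofIdealTop _).subschemeι z)).2
  · change res h s ∈ (kerSpan W T).ideal V'
    rw [← map_res (kerSpan W T) (V := W) h', kerSpan_ideal_self]
    exact H V' h h'

/-- One step: extend finite type over one more affine open. -/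
theorem exists_fgOn_sup [QuasiSeparatedSpace X] (L : X.IdealSheafData) {U : X.Opens}
    (hUc : IsCompact (U : Set X)) (hU : FGOn L U) (W : X.affineOpens) :
    ∃ K ≤ L, FGOn K (U ⊔ W.1) ∧ ∀ V : X.affineOpens, V.1 ≤ U → K.ideal V = L.ideal V := by
  obtain ⟨s, hs, hcov⟩ := exists_finite_affineOpens (U := U ⊓ W.1)
    (hUc.inter_of_isOpen W.2.isCompact U.2 W.1.2)
  haveI := hs.to_subtype
  have hle : ∀ V : s, V.1.1 ≤ U ⊓ W.1 := fun V => hcov ▸ le_iSup (fun V : s => V.1.1) V
  obtain ⟨T, hTfg, hTle, hT⟩ := exists_span_map_eq L W (fun V : s => V.1)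
    (fun V => (hle V).trans inf_le_right) (fun V => hU _ ((hle V).trans inf_le_left))
  have heq : ∀ V : X.affineOpens, V.1 ≤ U → (L ⊓ kerSpan W T).ideal V = L.ideal V := by
    intro V hV
    refine inf_eq_left.mpr fun a ha => mem_kerSpan_of_forall W T V a fun V' h h' => ?_
    have h1 : res h a ∈ L.ideal V' := map_res L h ▸ Ideal.mem_map_of_mem _ ha
    have h2 : L.ideal V' ≤ (kerSpan W T).ideal V' := by
      refine ideal_le_of_le_iSup V' (fun V : s => V.1) (hcov ▸ le_inf (h.trans hV) h') fun k => ?_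
      rw [← map_res (kerSpan W T) ((hle k).trans inf_le_right), kerSpan_ideal_self, hT k]
    have := h2 h1
    rwa [← map_res (kerSpan W T) h', kerSpan_ideal_self] at this
  refine ⟨L ⊓ kerSpan W T, inf_le_left, ?_, heq⟩
  refine FGOn.sup_affine (fun V hV => ?_) W ?_
  · rw [heq V hV]
    exact hU V hV
  · change (L.ideal W ⊓ (kerSpan W T).ideal W).FG
    rwa [kerSpan_ideal_self, inf_eq_right.mpr hTle]

/-- A quasi-coherent ideal of finite type on a quasi-compact open of a qcqs scheme contains one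
of finite type agreeing with it on that open. -/
theorem exists_fgOn_top [CompactSpace X] [QuasiSeparatedSpace X] (L : X.IdealSheafData) {U : X.Opens}
    (hUc : IsCompact (U : Set X)) (hU : FGOn L U) :
    ∃ K ≤ L, FGOn K ⊤ ∧ ∀ V : X.affineOpens, V.1 ≤ U → K.ideal V = L.ideal V := by
  classical
  obtain ⟨s, hs, hcov⟩ := exists_finite_affineOpens (U := (⊤ : X.Opens)) isCompact_univ
  suffices H : ∀ t : Finset X.affineOpens, ∃ K ≤ L,
      FGOn K (U ⊔ t.sup (fun W => W.1)) ∧ IsCompact ((U ⊔ t.sup (fun W => W.1) : X.Opens) : Set X) ∧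
      ∀ V : X.affineOpens, V.1 ≤ U → K.ideal V = L.ideal V by
    obtain ⟨K, hK, hfg, -, heq⟩ := H hs.toFinset
    refine ⟨K, hK, hfg.mono (le_sup_of_le_right ?_), heq⟩
    rw [hcov, iSup_le_iff]
    exact fun V => Finset.le_sup (f := fun W : X.affineOpens => W.1) (hs.mem_toFinset.mpr V.2)
  intro t
  induction t using Finset.induction with
  | empty =>
    exact ⟨L, le_rfl, by simpa using hU, by simpa using hUc, fun _ _ => rfl⟩
  | insert W t _ ih =>
    obtain ⟨K, hKL, hfg, hc, heq⟩ := ih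
    obtain ⟨K', hK', hfg', heq'⟩ := exists_fgOn_sup K hc hfg W
    have e : U ⊔ (insert W t).sup (fun W => W.1) = (U ⊔ t.sup (fun W => W.1)) ⊔ W.1 := by
      rw [Finset.sup_insert, sup_comm W.1, sup_assoc]
    refine ⟨K', hK'.trans hKL, e ▸ hfg', ?_, fun V hV => ?_⟩
    · rw [e, Opens.coe_sup]
      exact hc.union W.2.isCompact
    · rw [heq' V (hV.trans le_sup_left), heq V hV]

/-- Every section of a quasi-coherent ideal on a qcqs scheme lies in a finite type subideal. -/
theorem exists_fgOn_mem [CompactSpace X] [QuasiSeparatedSpace X] (L : X.IdealSheafData)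
    (V : X.affineOpens) {a : Γ(X, V.1)} (ha : a ∈ L.ideal V) :
    ∃ K ≤ L, FGOn K ⊤ ∧ a ∈ K.ideal V := by
  have hle : Ideal.span {a} ≤ L.ideal V := by simpa [Ideal.span_le] using ha
  have e : (L ⊓ kerSpan V (Ideal.span {a})).ideal V = Ideal.span {a} := by
    change L.ideal V ⊓ (kerSpan V (Ideal.span {a})).ideal V = _
    rwa [kerSpan_ideal_self, inf_eq_right]
  obtain ⟨K, hK, hfg, heq⟩ := exists_fgOn_top (L ⊓ kerSpan V (Ideal.span {a})) V.2.isCompact
    (fgOn_of_le_iSup _ _ (fun _ : Unit => V) (le_iSup_of_le () le_rfl)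
      (fun _ => by rw [e]; exact ⟨{a}, by simp⟩))
  exact ⟨K, hK.trans inf_le_left, hfg, by rw [heq V le_rfl, e]; exact Ideal.subset_span rfl⟩

theorem FGOn.sup {K K' : X.IdealSheafData} {U : X.Opens} (h : FGOn K U) (h' : FGOn K' U) :
    FGOn (K ⊔ K') U :=
  fun V hV => Submodule.FG.sup (h V hV) (h' V hV)

theorem fgOn_bot (U : X.Opens) : FGOn (⊥ : X.IdealSheafData) U :=
  fun _ _ => Submodule.fg_bot

/-- A quasi-coherent ideal of a qcqs scheme is the union of its finite type subideals. -/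
theorem le_of_forall_fgOn [CompactSpace X] [QuasiSeparatedSpace X] {L M : X.IdealSheafData}
    (H : ∀ K ≤ L, FGOn K ⊤ → K ≤ M) : L ≤ M := by
  intro V a ha
  obtain ⟨K, hK, hfg, haK⟩ := exists_fgOn_mem L V ha
  exact H K hK hfg V haK

end Groth.L19.Approx
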