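import Groth.Agent.L19.Approx.Embed
import Groth.Agent.L19.Limit.Separated
import Groth.Agent.L19.Limit.Fixed

/-!
# Schemes of finite type as limits of schemes of finite presentation along closed immersions
-/

universe u

open CategoryTheory CategoryTheory.Limits AlgebraicGeometry TopologicalSpace Opposite

namespace Groth.L19.Approx

set_option backward.isDefEq.respectTransparency.types false
set_option backward.isDefEq.respectTransparency false
set_option backward.defeqAttrib.useBackward true
set_option linter.style.haveILetI false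

variable {X Z S : Scheme.{u}} (j : X ⟶ Z) (g : Z ⟶ S)

/-- The closed subschemes of finite presentation of `Z` containing `X`, over `S`. -/
noncomputable def overSystem : (FGSub j.ker)ᵒᵖ ⥤ Over S := fgSystem j.ker ⋙ Over.map g

/-- Their cone with vertex the image of `X`. -/
noncomputable def overCone : Cone (overSystem j g) := (Over.map g).mapCone (fgCone j.ker)

noncomputable def isLimitForgetFGCone [CompactSpace Z] [QuasiSeparatedSpace Z] :
    IsLimit ((Over.forget Z).mapCone (fgCone j.ker)) :=
  haveI : IsConnected (FGSub j.ker)ᵒᵖ := IsCofiltered.isConnected _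
  isLimitOfPreserves (Over.forget Z) (isLimitFGCone j.ker)

noncomputable def isLimitOverCone [CompactSpace Z] [QuasiSeparatedSpace Z] :
    IsLimit (overCone j g) :=
  haveI : IsConnected (FGSub j.ker)ᵒᵖ := IsCofiltered.isConnected _
  isLimitOfReflects (Over.forget S)
    (show IsLimit ((Over.forget S).mapCone (overCone j g)) from isLimitForgetFGCone j)

/-- The vertex is `X`. -/
noncomputable def overConeIso [IsClosedImmersion j] : (overCone j g).pt ≅ Over.mk (j ≫ g) :=
  Over.isoMk (asIso j.toImage).symm (by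
    change inv j.toImage ≫ j ≫ g = j.imageι ≫ g
    rw [← Category.assoc]
    congr 1
    rw [IsIso.inv_comp_eq, Scheme.Hom.toImage_imageι])

theorem isClosedImmersion_overSystem_map {i i' : (FGSub j.ker)ᵒᵖ} (f : i ⟶ i') :
    IsClosedImmersion ((overSystem j g).map f).left :=
  isClosedImmersion_fgSystem_map j.ker f

theorem overSystem_hom (i : (FGSub j.ker)ᵒᵖ) :
    ((overSystem j g).obj i).hom = i.unop.1.subschemeι ≫ g := rfl

theorem compactSpace_overSystem [CompactSpace Z] (i : (FGSub j.ker)ᵒᵖ) :
    CompactSpace ((overSystem j g).obj i).left :=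
  compactSpace_subscheme i.unop.1

theorem quasiSeparatedSpace_overSystem [QuasiSeparatedSpace Z] (i : (FGSub j.ker)ᵒᵖ) :
    QuasiSeparatedSpace ((overSystem j g).obj i).left :=
  quasiSeparatedSpace_of_quasiSeparated i.unop.1.subschemeι

theorem lfp_overSystem [LocallyOfFinitePresentation g] (i : (FGSub j.ker)ᵒᵖ) :
    LocallyOfFinitePresentation ((overSystem j g).obj i).hom := by
  haveI := lfp_subschemeι i.unop.2.2
  exact inferInstanceAs (LocallyOfFinitePresentation (i.unop.1.subschemeι ≫ g))

/-- The embedding of `X` in a stage. -/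
theorem exists_stage_embedding [IsClosedImmersion j] (i : (FGSub j.ker)ᵒᵖ) :
    ∃ k : X ⟶ ((overSystem j g).obj i).left, IsClosedImmersion k ∧
      k ≫ ((overSystem j g).obj i).hom = j ≫ g := by
  let k := IsClosedImmersion.lift i.unop.1.subschemeι j
    (i.unop.1.ker_subschemeι.le.trans i.unop.2.1)
  have hk : k ≫ i.unop.1.subschemeι = j := IsClosedImmersion.lift_fac _ _ _
  haveI : IsClosedImmersion (k ≫ i.unop.1.subschemeι) := hk.symm ▸ ‹IsClosedImmersion j›
  exact ⟨k, IsClosedImmersion.of_comp_isClosedImmersion k i.unop.1.subschemeι,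
    (reassoc_of% hk) g⟩

theorem π_app_comp (i : (FGSub j.ker)ᵒᵖ) [IsClosedImmersion j] :
    ((Over.forget Z).mapCone (fgCone j.ker)).π.app i ≫ i.unop.1.subschemeι ≫ g =
      inv j.toImage ≫ j ≫ g := by
  rw [← Category.assoc, ← Category.assoc]
  congr 1
  refine (Over.w ((fgCone j.ker).π.app i)).trans ?_
  rw [eq_comm, IsIso.inv_comp_eq]
  exact (Scheme.Hom.toImage_imageι j).symm

variable [CompactSpace Z] [QuasiSeparatedSpace Z] [IsClosedImmersion j] [CompactSpace S]

theorem exists_stage_isFinite [LocallyOfFiniteType g] [QuasiCompact g] [IsIntegralHom (j ≫ g)] :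
    ∃ i : (FGSub j.ker)ᵒᵖ, IsFinite ((overSystem j g).obj i).hom := by
  obtain ⟨i₀⟩ : Nonempty (FGSub j.ker) := inferInstance
  let D := fgSystem j.ker ⋙ Over.forget Z
  have htr : ∀ {i i'} (f : i ⟶ i'), IsClosedImmersion (D.map f) :=
    fun f => isClosedImmersion_fgSystem_map j.ker f
  haveI : ∀ {i i'} (f : i ⟶ i'), IsAffineHom (D.map f) := fun f => by
    haveI := htr f; infer_instance
  haveI : CompactSpace (D.obj (op i₀)) := compactSpace_subscheme i₀.1
  haveI : QuasiSeparatedSpace (D.obj (op i₀)) := quasiSeparatedSpace_overSystem j g (op i₀)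
  haveI : IsIntegralHom (((Over.forget Z).mapCone (fgCone j.ker)).π.app (op i₀) ≫
      i₀.1.subschemeι ≫ g) := by
    rw [π_app_comp j g (op i₀)]; infer_instance
  obtain ⟨k, φ, hk⟩ := Limit.exists_isFinite (isLimitForgetFGCone j)
    (fun f => by haveI := htr f; infer_instance) (i := op i₀) (i₀.1.subschemeι ≫ g)
  refine ⟨k, ?_⟩
  rw [← Over.w ((overSystem j g).map φ)]
  exact hk

theorem exists_stage_isSeparated [QuasiCompact g] [QuasiSeparated g] [IsSeparated (j ≫ g)] :
    ∃ i : (FGSub j.ker)ᵒᵖ, IsSeparated ((overSystem j g).obj i).hom := by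
  obtain ⟨i₀⟩ : Nonempty (FGSub j.ker) := inferInstance
  let D := fgSystem j.ker ⋙ Over.forget Z
  have htr : ∀ {i i'} (f : i ⟶ i'), IsClosedImmersion (D.map f) :=
    fun f => isClosedImmersion_fgSystem_map j.ker f
  haveI : ∀ {i i'} (f : i ⟶ i'), IsAffineHom (D.map f) := fun f => by
    haveI := htr f; infer_instance
  haveI : CompactSpace (D.obj (op i₀)) := compactSpace_subscheme i₀.1
  haveI : QuasiSeparatedSpace (D.obj (op i₀)) := quasiSeparatedSpace_overSystem j g (op i₀)
  haveI : IsSeparated (((Over.forget Z).mapCone (fgCone j.ker)).π.app (op i₀) ≫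
      i₀.1.subschemeι ≫ g) := by
    rw [π_app_comp j g (op i₀)]; infer_instance
  obtain ⟨k, φ, hk⟩ := Limit.exists_isSeparated (i := op i₀) (i₀.1.subschemeι ≫ g)
    (isLimitForgetFGCone j)
  refine ⟨k, ?_⟩
  rw [← Over.w ((overSystem j g).map φ)]
  exact hk

end Groth.L19.Approx
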