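import Groth.Agent.L19.Approx.Affine
import Groth.Agent.L19.Approx.System

/-!
# Integral morphisms are limits of finite morphisms of finite presentation
-/

universe u

open CategoryTheory CategoryTheory.Limits AlgebraicGeometry TopologicalSpace Opposite

namespace Groth.L19.Approx

set_option backward.isDefEq.respectTransparency.types false
set_option backward.isDefEq.respectTransparency false
set_option backward.defeqAttrib.useBackward true
set_option linter.style.haveILetI false

theorem isIntegralHom_imageι_comp {X Z P : Scheme.{u}} (j : X ⟶ Z) (g : Z ⟶ P) [QuasiCompact j]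
    [IsAffineHom g] [IsIntegralHom (j ≫ g)] : IsIntegralHom (j.imageι ≫ g) where
  toIsAffineHom := inferInstance
  isIntegral_app U hU := by
    intro x
    refine RingHom.IsIntegralElem.of_map
      (g := (j.toImage.app ((j.imageι ≫ g) ⁻¹ᵁ U)).hom)
      (j.toImage_app_injective ⟨g ⁻¹ᵁ U, hU.preimage g⟩) ?_
    have key : ∀ (k : X ⟶ P) (_ : k = j ≫ g) (y : Γ(X, k ⁻¹ᵁ U)),
        (k.app U).hom.IsIntegralElem y := by
      intro k hk y; subst hk
      exact (j ≫ g).isIntegral_app U hU y
    have h := key (j.toImage ≫ j.imageι ≫ g) (by rw [Scheme.Hom.toImage_imageι_assoc])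
      (j.toImage.app ((j.imageι ≫ g) ⁻¹ᵁ U) x)
    rwa [Scheme.Hom.comp_app, CommRingCat.hom_comp] at h

theorem cofinal_top {X P : Scheme.{u}} (f : X ⟶ P) :
    Cofinal f (⊤ : MorphismProperty Scheme.{u}) :=
  fun _ _ _ _ _ => ⟨⊥, fgOn_bot ⊤, bot_le, trivial⟩

theorem cofinal_isFinite {X P : Scheme.{u}} (f : X ⟶ P) [IsIntegralHom f] [CompactSpace P]
    [QuasiSeparatedSpace P] : Cofinal f @IsFinite := by
  intro Z g j hg hg' hj
  haveI : CompactSpace Z := QuasiCompact.compactSpace_of_compactSpace g
  haveI : QuasiSeparatedSpace Z := quasiSeparatedSpace_of_quasiSeparated g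
  haveI : CompactSpace X := QuasiCompact.compactSpace_of_compactSpace f
  haveI : QuasiCompact j := quasiCompact_of_compactSpace j
  haveI : IsIntegralHom (j ≫ g) := hj ▸ ‹IsIntegralHom f›
  haveI := isIntegralHom_imageι_comp j g
  obtain ⟨i, hi⟩ := exists_stage_isFinite j.imageι g
  refine ⟨i.unop.1, i.unop.2.2, ?_, hi⟩
  exact i.unop.2.1.trans (Scheme.IdealSheafData.ker_subschemeι _).le

end Groth.L19.Approx
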