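import Groth.Agent.L19.Approx.AffineFinite
import Groth.Agent.L19.Approx.IdealStage
import Mathlib.AlgebraicGeometry.ZariskisMainTheorem
import Mathlib.AlgebraicGeometry.Morphisms.Immersion

/-!
# Open subschemes of finite type of a limit are immersed in a stage; finite Zariski main theorem
-/

universe u

open CategoryTheory CategoryTheory.Limits AlgebraicGeometry TopologicalSpace Opposite

namespace Groth.L19.Approx

set_option backward.isDefEq.respectTransparency.types false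
set_option backward.isDefEq.respectTransparency false
set_option backward.defeqAttrib.useBackward true
set_option linter.style.haveILetI false

theorem surjective_app_congr {X Y : Scheme.{u}} {f g : X ⟶ Y} (h : f = g) (U : Y.Opens)
    (hf : Function.Surjective (f.app U).hom) : Function.Surjective (g.app U).hom := by
  subst h; exact hf

theorem surjective_app_of_appLE {X Y : Scheme.{u}} {f : X ⟶ Y} {U : Y.Opens} {P : X.Opens}
    {e : P ≤ f ⁻¹ᵁ U} (_ : Y.Opens) (h : P = f ⁻¹ᵁ U)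
    (hf : Function.Surjective (f.appLE U P e).hom) : Function.Surjective (f.app U).hom := by
  subst h; rwa [← Scheme.Hom.app_eq_appLE] at hf

theorem surjective_morphismRestrict_appTop {X Y : Scheme.{u}} (l : X ⟶ Y) (U : Y.Opens)
    (h : Function.Surjective (l.app U).hom) :
    Function.Surjective (l ∣_ U).appTop.hom := by
  have key : ∀ W : Y.Opens, W = U → Function.Surjective (l.app W).hom := by rintro W rfl; exact h
  have := key (U.ι ''ᵁ ⊤) U.ι_image_top
  rw [morphismRestrict_appTop]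
  intro z
  obtain ⟨z', rfl⟩ := (ConcreteCategory.bijective_of_isIso (X.presheaf.map (eqToHom
    (image_morphismRestrict_preimage l U ⊤)).op)).2 z
  obtain ⟨y, rfl⟩ := this z'
  exact ⟨y, rfl⟩

section

variable {I : Type u} [Category.{u} I] [IsCofiltered I] {D : I ⥤ Scheme.{u}} {c : Cone D}
  [∀ {i j} (f : i ⟶ j), IsAffineHom (D.map f)]

theorem exists_isImmersion_of_isOpenImmersion (hc : IsLimit c) {X : Scheme.{u}} [CompactSpace X]
    (j : X ⟶ c.pt) [IsOpenImmersion j] (hft : ∀ i, LocallyOfFiniteType (j ≫ c.π.app i)) :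
    ∃ k, IsImmersion (j ≫ c.π.app k) := by
  classical
  obtain ⟨i, W, hWc, hW⟩ :=
    exists_preimage_eq D c hc j.opensRange (isCompact_range j.continuous)
  obtain ⟨s, hsfin, hs⟩ := exists_finite_affineOpens hWc
  haveI : Finite s := hsfin.to_subtype
  let u := j ≫ c.π.app i
  have hVW : ∀ V : s, V.1.1 ≤ W := fun V z hz =>
    hs.ge (Opens.mem_iSup.mpr ⟨⟨V.1, V.2⟩, hz⟩)
  have hle : ∀ V : s, c.π.app i ⁻¹ᵁ V.1.1 ≤ j.opensRange := fun V => by
    rw [← hW]; exact fun z hz => hVW V hz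
  have hgen : ∀ V : s, ∃ E : Finset Γ(c.pt, c.π.app i ⁻¹ᵁ V.1.1),
      ∀ R : Subring Γ(X, u ⁻¹ᵁ V.1.1), (∀ y, u.app V.1.1 y ∈ R) →
        (∀ x ∈ E, j.app (c.π.app i ⁻¹ᵁ V.1.1) x ∈ R) → R = ⊤ := by
    intro V
    haveI := hft i
    haveI := j.isIso_app _ (hle V)
    have haff : IsAffineOpen (u ⁻¹ᵁ V.1.1) := by
      haveI := isAffineHom_π_app D c hc i
      exact (V.1.2.preimage (c.π.app i)).preimage_of_isOpenImmersion j (hle V)
    have h : (u.app V.1.1).hom.FiniteType := by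
      rw [Scheme.Hom.app_eq_appLE]
      exact LocallyOfFiniteType.finiteType_appLE u V.1.2 haff le_rfl
    letI := (u.app V.1.1).hom.toAlgebra
    obtain ⟨E, hE⟩ := (h : Algebra.FiniteType Γ(D.obj i, V.1.1) Γ(X, u ⁻¹ᵁ V.1.1)).1
    refine ⟨E.image (inv (j.app (c.π.app i ⁻¹ᵁ V.1.1))), fun R h1 h2 => eq_top_iff.mpr fun z _ => ?_⟩
    have hz : z ∈ Algebra.adjoin Γ(D.obj i, V.1.1) (E : Set Γ(X, u ⁻¹ᵁ V.1.1)) :=
      hE ▸ Algebra.mem_top
    induction hz using Algebra.adjoin_induction with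
    | mem x hx =>
      have := h2 _ (Finset.mem_image_of_mem _ hx)
      rwa [← CommRingCat.comp_apply, IsIso.inv_hom_id, CommRingCat.id_apply] at this
    | algebraMap r => exact h1 r
    | add a b _ _ ha hb => exact add_mem (ha trivial) (hb trivial)
    | mul a b _ _ ha hb => exact mul_mem (ha trivial) (hb trivial)
  choose E hE using hgen
  have hst : ∀ x : Σ V : s, E V, ∃ k : Over i, ∀ (l : Over i), (l ⟶ k) →
      ∃ (h : c.π.app i ⁻¹ᵁ x.1.1.1 ≤ c.π.app l.left ⁻¹ᵁ (D.map l.hom ⁻¹ᵁ x.1.1.1))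
        (y : Γ(D.obj l.left, D.map l.hom ⁻¹ᵁ x.1.1.1)),
        (c.π.app l.left).appLE (D.map l.hom ⁻¹ᵁ x.1.1.1) (c.π.app i ⁻¹ᵁ x.1.1.1) h y = x.2.1 := by
    rintro ⟨V, r, hr⟩
    obtain ⟨k, h, y, hy⟩ := exists_appLE_eq hc i V.1.2 r
    refine ⟨k, fun l g => ?_⟩
    have hw : D.map g.left ≫ D.map k.hom = D.map l.hom := by rw [← D.map_comp, Over.w g]
    have hπ : c.π.app l.left ≫ D.map g.left = c.π.app k.left := c.w g.left
    have h' : c.π.app i ⁻¹ᵁ V.1.1 ≤ c.π.app l.left ⁻¹ᵁ (D.map l.hom ⁻¹ᵁ V.1.1) := by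
      rw [← Scheme.Hom.comp_preimage, c.w]
    have e : D.map l.hom ⁻¹ᵁ V.1.1 ≤ D.map g.left ⁻¹ᵁ (D.map k.hom ⁻¹ᵁ V.1.1) := by
      rw [← hw, Scheme.Hom.comp_preimage]
    refine ⟨h', (D.map g.left).appLE _ _ e y, ?_⟩
    rw [← CommRingCat.comp_apply, Scheme.Hom.appLE_comp_appLE, appLE_congr_hom hπ]
    exact hy
  choose kx hkx using hst
  haveI : Finite (Σ V : s, E V) := inferInstance
  obtain ⟨k, hk⟩ := IsCofiltered.inf_objs_exists
    ((Set.finite_range kx).toFinset : Finset (Over i))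
  let uk := j ≫ c.π.app k.left
  let Wk : (D.obj k.left).Opens := D.map k.hom ⁻¹ᵁ W
  have hrange : Set.range uk ⊆ Set.range Wk.ι := by
    rw [Scheme.Opens.range_ι]
    rintro _ ⟨x, rfl⟩
    show D.map k.hom (uk x) ∈ W
    rw [← Scheme.Hom.comp_apply, show uk ≫ D.map k.hom = j ≫ c.π.app i by simp [uk]]
    have : j x ∈ c.π.app i ⁻¹ᵁ W := by rw [hW]; exact ⟨x, rfl⟩
    exact this
  let l : X ⟶ Wk.toScheme := IsOpenImmersion.lift Wk.ι uk hrange
  have hl : l ≫ Wk.ι = uk := IsOpenImmersion.lift_fac _ _ _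
  let U : s → Wk.toScheme.affineOpens := fun V =>
    ⟨Wk.ι ⁻¹ᵁ (D.map k.hom ⁻¹ᵁ V.1.1), (V.1.2.preimage (D.map k.hom)).preimage_of_isOpenImmersion
      Wk.ι (by rw [Scheme.Opens.opensRange_ι]; exact fun z hz => hVW V hz)⟩
  haveI : IsClosedImmersion l := by
    refine (HasAffineProperty.iff_of_iSup_eq_top (P := @IsClosedImmersion) U ?_).mpr fun V => ?_
    · refine top_le_iff.mp fun z _ => ?_
      obtain ⟨⟨V, hV⟩, hzV⟩ := Opens.mem_iSup.mp (hs.le (show D.map k.hom z.1 ∈ W from z.2))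
      exact Opens.mem_iSup.mpr ⟨⟨V, hV⟩, hzV⟩
    have hpre : l ⁻¹ᵁ (U V).1 = u ⁻¹ᵁ V.1.1 := by
      show l ⁻¹ᵁ (Wk.ι ⁻¹ᵁ (D.map k.hom ⁻¹ᵁ V.1.1)) = _
      rw [← Scheme.Hom.comp_preimage, hl, ← Scheme.Hom.comp_preimage]
      simp [uk, u]
    refine ⟨?_, ?_⟩
    · show IsAffineOpen (l ⁻¹ᵁ (U V).1)
      rw [hpre]
      haveI := isAffineHom_π_app D c hc i
      exact (V.1.2.preimage (c.π.app i)).preimage_of_isOpenImmersion j (hle V)
    · have e : u ⁻¹ᵁ V.1.1 ≤ uk ⁻¹ᵁ (D.map k.hom ⁻¹ᵁ V.1.1) := by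
        rw [← Scheme.Hom.comp_preimage]; simp [uk, u]
      have hsurj : Function.Surjective
          (uk.appLE (D.map k.hom ⁻¹ᵁ V.1.1) (u ⁻¹ᵁ V.1.1) e).hom := by
        rw [← RingHom.range_eq_top]
        refine hE V _ (fun y => ⟨(D.map k.hom).app V.1.1 y, ?_⟩) fun x hx => ?_
        · rw [Scheme.Hom.app_eq_appLE, Scheme.Hom.app_eq_appLE, ← CommRingCat.comp_apply,
            Scheme.Hom.appLE_comp_appLE,
            appLE_congr_hom (show uk ≫ D.map k.hom = u by simp [uk, u])]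
        · obtain ⟨g⟩ : Nonempty (k ⟶ kx ⟨V, x, hx⟩) :=
            hk ((Set.Finite.mem_toFinset _).mpr ⟨_, rfl⟩)
          obtain ⟨h, y, hy⟩ := hkx ⟨V, x, hx⟩ k g
          dsimp only at hy
          refine ⟨y, ?_⟩
          have := congrArg (j.app (c.π.app i ⁻¹ᵁ V.1.1)) hy
          rw [Scheme.Hom.app_eq_appLE] at this ⊢
          refine Eq.trans ?_ this
          exact (congr($(Scheme.Hom.appLE_comp_appLE j (c.π.app k.left) _ _ _ h le_rfl) y)).symm
      refine surjective_morphismRestrict_appTop _ _ ?_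
      have h1 : Function.Surjective ((l ≫ Wk.ι).app (D.map k.hom ⁻¹ᵁ V.1.1)).hom :=
        surjective_app_congr hl.symm _ (surjective_app_of_appLE ⊤ (by
          rw [← Scheme.Hom.comp_preimage]; simp [uk, u]) hsurj)
      rw [Scheme.Hom.comp_app, CommRingCat.hom_comp, RingHom.coe_comp] at h1
      exact Function.Surjective.of_comp h1
  exact ⟨k.left, show IsImmersion uk from hl ▸ inferInstance⟩

end

/-- Zariski's main theorem with a finite second morphism. -/
theorem exists_openImmersion_finite {X S : Scheme.{u}} (f : X ⟶ S) [CompactSpace S]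
    [QuasiSeparatedSpace S] [LocallyQuasiFinite f] [LocallyOfFiniteType f] [QuasiCompact f]
    [IsSeparated f] :
    ∃ (T : Scheme.{u}) (j : X ⟶ T) (π : T ⟶ S),
      IsOpenImmersion j ∧ QuasiCompact j ∧ IsFinite π ∧ j ≫ π = f := by
  let h := f.fromNormalization
  let j := f.toNormalization
  haveI : CompactSpace X := QuasiCompact.compactSpace_of_compactSpace f
  haveI : QuasiSeparatedSpace X := quasiSeparatedSpace_of_quasiSeparated f
  have hcof : Cofinal h (@IsFinite : MorphismProperty Scheme.{u}) := fun {_} => cofinal_isFinite h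
  haveI := isDirected_idx hcof
  haveI := nonempty_idx hcof
  let D := system h (@IsFinite : MorphismProperty Scheme.{u})
  let F := D ⋙ Over.forget S
  let c := (Over.forget S).mapCone (cone h (@IsFinite : MorphismProperty Scheme.{u}))
  haveI : IsConnected (Idx h (@IsFinite : MorphismProperty Scheme.{u}))ᵒᵖ :=
    IsCofiltered.isConnected _
  have hc : IsLimit c := isLimitOfPreserves (Over.forget S) (nonempty_isLimit_cone h _ hcof).some
  haveI : ∀ i, IsFinite (D.obj i).hom := fun i => prop_system_hom h _ i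
  haveI : ∀ {i i'} (a : i ⟶ i'), IsAffineHom (F.map a) := fun a => isAffineHom_system_map h _ a
  have hw : ∀ i, c.π.app i ≫ (D.obj i).hom = h := fun i =>
    Over.w ((cone h (@IsFinite : MorphismProperty Scheme.{u})).π.app i)
  have hft : ∀ i, LocallyOfFiniteType ((j : X ⟶ c.pt) ≫ c.π.app i) := fun i => by
    haveI : LocallyOfFiniteType (((j : X ⟶ c.pt) ≫ c.π.app i) ≫ (D.obj i).hom) := by
      rw [Category.assoc, hw i]
      exact (f.toNormalization_fromNormalization).symm ▸ (inferInstance : LocallyOfFiniteType f)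
    exact locallyOfFiniteType_of_comp _ (D.obj i).hom
  haveI : IsOpenImmersion (j : X ⟶ c.pt) := inferInstanceAs (IsOpenImmersion f.toNormalization)
  obtain ⟨k, hk⟩ := exists_isImmersion_of_isOpenImmersion hc (j : X ⟶ c.pt) hft
  let u : X ⟶ (D.obj k).left := (j : X ⟶ c.pt) ≫ c.π.app k
  haveI : IsImmersion u := hk
  have hu : u ≫ (D.obj k).hom = f :=
    (Category.assoc _ _ _).trans ((congrArg (_ ≫ ·) (hw k)).trans f.toNormalization_fromNormalization)
  haveI : QuasiCompact (u ≫ (D.obj k).hom) := hu.symm ▸ (inferInstance : QuasiCompact f)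
  haveI : QuasiCompact u := QuasiCompact.of_comp u (D.obj k).hom
  refine ⟨u.image, u.toImage, u.imageι ≫ (D.obj k).hom, inferInstance, inferInstance, inferInstance, ?_⟩
  rw [Scheme.Hom.toImage_imageι_assoc, hu]

end Groth.L19.Approx
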