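import Groth.Agent.L19.Approx.AffineFinite
import Groth.Agent.L20.UnivHomeo

/-!
# Universal homeomorphisms are limits of finitely presented universal homeomorphisms
-/

universe u

open CategoryTheory CategoryTheory.Limits AlgebraicGeometry TopologicalSpace Opposite

namespace Groth.L19.Approx

set_option backward.isDefEq.respectTransparency.types false
set_option backward.isDefEq.respectTransparency false
set_option backward.defeqAttrib.useBackward true
set_option linter.style.haveILetI false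

/-- The complement of a closed subscheme of finite presentation is quasi-compact. -/
theorem isCompact_compl_support {Q : Scheme.{u}} [CompactSpace Q] {K : Q.IdealSheafData}
    (hK : FGOn K ⊤) : IsCompact (K.support : Set Q)ᶜ := by
  obtain ⟨s, hs, hcov⟩ := exists_finite_affineOpens (U := (⊤ : Q.Opens)) isCompact_univ
  have e : (K.support : Set Q)ᶜ = ⋃ V ∈ s, (V.1 : Set Q) \ K.support := by
    ext x
    simp only [Set.mem_compl_iff, Set.mem_iUnion, Set.mem_diff]
    refine ⟨fun hx => ?_, fun ⟨_, _, _, hx⟩ => hx⟩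
    obtain ⟨V, hV⟩ := Opens.mem_iSup.mp (hcov.le (Opens.mem_top x))
    exact ⟨V.1, V.2, hV, hx⟩
  rw [e]
  refine hs.isCompact_biUnion fun V _ => ?_
  obtain ⟨G, hG⟩ := hK V le_top
  have : (V.1 : Set Q) \ K.support = ⋃ g ∈ G, (Q.basicOpen g : Set Q) := by
    ext x
    simp only [Set.mem_diff, Set.mem_iUnion, SetLike.mem_coe]
    constructor
    · rintro ⟨hxV, hx⟩
      rw [Scheme.IdealSheafData.mem_support_iff_of_mem hxV, ← hG, Ideal.span, ← Ideal.span,
        Scheme.zeroLocus_span, Scheme.mem_zeroLocus_iff] at hx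
      simpa using hx
    · rintro ⟨g, hg, hxg⟩
      have hxV : x ∈ V.1 := Q.basicOpen_le g hxg
      refine ⟨hxV, fun hx => ?_⟩
      rw [Scheme.IdealSheafData.mem_support_iff_of_mem hxV, Scheme.mem_zeroLocus_iff] at hx
      exact hx g (hG ▸ Ideal.subset_span hg) hxg
  rw [this]
  exact G.finite_toSet.isCompact_biUnion fun g _ => (V.2.basicOpen g).isCompact

theorem exists_fgOn_not_mem_support {Z : Scheme.{u}} [CompactSpace Z] [QuasiSeparatedSpace Z]
    (L : Z.IdealSheafData) {x : Z} (hx : x ∉ L.support) :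
    ∃ K ≤ L, FGOn K ⊤ ∧ x ∉ K.support := by
  obtain ⟨_, ⟨V, hV, rfl⟩, hxV, -⟩ :=
    Z.isBasis_affineOpens.exists_subset_of_mem_open (Set.mem_univ x) isOpen_univ
  rw [Scheme.IdealSheafData.mem_support_iff_of_mem (U := ⟨V, hV⟩) hxV,
    Scheme.mem_zeroLocus_iff] at hx
  push_neg at hx
  obtain ⟨a, ha, hax⟩ := hx
  obtain ⟨K, hK, hfg, haK⟩ := exists_fgOn_mem L ⟨V, hV⟩ ha
  refine ⟨K, hK, hfg, fun hxK => ?_⟩
  rw [Scheme.IdealSheafData.mem_support_iff_of_mem (U := ⟨V, hV⟩) hxV,
    Scheme.mem_zeroLocus_iff] at hxK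
  exact hxK a haK hax

theorem universallyInjective_of_comp_of_surjective {X Y W : Scheme.{u}} (a : X ⟶ Y) (h : Y ⟶ W)
    [Surjective a] (H : UniversallyInjective (a ≫ h)) : UniversallyInjective h := by
  refine ⟨fun A B i₁ i₂ h' pb => ?_⟩
  have pb' := IsPullback.of_hasPullback i₁ a
  haveI : Surjective (pullback.fst i₁ a) :=
    MorphismProperty.of_isPullback (P := @Surjective) pb'.flip inferInstance
  have hinj : Function.Injective (pullback.fst i₁ a ≫ h' : _ ⟶ B) :=
    H.universally_injective _ _ _ (pb'.flip.paste_vert pb.flip).flip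
  intro x y hxy
  obtain ⟨x', rfl⟩ := (pullback.fst i₁ a).surjective x
  obtain ⟨y', rfl⟩ := (pullback.fst i₁ a).surjective y
  exact congrArg _ (hinj (by rw [Scheme.Hom.comp_apply, Scheme.Hom.comp_apply]; exact hxy))

theorem surjective_toImage {X Z P : Scheme.{u}} (j : X ⟶ Z) (g : Z ⟶ P) [IsAffineHom g]
    [IsIntegralHom (j ≫ g)] [QuasiCompact j] : Surjective j.toImage := by
  haveI : IsIntegralHom (j.toImage ≫ j.imageι ≫ g) := by
    rw [Scheme.Hom.toImage_imageι_assoc]; infer_instance
  haveI : IsIntegralHom j.toImage := IsIntegralHom.of_comp j.toImage (j.imageι ≫ g)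
  refine ⟨Set.range_eq_univ.mp ?_⟩
  have hc : IsClosed (Set.range j.toImage) := j.toImage.isClosedMap.isClosed_range
  rw [← hc.closure_eq, j.toImage.denseRange.closure_eq]

theorem exists_stage_universallyInjective {Z P : Scheme.{u}} [CompactSpace Z]
    [QuasiSeparatedSpace Z] [CompactSpace P] [QuasiSeparatedSpace P] (g : Z ⟶ P) [IsAffineHom g]
    [LocallyOfFiniteType g] (L : Z.IdealSheafData) [UniversallyInjective (L.subschemeι ≫ g)] :
    ∃ K ≤ L, FGOn K ⊤ ∧ UniversallyInjective (K.subschemeι ≫ g) := by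
  classical
  haveI : QuasiSeparatedSpace ↥(pullback g g) :=
    quasiSeparatedSpace_of_quasiSeparated (pullback.fst g g)
  haveI : CompactSpace ↥(pullback g g) :=
    QuasiCompact.compactSpace_of_compactSpace (pullback.fst g g)
  let Δ := pullback.diagonal g
  haveI : LocallyOfFinitePresentation Δ := by
    haveI : LocallyOfFinitePresentation (Δ ≫ pullback.fst g g) := by
      rw [pullback.diagonal_fst]; infer_instance
    exact Groth.Agent.S12442.result Δ (pullback.fst g g)
  have hcpt : IsCompact (Set.range Δ)ᶜ := by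
    have h := isCompact_compl_support (fgOn_ker Δ)
    rwa [Scheme.Hom.support_ker, Δ.isClosedEmbedding.isClosed_range.closure_eq] at h
  let F : {K : Z.IdealSheafData // K ≤ L ∧ FGOn K ⊤} → Set ↥(pullback g g) := fun K =>
    pullback.fst g g ⁻¹' K.1.support ∩ pullback.snd g g ⁻¹' K.1.support
  have hF : ∀ q ∈ (Set.range Δ)ᶜ, ∃ K, q ∈ (F K)ᶜ := by
    intro q hq
    by_contra hc
    push_neg at hc
    have hmem : ∀ z : Z, (∀ K : {K : Z.IdealSheafData // K ≤ L ∧ FGOn K ⊤}, z ∈ K.1.support) →
        z ∈ L.support := by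
      intro z hz
      by_contra hz'
      obtain ⟨K, hK, hfg, hzK⟩ := exists_fgOn_not_mem_support L hz'
      exact hzK (hz ⟨K, hK, hfg⟩)
    have hc' : ∀ K, q ∈ F K := fun K => by simpa using hc K
    have h1 := hmem _ fun K => (hc' K).1
    have h2 := hmem _ fun K => (hc' K).2
    let m : pullback (L.subschemeι ≫ g) (L.subschemeι ≫ g) ⟶ pullback g g :=
      pullback.map _ _ _ _ L.subschemeι L.subschemeι (𝟙 _) (by simp) (by simp)
    obtain ⟨r, hr⟩ : q ∈ Set.range m := by
      rw [Scheme.Pullback.range_map, Scheme.IdealSheafData.range_subschemeι]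
      exact ⟨h1, h2⟩
    haveI : Surjective (pullback.diagonal (L.subschemeι ≫ g)) :=
      (UniversallyInjective.iff_diagonal _).mp inferInstance
    obtain ⟨z, rfl⟩ := (pullback.diagonal (L.subschemeι ≫ g)).surjective r
    have e : pullback.diagonal (L.subschemeι ≫ g) ≫ m = L.subschemeι ≫ Δ := by
      apply pullback.hom_ext <;> simp [m, Δ]
    exact hq ⟨L.subschemeι z, by rw [← hr, ← Scheme.Hom.comp_apply, ← Scheme.Hom.comp_apply, e]⟩
  obtain ⟨t, ht⟩ := hcpt.elim_finite_subcover (fun K => (F K)ᶜ)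
    (fun K => ((K.1.support.isClosed.preimage (pullback.fst g g).continuous).inter
      (K.1.support.isClosed.preimage (pullback.snd g g).continuous)).isOpen_compl)
    (fun q hq => Set.mem_iUnion.mpr (hF q hq))
  obtain ⟨K, hK⟩ : ∃ K : {K : Z.IdealSheafData // K ≤ L ∧ FGOn K ⊤}, ∀ K' ∈ t, K'.1 ≤ K.1 :=
    ⟨⟨t.sup (fun K => K.1), Finset.sup_le fun K _ => K.2.1,
      Finset.sup_induction (p := fun K : Z.IdealSheafData => FGOn K ⊤) (fgOn_bot ⊤)
        (fun _ h _ h' => h.sup h') fun K _ => K.2.2⟩,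
      fun K' hK' => Finset.le_sup (f := fun K : {K : Z.IdealSheafData // K ≤ L ∧ FGOn K ⊤} => K.1) hK'⟩
  refine ⟨K.1, K.2.1, K.2.2, (UniversallyInjective.iff_diagonal _).mpr ⟨fun r => ?_⟩⟩
  let m : pullback (K.1.subschemeι ≫ g) (K.1.subschemeι ≫ g) ⟶ pullback g g :=
    pullback.map _ _ _ _ K.1.subschemeι K.1.subschemeι (𝟙 _) (by simp) (by simp)
  haveI : IsClosedImmersion m :=
    MorphismProperty.pullbackMap (P := @IsClosedImmersion) inferInstance inferInstance rfl rfl
  have hrange : m r ∈ Set.range m := ⟨r, rfl⟩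
  rw [Scheme.Pullback.range_map, Scheme.IdealSheafData.range_subschemeι] at hrange
  obtain ⟨z, hz⟩ : m r ∈ Set.range Δ := by
    by_contra hn
    obtain ⟨K', hK', hnot⟩ := Set.mem_iUnion₂.mp (ht hn)
    exact hnot ⟨Scheme.IdealSheafData.support_antitone (hK K' hK') hrange.1,
      Scheme.IdealSheafData.support_antitone (hK K' hK') hrange.2⟩
  have hzK : z ∈ K.1.support := by
    have : pullback.fst g g (Δ z) = z := by
      rw [← Scheme.Hom.comp_apply]; simp [Δ]
    rw [← this, hz]
    exact hrange.1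
  obtain ⟨z', hz'⟩ : z ∈ Set.range K.1.subschemeι := by
    rw [Scheme.IdealSheafData.range_subschemeι]; exact hzK
  refine ⟨z', m.isClosedEmbedding.injective ?_⟩
  have e : pullback.diagonal (K.1.subschemeι ≫ g) ≫ m = K.1.subschemeι ≫ Δ := by
    apply pullback.hom_ext <;> simp [m, Δ]
  rw [← hz, ← hz', ← Scheme.Hom.comp_apply, ← Scheme.Hom.comp_apply, e]

/-- Finite universal homeomorphisms. -/
abbrev FiniteUH : MorphismProperty Scheme.{u} := @IsFinite ⊓ FlatMor.IsUnivHomeo

instance respectsIso_finiteUH : FiniteUH.{u}.RespectsIso := by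
  haveI : (FlatMor.IsUnivHomeo.{u}).RespectsIso := MorphismProperty.universally_respectsIso _
  infer_instance

theorem cofinal_finiteUH {X P : Scheme.{u}} (f : X ⟶ P) (hf : FlatMor.IsUnivHomeo f)
    [CompactSpace P] [QuasiSeparatedSpace P] : Cofinal f FiniteUH := by
  intro Z g j hg hg' hj
  haveI := Groth.L20.isIntegralHom_of_isUnivHomeo hf
  obtain ⟨-, hui, hsurj⟩ := (Groth.L20.isUnivHomeo_iff f).mp hf
  haveI : CompactSpace Z := QuasiCompact.compactSpace_of_compactSpace g
  haveI : QuasiSeparatedSpace Z := quasiSeparatedSpace_of_quasiSeparated g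
  haveI : CompactSpace X := QuasiCompact.compactSpace_of_compactSpace f
  haveI : QuasiCompact j := quasiCompact_of_compactSpace j
  haveI : IsIntegralHom (j ≫ g) := hj ▸ inferInstance
  haveI := isIntegralHom_imageι_comp j g
  haveI := surjective_toImage j g
  haveI : UniversallyInjective (j.ker.subschemeι ≫ g) :=
    universallyInjective_of_comp_of_surjective j.toImage (j.imageι ≫ g)
      (by rw [Scheme.Hom.toImage_imageι_assoc, hj]; exact hui)
  obtain ⟨i, hi⟩ := exists_stage_isFinite j.imageι g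
  obtain ⟨K₂, hK₂, hK₂fg, hK₂ui⟩ := exists_stage_universallyInjective g j.ker
  have hK₁ : i.unop.1 ≤ j.ker := i.unop.2.1.trans (Scheme.IdealSheafData.ker_subschemeι _).le
  let K := i.unop.1 ⊔ K₂
  have hK : K ≤ j.ker := sup_le hK₁ hK₂
  refine ⟨K, i.unop.2.2.sup hK₂fg, hK, ?_⟩
  have hfin : IsFinite (K.subschemeι ≫ g) := by
    have e := Scheme.IdealSheafData.inclusion_subschemeι (le_sup_left : i.unop.1 ≤ K)
    haveI : IsFinite (i.unop.1.subschemeι ≫ g) := hi
    haveI : IsClosedImmersion (Scheme.IdealSheafData.inclusion (le_sup_left : i.unop.1 ≤ K) ≫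
        i.unop.1.subschemeι) := by rw [e]; infer_instance
    haveI := IsClosedImmersion.of_comp_isClosedImmersion
      (Scheme.IdealSheafData.inclusion (le_sup_left : i.unop.1 ≤ K)) i.unop.1.subschemeι
    rw [← e, Category.assoc]; infer_instance
  refine ⟨hfin, (Groth.L20.isUnivHomeo_iff _).mpr ⟨?_, ?_, ?_⟩⟩
  · haveI := hfin
    infer_instance
  · have e := Scheme.IdealSheafData.inclusion_subschemeι (le_sup_right : K₂ ≤ K)
    haveI : Mono (Scheme.IdealSheafData.inclusion (le_sup_right : K₂ ≤ K)) :=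
      mono_of_mono_fac e
    haveI := hK₂ui
    rw [← e, Category.assoc]
    exact MorphismProperty.comp_mem _ _ _ inferInstance hK₂ui
  · have e : (j.toImage ≫ Scheme.IdealSheafData.inclusion hK) ≫ K.subschemeι ≫ g = f := by
      rw [Category.assoc, Scheme.IdealSheafData.inclusion_subschemeι_assoc,
        Scheme.Hom.toImage_imageι_assoc, hj]
    exact ⟨fun p => by
      obtain ⟨x, rfl⟩ := hsurj.surj p
      exact ⟨(j.toImage ≫ Scheme.IdealSheafData.inclusion hK) x, by
        rw [← Scheme.Hom.comp_apply, e]⟩⟩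

end Groth.L19.Approx
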