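import Groth.Agent.L19.Approx.AffineFinite

/-!
# Morphisms of qcqs schemes factor as affine followed by finite presentation
-/

universe u

open CategoryTheory CategoryTheory.Limits AlgebraicGeometry TopologicalSpace Opposite

namespace Groth.L19.Approx

set_option backward.isDefEq.respectTransparency.types false
set_option backward.isDefEq.respectTransparency false
set_option backward.defeqAttrib.useBackward true
set_option linter.style.haveILetI false

/-- `q` factors as an affine morphism to a qcqs scheme of finite presentation over the base. -/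
def AffFactors {X S : Scheme.{u}} (q : X ⟶ S) : Prop :=
  ∃ (M : Scheme.{u}) (g : M ⟶ S) (a : X ⟶ M), LocallyOfFinitePresentation g ∧
    CompactSpace M ∧ QuasiSeparatedSpace M ∧ IsAffineHom a ∧ a ≫ g = q

theorem AffFactors.of_iso {X Y S : Scheme.{u}} (e : Y ⟶ X) [IsIso e] {q : X ⟶ S}
    (h : AffFactors q) : AffFactors (e ≫ q) := by
  obtain ⟨M, g, a, hg, hc, hq, ha, rfl⟩ := h
  exact ⟨M, g, e ≫ a, hg, hc, hq, inferInstance, Category.assoc _ _ _⟩

theorem affFactors_of_isEmpty {X S : Scheme.{u}} [IsEmpty X] (q : X ⟶ S) : AffFactors q := by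
  haveI : CompactSpace X := Finite.compactSpace
  haveI : QuasiSeparatedSpace X :=
    ⟨fun U V _ _ _ _ => (Subsingleton.elim (U ∩ V) ∅) ▸ isCompact_empty⟩
  haveI : IsOpenImmersion q := inferInstance
  exact ⟨X, q, 𝟙 X, inferInstance, inferInstance, inferInstance, inferInstance, Category.id_comp q⟩

set_option maxHeartbeats 1600000 in
theorem affFactors_of_sup {T S : Scheme.{u}} [QuasiSeparatedSpace T] [QuasiSeparatedSpace S]
    (q : T ⟶ S) (U W : T.Opens) (hcov : U ⊔ W = ⊤) (hUc : IsCompact (U : Set T))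
    (hW : IsAffineOpen W) (V : S.Opens) (hV : IsAffineOpen V) (hWV : W ≤ q ⁻¹ᵁ V)
    (hU : AffFactors (U.ι ≫ q)) : AffFactors q := by
  classical
  obtain ⟨M, g, a, hg, hMc, hMq, ha, hag⟩ := hU
  haveI : IsAffine W.toScheme := hW
  haveI : IsAffine V.toScheme := hV
  haveI : CompactSpace V := isCompact_iff_compactSpace.mp hV.isCompact
  haveI : QuasiCompact V.ι := quasiCompact_of_compactSpace _
  let N : T.Opens := U ⊓ W
  have hNc : IsCompact (N : Set T) := hUc.inter_of_isOpen hW.isCompact U.2 W.2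
  let qW : W.toScheme ⟶ V.toScheme := q.resLE V W hWV
  let N' : W.toScheme.Opens := W.ι ⁻¹ᵁ N
  have hN'c : IsCompact (N' : Set W.toScheme) :=
    W.ι.isOpenEmbedding.isInducing.isCompact_preimage' hNc
      (by rw [Scheme.Opens.range_ι]; exact fun x hx => hx.2)
  obtain ⟨Bs, hBs⟩ := hN'c.elim_finite_subcover
    (fun b : {b : Γ(W.toScheme, ⊤) // W.toScheme.basicOpen b ≤ N'} =>
      (W.toScheme.basicOpen b.1 : Set W.toScheme))
    (fun b => (W.toScheme.basicOpen b.1).2) (fun y hy => by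
      obtain ⟨b, hb, hyb⟩ := (isAffineOpen_top W.toScheme).exists_basicOpen_le ⟨y, hy⟩ trivial
      exact Set.mem_iUnion.mpr ⟨⟨b, hb⟩, hyb⟩)
  let A : Scheme.{u} := Spec (CommRingCat.of (MvPolynomial Bs Γ(V.toScheme, ⊤)))
  let gA : A ⟶ S := mvSpecHom V.toScheme Bs ≫ V.ι
  let k : W.toScheme ⟶ A := toMvSpec qW (fun b => b.1.1)
  have hk : k ≫ gA = W.ι ≫ q := by
    rw [← Category.assoc, toMvSpec_comp, Scheme.Hom.resLE_comp_ι]
  let xA : Bs → Γ(A, ⊤) := fun b =>
    (Scheme.ΓSpecIso (CommRingCat.of (MvPolynomial Bs Γ(V.toScheme, ⊤)))).inv (MvPolynomial.X b)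
  let H : A.Opens := ⨆ b : Bs, A.basicOpen (xA b)
  have hHc : IsCompact (H : Set A) := by
    rw [Opens.coe_iSup]
    exact isCompact_iUnion fun b => ((isAffineOpen_top A).basicOpen (xA b)).isCompact
  have hkH : k ⁻¹ᵁ H = N' := by
    rw [Scheme.Hom.preimage_iSup]
    have e : ∀ b, k ⁻¹ᵁ A.basicOpen (xA b) = W.toScheme.basicOpen b.1.1 := fun b => by
      rw [Scheme.preimage_basicOpen_top, toMvSpec_appTop, MvPolynomial.eval₂Hom_X']
    simp only [e]
    refine le_antisymm (iSup_le fun b => b.1.2) fun z hz => ?_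
    obtain ⟨b, hb, hzb⟩ := Set.mem_iUnion₂.mp (hBs hz)
    exact Opens.mem_iSup.mpr ⟨⟨b, hb⟩, hzb⟩
  -- `U` as a limit of schemes affine and of finite presentation over `M`
  have hcof : Cofinal a (⊤ : MorphismProperty Scheme.{u}) := fun {_} => cofinal_top a
  haveI := isDirected_idx hcof
  haveI := nonempty_idx hcof
  let D := system a (⊤ : MorphismProperty Scheme.{u}) ⋙ Over.forget M
  let c : Cone D := (Over.forget M).mapCone (cone a ⊤)
  haveI : IsConnected (Idx a (⊤ : MorphismProperty Scheme.{u}))ᵒᵖ := IsCofiltered.isConnected _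
  have hc : IsLimit c := isLimitOfPreserves (Over.forget M) (nonempty_isLimit_cone a ⊤ hcof).some
  haveI : ∀ {i j} (φ : i ⟶ j), IsAffineHom (D.map φ) := fun φ => isAffineHom_system_map a ⊤ φ
  let str : ∀ i, D.obj i ⟶ M := fun i => ((system a (⊤ : MorphismProperty Scheme.{u})).obj i).hom
  haveI : ∀ i, IsAffineHom (str i) := fun i => isAffineHom_system_hom a ⊤ i
  haveI : ∀ i, LocallyOfFinitePresentation (str i) := fun i => lfp_system_hom a ⊤ i
  haveI : ∀ i, CompactSpace (D.obj i) := fun i =>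
    QuasiCompact.compactSpace_of_compactSpace (str i)
  haveI : ∀ i, QuasiSeparatedSpace (D.obj i) := fun i =>
    quasiSeparatedSpace_of_quasiSeparated (str i)
  have hstr : ∀ {i j} (φ : i ⟶ j), D.map φ ≫ str j = str i := fun φ => hom_transition a ⊤ φ
  have hπ : ∀ i, c.π.app i ≫ str i = a := fun i =>
    Over.w ((cone a (⊤ : MorphismProperty Scheme.{u})).π.app i)
  let pU : N.toScheme ⟶ U.toScheme := T.homOfLE inf_le_left
  let pW : N.toScheme ⟶ W.toScheme := T.homOfLE inf_le_right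
  haveI : CompactSpace N := isCompact_iff_compactSpace.mp hNc
  obtain ⟨i₀, G₀, hG₀c, hG₀⟩ := exists_preimage_eq D c hc pU.opensRange
    (by rw [Scheme.Hom.coe_opensRange]; exact isCompact_range pU.continuous)
  let DG := opensDiagram D i₀ G₀
  let cG := opensCone D c i₀ G₀
  have hcG : IsLimit cG := isLimitOpensCone D c hc i₀ G₀
  haveI : ∀ j, CompactSpace (DG.obj j) := fun j =>
    isCompact_iff_compactSpace.mp (QuasiCompact.isCompact_preimage _ G₀.2 hG₀c)
  haveI : ∀ j, QuasiSeparatedSpace (DG.obj j) := fun j =>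
    .of_isOpenEmbedding ((D.map j.hom ⁻¹ᵁ G₀).ι.isOpenEmbedding)
  haveI : IsOpenImmersion pU := inferInstance
  let O : U.toScheme.Opens := c.π.app i₀ ⁻¹ᵁ G₀
  have hO : O = pU.opensRange := hG₀
  have hrange : Set.range O.ι = Set.range pU := by
    rw [Scheme.Opens.range_ι, hO, Scheme.Hom.coe_opensRange]
  let eN' : O.toScheme ≅ N.toScheme := IsOpenImmersion.isoOfRangeEq O.ι pU hrange
  let eN : cG.pt ≅ N.toScheme := eN'
  have heN : eN.hom ≫ pU = O.ι := IsOpenImmersion.isoOfRangeEq_hom_fac _ _ _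
  let kH : N.toScheme ⟶ H.toScheme := IsOpenImmersion.lift H.ι (pW ≫ k) (by
    rw [Scheme.Opens.range_ι]
    rintro _ ⟨z, rfl⟩
    have h1 : pW z ∈ N' := by
      show (pW ≫ W.ι) z ∈ N
      rw [Scheme.homOfLE_ι]
      exact z.2
    exact hkH.ge h1)
  have hkH' : kH ≫ H.ι = pW ≫ k := IsOpenImmersion.lift_fac _ _ _
  have pbH : IsPullback kH pW H.ι k := IsOpenImmersion.isPullback _ _ _ _ hkH'.symm (by
    rw [Scheme.Opens.opensRange_ι, hkH, Scheme.opensRange_homOfLE])
  haveI : IsAffineHom k := inferInstance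
  haveI : IsAffineHom kH := MorphismProperty.of_isPullback pbH.flip inferInstance
  have hNq : pU ≫ a ≫ g = pW ≫ k ≫ gA := by
    rw [hag, hk, Scheme.homOfLE_ι_assoc, Scheme.homOfLE_ι_assoc]
  let t : DG ⟶ (Functor.const _).obj S :=
    { app := fun j => (D.map j.hom ⁻¹ᵁ G₀).ι ≫ str j.left ≫ g
      naturality := fun j l φ => by
        simp only [DG, opensDiagram, Functor.const_obj_map, Scheme.Hom.resLE_comp_ι_assoc]
        rw [reassoc_of% hstr φ.left]
        exact (Category.comp_id _).symm }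
  haveI : CompactSpace H := isCompact_iff_compactSpace.mp hHc
  haveI : QuasiSeparatedSpace H.toScheme := .of_isOpenEmbedding H.ι.isOpenEmbedding
  obtain ⟨j, h₀, hh₀, hh₀'⟩ := Scheme.exists_π_app_comp_eq_of_locallyOfFinitePresentation
    DG t (H.ι ≫ gA) cG hcG (eN.hom ≫ kH) (by
      ext j : 2
      simp only [NatTrans.comp_app, Functor.const_map_app, Category.assoc]
      have e1 : cG.π.app j ≫ t.app j = O.ι ≫ a ≫ g := by
        simp only [cG, opensCone, t, Scheme.Hom.resLE_comp_ι_assoc]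
        rw [reassoc_of% hπ j.left]
      rw [e1, ← heN, Category.assoc, hNq, reassoc_of% hkH'])
  haveI : QuasiCompact h₀ := quasiCompact_of_compactSpace h₀
  haveI : IsAffineHom (cG.π.app j ≫ h₀) := by rw [hh₀]; infer_instance
  obtain ⟨l, φ, hl⟩ := Limit.exists_isAffineHom hcG h₀
  let G : (D.obj l.left).Opens := D.map l.hom ⁻¹ᵁ G₀
  let h : G.toScheme ⟶ H.toScheme := DG.map φ ≫ h₀
  haveI : IsAffineHom h := hl
  have hhg : h ≫ H.ι ≫ gA = G.ι ≫ str l.left ≫ g := by
    show (DG.map φ ≫ h₀) ≫ _ = _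
    rw [Category.assoc, hh₀', t.naturality φ]
    exact Category.comp_id _
  haveI : LocallyOfFinitePresentation h := by
    haveI : LocallyOfFinitePresentation (h ≫ H.ι ≫ gA) := by rw [hhg]; infer_instance
    exact Groth.Agent.S12442.result h (H.ι ≫ gA)
  let aN : N.toScheme ⟶ G.toScheme := eN.inv ≫ cG.π.app l
  have haN : aN ≫ G.ι = pU ≫ c.π.app l.left := by
    show (eN.inv ≫ cG.π.app l) ≫ _ = _
    rw [Category.assoc, Iso.inv_comp_eq, reassoc_of% heN]
    exact Scheme.Hom.resLE_comp_ι _ _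
  have haH : aN ≫ h = kH := by
    show (eN.inv ≫ cG.π.app l) ≫ DG.map φ ≫ h₀ = _
    rw [Category.assoc, cG.w_assoc, hh₀, Iso.inv_hom_id_assoc]
  let eH : (k ⁻¹ᵁ H).toScheme ≅ N.toScheme := IsOpenImmersion.isoOfRangeEq (k ⁻¹ᵁ H).ι pW (by
    rw [Scheme.Opens.range_ι, ← Scheme.Hom.coe_opensRange, Scheme.opensRange_homOfLE, hkH])
  have heH : eH.hom ≫ pW = (k ⁻¹ᵁ H).ι := IsOpenImmersion.isoOfRangeEq_hom_fac _ _ _
  obtain ⟨W', gW', v, b, hW'aff, hW'fp, _, hvk, hbg, hrgb, hvb⟩ :=
    exists_affine_extension H hHc k h (eH.hom ≫ aN) (by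
      rw [Category.assoc, ← Category.assoc aN h, haH, hkH', reassoc_of% heH])
  have hvb' : pW ≫ v = aN ≫ b := by
    rw [← cancel_epi eH.hom, reassoc_of% heH, hvb, Category.assoc]
  have hMW : G.ι ≫ str l.left ≫ g = b ≫ gW' ≫ gA := by
    rw [← hhg, reassoc_of% hbg]
  obtain ⟨φT, hφU, hφW⟩ := exists_glue U W hcov (c.π.app l.left ≫ pushout.inl G.ι b)
    (v ≫ pushout.inr G.ι b) (by
      change pU ≫ _ = pW ≫ _
      rw [reassoc_of% hvb', ← pushout.condition, reassoc_of% haN])
  haveI : CompactSpace G := isCompact_iff_compactSpace.mp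
    (QuasiCompact.isCompact_preimage _ G₀.2 hG₀c)
  haveI : IsAffineHom (c.π.app l.left) := isAffineHom_π_app D c hc l.left
  haveI : IsAffineHom v := inferInstance
  refine ⟨pushout G.ι b, pushout.desc _ _ hMW, φT, ?_, compactSpace_pushout _ _,
    quasiSeparatedSpace_pushout _ _, ?_, ?_⟩
  · refine IsZariskiLocalAtSource.of_openCover
      (Scheme.IsLocallyDirected.openCover (span G.ι b)) fun i => ?_
    match i with
    | none =>
      change LocallyOfFinitePresentation (colimit.ι (span G.ι b) none ≫ pushout.desc _ _ hMW)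
      rw [← colimit.w (span G.ι b) WalkingSpan.Hom.fst, Category.assoc]
      change LocallyOfFinitePresentation (G.ι ≫ pushout.inl G.ι b ≫ pushout.desc _ _ hMW)
      rw [pushout.inl_desc]; infer_instance
    | some .left =>
      change LocallyOfFinitePresentation (pushout.inl G.ι b ≫ pushout.desc _ _ hMW)
      rw [pushout.inl_desc]; infer_instance
    | some .right =>
      change LocallyOfFinitePresentation (pushout.inr G.ι b ≫ pushout.desc _ _ hMW)
      rw [pushout.inr_desc]; infer_instance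
  · have hmemT : ∀ x : T, x ∈ U ∨ x ∈ W := fun x => by simpa using hcov.ge (Opens.mem_top x)
    have hU' : ∀ x, φT (U.ι x) = pushout.inl G.ι b (c.π.app l.left x) := fun x => congr($hφU x)
    have hW' : ∀ x, φT (W.ι x) = pushout.inr G.ι b (v x) := fun x => congr($hφW x)
    have preU : φT ⁻¹ᵁ (pushout.inl G.ι b).opensRange = U.ι.opensRange := by
      rw [Scheme.Opens.opensRange_ι]
      ext x
      refine ⟨fun ⟨y, hy⟩ => ?_, fun hx => ⟨_, (hU' ⟨x, hx⟩).symm⟩⟩
      rcases hmemT x with hx | hx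
      · exact hx
      · obtain ⟨z, -, hz⟩ := exists_of_inl_eq_inr G.ι b (hy.trans (hW' ⟨x, hx⟩))
        have hkx : k ⟨x, hx⟩ ∈ H := by
          rw [show k ⟨x, hx⟩ = gW' (v ⟨x, hx⟩) from congr($hvk.symm ⟨x, hx⟩), ← hz]
          exact hrgb.ge ⟨z, rfl⟩
        exact (hkH.le hkx : (⟨x, hx⟩ : W.toScheme) ∈ N').1
    have preW : φT ⁻¹ᵁ (pushout.inr G.ι b).opensRange = W.ι.opensRange := by
      rw [Scheme.Opens.opensRange_ι]
      ext x
      refine ⟨fun ⟨y, hy⟩ => ?_, fun hx => ⟨_, (hW' ⟨x, hx⟩).symm⟩⟩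
      rcases hmemT x with hx | hx
      · obtain ⟨z, hz, -⟩ := exists_of_inl_eq_inr G.ι b ((hU' ⟨x, hx⟩).symm.trans hy.symm)
        have hzG : D.map l.hom (c.π.app l.left ⟨x, hx⟩) ∈ G₀ := by
          rw [← hz]
          exact z.2
        rw [← Scheme.Hom.comp_apply, c.w] at hzG
        obtain ⟨w, hw⟩ := hG₀.le hzG
        have : (pU w).1 = x := congrArg Subtype.val hw
        rw [← this]
        simpa [pU] using w.2.2
      · exact hx
    refine IsZariskiLocalAtTarget.of_iSup_eq_top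
      (fun i : Bool => cond i (pushout.inl G.ι b).opensRange (pushout.inr G.ι b).opensRange)
      (top_le_iff.mp ((opensRange_sup_opensRange G.ι b).ge.trans
        (sup_le (le_iSup_of_le true le_rfl) (le_iSup_of_le false le_rfl)))) fun i => ?_
    cases i with
    | true =>
      exact morphismRestrict_of_isPullback @IsAffineHom
        (IsOpenImmersion.isPullback (c.π.app l.left) U.ι (pushout.inl G.ι b) φT hφU preU)
        inferInstance
    | false =>
      exact morphismRestrict_of_isPullback @IsAffineHom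
        (IsOpenImmersion.isPullback v W.ι (pushout.inr G.ι b) φT hφW preW) inferInstance
  · refine (Scheme.openCoverOfIsOpenCover T (fun i : Bool => cond i U W)
      (top_le_iff.mp (hcov.ge.trans
        (sup_le (le_iSup_of_le true le_rfl) (le_iSup_of_le false le_rfl))))).hom_ext _ _ fun i => ?_
    cases i with
    | true =>
      change U.ι ≫ φT ≫ _ = U.ι ≫ q
      rw [reassoc_of% hφU, pushout.inl_desc, reassoc_of% hπ l.left, hag]
    | false =>
      change W.ι ≫ φT ≫ _ = W.ι ≫ q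
      rw [reassoc_of% hφW, pushout.inr_desc, reassoc_of% hvk, hk]

/-- A morphism from a qcqs scheme to a quasi-separated one is affine followed by finite
presentation. -/
theorem affFactors {X S : Scheme.{u}} (f : X ⟶ S) [CompactSpace X] [QuasiSeparatedSpace X]
    [QuasiSeparatedSpace S] : AffFactors f := by
  classical
  obtain ⟨F, hF⟩ := isCompact_univ.elim_finite_subcover
    (fun W : {W : X.affineOpens // ∃ V : S.affineOpens, W.1 ≤ f ⁻¹ᵁ V.1} => (W.1.1 : Set X))
    (fun W => W.1.1.2) (fun x _ => by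
      obtain ⟨_, ⟨V, hV, rfl⟩, hxV, -⟩ :=
        S.isBasis_affineOpens.exists_subset_of_mem_open (Set.mem_univ (f x)) isOpen_univ
      obtain ⟨_, ⟨W, hW, rfl⟩, hxW, hle⟩ :=
        X.isBasis_affineOpens.exists_subset_of_mem_open (show x ∈ f ⁻¹ᵁ V from hxV) (f ⁻¹ᵁ V).2
      exact Set.mem_iUnion.mpr ⟨⟨⟨W, hW⟩, ⟨V, hV⟩, hle⟩, hxW⟩)
  suffices H : ∀ t : Finset {W : X.affineOpens // ∃ V : S.affineOpens, W.1 ≤ f ⁻¹ᵁ V.1},
      IsCompact ((t.sup (fun W => W.1.1) : X.Opens) : Set X) ∧
      AffFactors ((t.sup (fun W => W.1.1)).ι ≫ f) by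
    have h := (H F).2
    have e : F.sup (fun W => W.1.1) = ⊤ := top_le_iff.mp fun x _ => by
      obtain ⟨W, hW, hxW⟩ := Set.mem_iUnion₂.mp (hF (Set.mem_univ x))
      exact Finset.le_sup (f := fun W : {W : X.affineOpens // _} => W.1.1) hW hxW
    haveI : IsIso (F.sup (fun W => W.1.1)).ι := isIso_ι_of_eq_top e
    simpa using h.of_iso (inv (F.sup (fun W => W.1.1)).ι)
  intro t
  induction t using Finset.induction with
  | empty =>
    refine ⟨by simp, ?_⟩
    haveI : IsEmpty ((∅ : Finset {W : X.affineOpens // ∃ V : S.affineOpens, W.1 ≤ f ⁻¹ᵁ V.1}).sup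
        (fun W => W.1.1)).toScheme := ⟨fun x => (show x.1 ∈ (⊥ : X.Opens) from x.2).elim⟩
    exact affFactors_of_isEmpty _
  | insert W t _ ih =>
    obtain ⟨hc, hE⟩ := ih
    obtain ⟨V, hWV⟩ := W.2
    let U := t.sup (fun W => W.1.1)
    have e : (insert W t).sup (fun W => W.1.1) = U ⊔ W.1.1 := by
      rw [Finset.sup_insert, sup_comm]
    rw [e]
    have hc' : IsCompact ((U ⊔ W.1.1 : X.Opens) : Set X) := by
      rw [Opens.coe_sup]; exact hc.union W.1.2.isCompact
    refine ⟨hc', ?_⟩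
    let T := (U ⊔ W.1.1)
    let U' : T.toScheme.Opens := T.ι ⁻¹ᵁ U
    let W' : T.toScheme.Opens := T.ι ⁻¹ᵁ W.1.1
    haveI : QuasiSeparatedSpace T.toScheme := .of_isOpenEmbedding T.ι.isOpenEmbedding
    let eU : U'.toScheme ≅ U.toScheme := Scheme.Opens.isoOfLE le_sup_left
    refine affFactors_of_sup (T.ι ≫ f) U' W' ?_ ?_ ?_ V.1 V.2 ?_ ?_
    · rw [← Scheme.Hom.preimage_sup]; exact T.ι_preimage_self
    · exact T.ι.isOpenEmbedding.isInducing.isCompact_preimage' hc
        (by rw [Scheme.Opens.range_ι]; exact (le_sup_left : U ≤ U ⊔ W.1.1))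
    · exact W.1.2.preimage_of_isOpenImmersion T.ι
        (by rw [Scheme.Opens.opensRange_ι]; exact le_sup_right)
    · intro x hx
      exact hWV hx
    · have : U'.ι ≫ T.ι ≫ f = eU.hom ≫ U.ι ≫ f := by simp [eU, U']
      rw [this]; exact hE.of_iso eU.hom

end Groth.L19.Approx
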