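import Mathlib.AlgebraicGeometry.AffineTransitionLimit
import Mathlib.CategoryTheory.Limits.Constructions.Over.Connected

/-!
# From limits of affine schemes over an affine base to colimits of algebras
-/

universe u

open CategoryTheory CategoryTheory.Limits AlgebraicGeometry Opposite

namespace Groth.L19.Approx

set_option backward.isDefEq.respectTransparency.types false
set_option backward.isDefEq.respectTransparency false
set_option backward.defeqAttrib.useBackward true
set_option linter.style.haveILetI false

variable {A B : CommRingCat.{u}} (φ : A ⟶ B) {I : Type u} [Preorder I]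
  (D : Iᵒᵖ ⥤ Over (Spec A)) [∀ i, IsAffine (D.obj i).left]

/-- The algebras of global sections. -/
noncomputable def algFunctor : I ⥤ Under A where
  obj i := Under.mk (Spec.preimage ((D.obj (op i)).left.isoSpec.inv ≫ (D.obj (op i)).hom))
  map {i j} h := Under.homMk (D.map h.op).left.appTop (by
    apply Spec.map_injective
    simp only [Under.mk_hom, Spec.map_comp, Spec.map_preimage]
    rw [Scheme.isoSpec_inv_naturality_assoc, Over.w])
  map_id i := by
    apply Under.UnderMorphism.ext
    simp
  map_comp f g := by
    apply Under.UnderMorphism.ext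
    simp

variable (c : Cone D) (e : c.pt = Over.mk (Spec.map φ))

theorem spec_map_algFunctor_hom (i : I) :
    Spec.map ((algFunctor D).obj i).hom =
      (D.obj (op i)).left.isoSpec.inv ≫ (D.obj (op i)).hom := by
  simp [algFunctor]

theorem exists_colimit (hD : IsDirected I (fun a b => a ≤ b)) [Nonempty I] (hc : IsLimit c)
    (hpt : c.pt ≅ Over.mk (Spec.map φ)) :
    ∃ (cc : Cocone (algFunctor D)) (_ : IsColimit cc), Nonempty (cc.pt ≅ Under.mk φ) := by
  haveI : IsConnected I := IsFiltered.isConnected _
  haveI : IsConnected Iᵒᵖ := IsCofiltered.isConnected _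
  have hc' := isLimitOfPreserves (Over.forget (Spec A)) hc
  haveI : ∀ i, IsAffine ((D ⋙ Over.forget (Spec A)).obj i) := fun i =>
    inferInstanceAs (IsAffine (D.obj i).left)
  obtain ⟨hcol⟩ := nonempty_isColimit_Γ_mapCocone (D ⋙ Over.forget (Spec A))
    ((Over.forget (Spec A)).mapCone c) hc'
  let cc0 : Cocone (algFunctor D ⋙ Under.forget A) :=
    { pt := Γ(c.pt.left, ⊤)
      ι :=
        { app := fun i => (c.π.app (op i)).left.appTop
          naturality := fun i j h => by
            show (D.map h.op).left.appTop ≫ _ = _ ≫ 𝟙 _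
            rw [Category.comp_id, ← Scheme.Hom.comp_appTop, ← Over.comp_left, c.w] } }
  have hcc0 : IsColimit cc0 :=
    { desc := fun s => hcol.desc
        { pt := s.pt
          ι :=
            { app := fun i => s.ι.app i.unop.unop
              naturality := fun i j h => s.ι.naturality h.unop.unop } }
      fac := fun s i => hcol.fac _ (op (op i))
      uniq := fun s m hm => hcol.uniq { pt := s.pt, ι :=
          { app := fun i => s.ι.app i.unop.unop
            naturality := fun i j h => s.ι.naturality h.unop.unop } } m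
        fun i => hm i.unop.unop }
  let b : Γ(c.pt.left, ⊤) ≅ B :=
    Scheme.Γ.mapIso ((Over.forget (Spec A)).mapIso hpt).op.symm ≪≫ Scheme.ΓSpecIso B
  let ψ : A ⟶ Γ(c.pt.left, ⊤) := φ ≫ b.inv
  have hψ : ∀ i, ((algFunctor D).obj i).hom ≫ cc0.ι.app i = ψ := by
    intro i
    have hw : (hpt.hom).left ≫ Spec.map φ = c.pt.hom := Over.w hpt.hom
    have hwi : (c.π.app (op i)).left ≫ (D.obj (op i)).hom = c.pt.hom := Over.w (c.π.app (op i))
    have key : ∀ {X Y : Scheme.{u}} (g : X ⟶ Spec A) (_ : IsAffine X) (w : Y ⟶ X) (a : A ⟶ Γ(X, ⊤)),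
        Spec.map a = X.isoSpec.inv ≫ g → a ≫ w.appTop = (Scheme.ΓSpecIso A).inv ≫ (w ≫ g).appTop := by
      intro X Y g _ w a ha
      rw [Scheme.Hom.comp_appTop, ← Category.assoc]
      congr 1
      have : g = X.isoSpec.hom ≫ Spec.map a := by rw [ha, Iso.hom_inv_id_assoc]
      rw [this, Scheme.Hom.comp_appTop, Scheme.isoSpec_hom, Scheme.toSpecΓ_appTop,
        Scheme.ΓSpecIso_naturality, Iso.inv_hom_id_assoc]
    rw [key (D.obj (op i)).hom inferInstance (c.π.app (op i)).left _ (spec_map_algFunctor_hom D i),
      hwi, ← hw, Scheme.Hom.comp_appTop]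
    show _ = φ ≫ (Scheme.ΓSpecIso B).inv ≫ (hpt.hom).left.appTop
    rw [← Category.assoc, ← Category.assoc, Scheme.ΓSpecIso_inv_naturality]
  let cc : Cocone (algFunctor D) :=
    { pt := Under.mk ψ
      ι :=
        { app := fun i => Under.homMk (cc0.ι.app i) (hψ i)
          naturality := fun i j h => by
            apply Under.UnderMorphism.ext
            exact cc0.ι.naturality h } }
  refine ⟨cc, isColimitOfReflects (Under.forget A) hcc0, ⟨Under.isoMk b ?_⟩⟩
  show (φ ≫ b.inv) ≫ b.hom = φ
  rw [Category.assoc, Iso.inv_hom_id, Category.comp_id]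

end Groth.L19.Approx
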