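import Groth.Agent.L19.Approx.IdealStage
import Mathlib.AlgebraicGeometry.AffineTransitionLimit
import Mathlib.CategoryTheory.Filtered.Final

/-!
# Limits of arrows
-/

set_option backward.isDefEq.respectTransparency.types false
set_option backward.isDefEq.respectTransparency false
set_option backward.defeqAttrib.useBackward true
set_option linter.style.haveILetI false

universe u

open CategoryTheory CategoryTheory.Limits AlgebraicGeometry Opposite

namespace Groth.L19.Approx.Arr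

variable {I J : Type u} [Preorder I] [Preorder J] (DS : Iᵒᵖ ⥤ Scheme.{u}) (DX : Jᵒᵖ ⥤ Scheme.{u})
  (cS : Cone DS) (cX : Cone DX) (f : cX.pt ⟶ cS.pt)

/-- Stages with a morphism compatible with `f`. -/
structure Ix where
  /-- the stage of the target -/
  i : I
  /-- the stage of the source -/
  j : J
  /-- the morphism -/
  g : DX.obj (op j) ⟶ DS.obj (op i)
  w : cX.π.app (op j) ≫ g = f ≫ cS.π.app (op i)

variable {DS DX cS cX f}

instance : Preorder (Ix DS DX cS cX f) where
  le a b := ∃ (hi : a.i ≤ b.i) (hj : a.j ≤ b.j),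
    b.g ≫ DS.map (homOfLE hi).op = DX.map (homOfLE hj).op ≫ a.g
  le_refl a := ⟨le_rfl, le_rfl, by simp⟩
  le_trans a b c := fun ⟨hi, hj, h⟩ ⟨hi', hj', h'⟩ => ⟨hi.trans hi', hj.trans hj', by
    rw [← homOfLE_comp hi hi', ← homOfLE_comp hj hj', op_comp, op_comp, Functor.map_comp,
      Functor.map_comp, reassoc_of% h', h, Category.assoc]⟩

theorem monotone_i : Monotone (fun a : Ix DS DX cS cX f => a.i) := fun _ _ h => h.1

theorem monotone_j : Monotone (fun a : Ix DS DX cS cX f => a.j) := fun _ _ h => h.2.1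

variable (DS DX cS cX f) in
/-- The morphism of systems. -/
noncomputable def nat :
    monotone_j.functor.op ⋙ DX ⟶ (monotone_i (DS := DS) (DX := DX) (cS := cS) (cX := cX) (f := f)).functor.op ⋙ DS where
  app a := a.unop.g
  naturality a b m := by
    obtain ⟨_, _, h⟩ := m.unop.le
    exact h.symm

variable [IsDirected J (· ≤ ·)] [Nonempty J] [∀ {i j} (a : i ⟶ j), IsAffineHom (DX.map a)]
  [∀ i, CompactSpace (DX.obj i)] [∀ i, QuasiSeparatedSpace (DX.obj i)]
  (hS : ∀ i, LocallyOfFinitePresentation (specULiftZIsTerminal.from (DS.obj i)))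

variable (DX) in
/-- The structure maps over the final scheme. -/
noncomputable def base : DX ⟶ (Functor.const Jᵒᵖ).obj (Spec (CommRingCat.of (ULift.{u} ℤ))) where
  app j := specULiftZIsTerminal.from _
  naturality _ _ _ := specULiftZIsTerminal.hom_ext _ _

include hS in
theorem exists_ix (hX : IsLimit cX) (i : I) (j₀ : J) :
    ∃ a : Ix DS DX cS cX f, a.i = i ∧ j₀ ≤ a.j := by
  haveI := hS (op i)
  obtain ⟨j, g, hg, -⟩ := Scheme.exists_π_app_comp_eq_of_locallyOfFinitePresentation DX (base DX)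
    (specULiftZIsTerminal.from (DS.obj (op i))) cX hX (f ≫ cS.π.app (op i))
    (NatTrans.ext (funext fun k => specULiftZIsTerminal.hom_ext _ _))
  obtain ⟨m, h₀, h₁⟩ := exists_ge_ge j₀ j.unop
  refine ⟨⟨i, m, DX.map (homOfLE h₁).op ≫ g, ?_⟩, rfl, h₀⟩
  rw [← Category.assoc, cX.w]
  exact hg

include hS in
theorem isDirected_ix [IsDirected I (· ≤ ·)] (hX : IsLimit cX) :
    IsDirected (Ix DS DX cS cX f) (fun a b => a ≤ b) := by
  refine ⟨fun a b => ?_⟩
  obtain ⟨i, hai, hbi⟩ := exists_ge_ge a.i b.i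
  obtain ⟨j₀, haj, hbj⟩ := exists_ge_ge a.j b.j
  obtain ⟨c, rfl, hc⟩ := exists_ix hS hX (f := f) i j₀
  have key : ∀ (e : Ix DS DX cS cX f) (hi : e.i ≤ c.i) (hj : e.j ≤ c.j),
      ∃ (k : J) (hk : c.j ≤ k), DX.map (homOfLE hk).op ≫ c.g ≫ DS.map (homOfLE hi).op =
        DX.map (homOfLE hk).op ≫ DX.map (homOfLE hj).op ≫ e.g := by
    intro e hi hj
    haveI := hS (op e.i)
    obtain ⟨k, m, hk⟩ := Scheme.exists_hom_comp_eq_comp_of_locallyOfFiniteType DX (base DX)
      (specULiftZIsTerminal.from (DS.obj (op e.i))) cX hX (i := op c.j)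
      (c.g ≫ DS.map (homOfLE hi).op) (DX.map (homOfLE hj).op ≫ e.g)
      (specULiftZIsTerminal.hom_ext _ _) (specULiftZIsTerminal.hom_ext _ _) (by
        rw [reassoc_of% c.w, cS.w, ← Category.assoc, cX.w, e.w])
    exact ⟨k.unop, m.unop.le, by rwa [show m = (homOfLE m.unop.le).op from Subsingleton.elim _ _] at hk⟩
  obtain ⟨ka, hka, ea⟩ := key a hai (haj.trans hc)
  obtain ⟨kb, hkb, eb⟩ := key b hbi (hbj.trans hc)
  obtain ⟨m, hma, hmb⟩ := exists_ge_ge ka kb
  refine ⟨⟨c.i, m, DX.map (homOfLE (hka.trans hma)).op ≫ c.g, ?_⟩, ⟨hai, (haj.trans hc).trans (hka.trans hma), ?_⟩,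
    ⟨hbi, (hbj.trans hc).trans (hkb.trans hmb), ?_⟩⟩
  · rw [← Category.assoc, cX.w, c.w]
  · show (DX.map (homOfLE (hka.trans hma)).op ≫ c.g) ≫ DS.map (homOfLE hai).op =
      DX.map (homOfLE ((haj.trans hc).trans (hka.trans hma))).op ≫ a.g
    rw [← homOfLE_comp (haj.trans hc) (hka.trans hma), ← homOfLE_comp hka hma]
    simp only [op_comp, Functor.map_comp, Category.assoc]
    rw [ea]
  · show (DX.map (homOfLE (hkb.trans hmb)).op ≫ c.g) ≫ DS.map (homOfLE hbi).op =
      DX.map (homOfLE ((hbj.trans hc).trans (hkb.trans hmb))).op ≫ b.g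
    rw [← homOfLE_comp (hbj.trans hc) (hkb.trans hmb), ← homOfLE_comp hkb hmb]
    simp only [op_comp, Functor.map_comp, Category.assoc]
    rw [eb]

include hS in
theorem exists_arrow [IsDirected I (· ≤ ·)] [Nonempty I] (hX : IsLimit cX) (hcS : IsLimit cS) :
    ∃ (K : Type u) (_ : Preorder K) (_ : IsDirected K (fun a b => a ≤ b)) (_ : Nonempty K)
      (pi : K → I) (hpi : Monotone pi) (pj : K → J) (hpj : Monotone pj)
      (φ : hpj.functor.op ⋙ DX ⟶ hpi.functor.op ⋙ DS),
      (∀ k, cX.π.app (op (pj k.unop)) ≫ φ.app k = f ≫ cS.π.app (op (pi k.unop))) ∧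
      Nonempty (IsLimit (cX.whisker hpj.functor.op)) ∧ Nonempty (IsLimit (cS.whisker hpi.functor.op)) := by
  haveI := isDirected_ix hS hX (f := f) (cS := cS)
  obtain ⟨i₀⟩ := ‹Nonempty I›
  obtain ⟨j₀⟩ := ‹Nonempty J›
  refine ⟨Ix DS DX cS cX f, inferInstance, inferInstance, ⟨(exists_ix hS hX i₀ j₀).choose⟩,
    fun a => a.i, monotone_i, fun a => a.j, monotone_j, nat DS DX cS cX f, fun k => k.unop.w, ?_, ?_⟩
  · haveI : (monotone_j (DS := DS) (DX := DX) (cS := cS) (cX := cX) (f := f)).functor.Final :=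
      monotone_j.final_functor_iff.mpr fun j => by
        obtain ⟨a, -, ha⟩ := exists_ix hS hX (f := f) (cS := cS) i₀ j
        exact ⟨a, ha⟩
    exact ⟨(Functor.Initial.isLimitWhiskerEquiv _ cX).symm hX⟩
  · haveI : (monotone_i (DS := DS) (DX := DX) (cS := cS) (cX := cX) (f := f)).functor.Final :=
      monotone_i.final_functor_iff.mpr fun i => by
        obtain ⟨a, ha, -⟩ := exists_ix hS hX (f := f) (cS := cS) i j₀
        exact ⟨a, ha.ge⟩
    exact ⟨(Functor.Initial.isLimitWhiskerEquiv _ cS).symm hcS⟩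

end Groth.L19.Approx.Arr
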