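import Groth.Agent.L19.Approx.Embed
import Groth.Agent.L19.Limit.Finite

/-!
# Extending affine schemes of finite presentation from quasi-compact opens of affine schemes
-/

universe u

open CategoryTheory CategoryTheory.Limits AlgebraicGeometry TopologicalSpace Opposite

namespace Groth.L19.Approx

set_option backward.isDefEq.respectTransparency.types false
set_option backward.isDefEq.respectTransparency false
set_option backward.defeqAttrib.useBackward true
set_option linter.style.haveILetI false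

/-- `exists_extend` with an arbitrary bounding ideal. -/
theorem exists_extend_le {M Z : Scheme.{u}} [CompactSpace Z] [QuasiSeparatedSpace Z]
    (G : Z.Opens) (hG : IsCompact (G : Set Z)) (L₀ : Z.IdealSheafData)
    (m : M ⟶ G.toScheme) [IsClosedImmersion m] [LocallyOfFinitePresentation m]
    (hle : m.ker ≤ L₀.comap G.ι) :
    ∃ (K : Z.IdealSheafData) (a : M ⟶ K.subscheme), FGOn K ⊤ ∧ K ≤ L₀ ∧ IsOpenImmersion a ∧
      a ≫ K.subschemeι = m ≫ G.ι ∧ (↑(K.subschemeι ⁻¹ᵁ G) : Set K.subscheme) = Set.range a := by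
  haveI : CompactSpace G := isCompact_iff_compactSpace.mp hG
  haveI : QuasiCompact G.ι := quasiCompact_of_compactSpace _
  let L := L₀ ⊓ m.ker.map G.ι
  have hL : L.comap G.ι = m.ker := by
    rw [comap_inf_of_isOpenImmersion, comap_map_of_isOpenImmersion]
    exact inf_eq_right.mpr hle
  have hfg : FGOn L G := by
    intro V hV
    have hV' : G.ι ''ᵁ (G.ι ⁻¹ᵁ V.1) = V.1 := by
      rw [Scheme.Hom.image_preimage_eq_opensRange_inf, Scheme.Opens.opensRange_ι]
      exact inf_eq_right.mpr hV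
    have H : IsAffineOpen (G.ι ⁻¹ᵁ V.1) :=
      V.2.preimage_of_isOpenImmersion _ (by rw [Scheme.Opens.opensRange_ι]; exact hV)
    have h := fgOn_ker m ⟨_, H⟩ le_top
    rw [← hL, Scheme.IdealSheafData.ideal_comap_of_isOpenImmersion] at h
    have h' := h.map (G.ι.appIso (G.ι ⁻¹ᵁ V.1)).inv.hom
    rw [Ideal.map_comap_of_surjective _
      (ConcreteCategory.bijective_of_isIso (G.ι.appIso (G.ι ⁻¹ᵁ V.1)).inv).2] at h'
    have e : (⟨_, H.image_of_isOpenImmersion G.ι⟩ : Z.affineOpens) = V := Subtype.ext hV'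
    rw [← e]
    exact h'
  obtain ⟨K, hKL, hK, heq⟩ := exists_fgOn_top L hG hfg
  have hcomap : K.comap G.ι = m.ker := by
    rw [← hL]
    ext V : 2
    simp only [Scheme.IdealSheafData.ideal_comap_of_isOpenImmersion]
    rw [heq _ ((G.ι.image_le_opensRange _).trans G.opensRange_ι.le)]
  have hker : K ≤ (m ≫ G.ι).ker := by
    rw [Scheme.Hom.ker_comp]
    exact Scheme.IdealSheafData.le_map_iff_comap_le.mpr hcomap.le
  let a : M ⟶ K.subscheme :=
    IsClosedImmersion.lift K.subschemeι (m ≫ G.ι) (K.ker_subschemeι.le.trans hker)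
  have ha : a ≫ K.subschemeι = m ≫ G.ι := IsClosedImmersion.lift_fac _ _ _
  have hsq : IsPullback m a G.ι K.subschemeι :=
    isPullback_of_isClosedImmersion m K.subschemeι a G.ι ha.symm (by rw [K.ker_subschemeι, hcomap])
  haveI : IsOpenImmersion a := MorphismProperty.of_isPullback hsq inferInstance
  refine ⟨K, a, hK, hKL.trans inf_le_left, inferInstance, ha, ?_⟩
  have h := IsOpenImmersion.image_preimage_eq_preimage_image_of_isPullback hsq ⊤
  simpa using congrArg (fun U : K.subscheme.Opens => (U : Set K.subscheme)) h.symm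

theorem ι_appTop_eq {Z : Scheme.{u}} (D : Z.Opens) (z : Γ(Z, ⊤)) :
    D.ι.appTop z = D.topIso.inv (Z.presheaf.map (homOfLE (le_top : D ≤ ⊤)).op z) := by
  simp only [Scheme.Opens.ι_appTop, Scheme.Opens.topIso_inv, ← CommRingCat.comp_apply,
    ← Functor.map_comp]
  rfl

theorem isUnit_ι_appTop {Z : Scheme.{u}} {D : Z.Opens} {b : Γ(Z, ⊤)} (hD : D = Z.basicOpen b) :
    IsUnit (D.ι.appTop b) := by
  subst hD
  rw [ι_appTop_eq]
  exact (RingedSpace.isUnit_res_basicOpen Z.toRingedSpace b).map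
    (Z.basicOpen b).topIso.inv.hom

theorem exists_ι_appTop_eq {Z : Scheme.{u}} [CompactSpace Z] [QuasiSeparatedSpace Z] {D : Z.Opens}
    {b : Γ(Z, ⊤)} (hD : D = Z.basicOpen b) (s : Γ(D.toScheme, ⊤)) :
    ∃ (n : ℕ) (y : Γ(Z, ⊤)), D.ι.appTop y = D.ι.appTop b ^ n * s := by
  subst hD
  obtain ⟨n, y, hy⟩ := exists_eq_pow_mul_of_isCompact_of_isQuasiSeparated Z ⊤ isCompact_univ
    isQuasiSeparated_univ b ((Z.basicOpen b).topIso.hom s)
  refine ⟨n, y, ?_⟩
  dsimp only [TopCat.Presheaf.restrictOpenCommRingCat_apply] at hy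
  rw [ι_appTop_eq, ι_appTop_eq, hy, map_mul, map_pow]
  congr 1
  rw [← CommRingCat.comp_apply, Iso.hom_inv_id]
  rfl

theorem exists_pow_mul_eq_zero {Z O : Scheme.{u}} [CompactSpace Z] [QuasiSeparatedSpace Z]
    (w : O ⟶ Z) [IsOpenImmersion w] {f : Γ(Z, ⊤)} (hw : w.opensRange = Z.basicOpen f)
    {δ : Γ(Z, ⊤)} (h : w.appTop δ = 0) : ∃ n : ℕ, f ^ n * δ = 0 := by
  refine exists_of_res_zero_of_qcqs_of_top ?_
  haveI : IsIso (w.app (Z.basicOpen f)) := Scheme.Hom.isIso_app w _ hw.ge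
  apply (ConcreteCategory.bijective_of_isIso (w.app (Z.basicOpen f))).1
  rw [map_zero]
  dsimp only [TopCat.Presheaf.restrictOpenCommRingCat_apply]
  refine (congr($(w.naturality (homOfLE (Z.basicOpen_le f)).op) δ)).trans ?_
  exact (congrArg _ h).trans (by simp)

/-- An element of the sections over a qcqs preimage can be lifted up to a power. -/
theorem exists_appTop_eq_pow_mul {X : Scheme.{u}} [IsAffine X] (U : X.Opens)
    (hU : IsCompact (U : Set X)) {b : Γ(X, ⊤)} (hb : X.basicOpen b ≤ U) (t : Γ(U.toScheme, ⊤)) :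
    ∃ (n : ℕ) (β : Γ(X, ⊤)), U.ι.appTop β = U.ι.appTop b ^ n * t := by
  haveI : CompactSpace U := isCompact_iff_compactSpace.mp hU
  haveI : QuasiSeparatedSpace U.toScheme := .of_isOpenEmbedding U.ι.isOpenEmbedding
  let w := X.homOfLE hb
  obtain ⟨n, β, hβ⟩ := exists_ι_appTop_eq (D := X.basicOpen b) rfl (w.appTop t)
  have key : ∀ z, w.appTop (U.ι.appTop z) = (X.basicOpen b).ι.appTop z := fun z => by
    rw [← Scheme.homOfLE_ι X hb]
    exact (Limit.appTop_apply _ _ z).symm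
  obtain ⟨N, hN⟩ := exists_pow_mul_eq_zero w (f := U.ι.appTop b)
    (δ := U.ι.appTop β - U.ι.appTop b ^ n * t)
    (by rw [Scheme.opensRange_homOfLE, Scheme.preimage_basicOpen_top])
    (by rw [map_sub, map_mul, map_pow, key, key, hβ, sub_self])
  rw [mul_sub, sub_eq_zero] at hN
  exact ⟨N + n, b ^ N * β, by rw [map_mul, map_pow, hN, pow_add, mul_assoc]⟩

/-- A morphism to the affine space over an affine scheme, from its coordinates. -/
noncomputable def toMvSpec {T Y : Scheme.{u}} {σ : Type u} (f : T ⟶ Y) (c : σ → Γ(T, ⊤)) :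
    T ⟶ Spec (CommRingCat.of (MvPolynomial σ Γ(Y, ⊤))) :=
  T.toSpecΓ ≫ Spec.map (CommRingCat.ofHom (MvPolynomial.eval₂Hom f.appTop.hom c))

/-- The structure map of the affine space over an affine scheme. -/
noncomputable def mvSpecHom (Y : Scheme.{u}) [IsAffine Y] (σ : Type u) :
    Spec (CommRingCat.of (MvPolynomial σ Γ(Y, ⊤))) ⟶ Y :=
  Spec.map (CommRingCat.ofHom (MvPolynomial.C : Γ(Y, ⊤) →+* MvPolynomial σ Γ(Y, ⊤))) ≫ Y.isoSpec.inv

instance lfp_mvSpecHom (Y : Scheme.{u}) [IsAffine Y] (σ : Type u) [Finite σ] :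
    LocallyOfFinitePresentation (mvSpecHom Y σ) := by
  haveI : LocallyOfFinitePresentation (Spec.map (CommRingCat.ofHom
      (MvPolynomial.C : Γ(Y, ⊤) →+* MvPolynomial σ Γ(Y, ⊤)))) :=
    (HasRingHomProperty.Spec_iff (P := @LocallyOfFinitePresentation)).mpr (by
      rw [CommRingCat.hom_ofHom,
        show (MvPolynomial.C : Γ(Y, ⊤) →+* MvPolynomial σ Γ(Y, ⊤)) = algebraMap _ _ from rfl,
        RingHom.finitePresentation_algebraMap]
      infer_instance)
  delta mvSpecHom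
  infer_instance

theorem toMvSpec_comp {T Y : Scheme.{u}} [IsAffine Y] {σ : Type u} (f : T ⟶ Y) (c : σ → Γ(T, ⊤)) :
    toMvSpec f c ≫ mvSpecHom Y σ = f := by
  have e : CommRingCat.ofHom (MvPolynomial.C : Γ(Y, ⊤) →+* MvPolynomial σ Γ(Y, ⊤)) ≫
      CommRingCat.ofHom (MvPolynomial.eval₂Hom f.appTop.hom c) = f.appTop :=
    CommRingCat.hom_ext (RingHom.ext fun x => MvPolynomial.eval₂Hom_C f.appTop.hom c x)
  rw [toMvSpec, mvSpecHom, Category.assoc, ← Spec.map_comp_assoc, e,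
    ← Scheme.toSpecΓ_naturality_assoc, ← Scheme.isoSpec_hom, Iso.hom_inv_id, Category.comp_id]

theorem comp_toMvSpec {T' T Y : Scheme.{u}} {σ : Type u} (w : T' ⟶ T) (f : T ⟶ Y)
    (c : σ → Γ(T, ⊤)) : w ≫ toMvSpec f c = toMvSpec (w ≫ f) (fun p => w.appTop (c p)) := by
  rw [toMvSpec, toMvSpec, Scheme.toSpecΓ_naturality_assoc, ← Spec.map_comp]
  congr 2
  refine CommRingCat.hom_ext (MvPolynomial.ringHom_ext (fun x => ?_) fun p => ?_)
  · simp
  · simp

theorem toMvSpec_appTop {T Y : Scheme.{u}} {σ : Type u} (f : T ⟶ Y) (c : σ → Γ(T, ⊤))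
    (z : MvPolynomial σ Γ(Y, ⊤)) :
    (toMvSpec f c).appTop ((Scheme.ΓSpecIso (CommRingCat.of (MvPolynomial σ Γ(Y, ⊤)))).inv z) =
      MvPolynomial.eval₂Hom f.appTop.hom c z := by
  have h : (Scheme.ΓSpecIso (CommRingCat.of (MvPolynomial σ Γ(Y, ⊤)))).inv ≫
      (toMvSpec f c).appTop = CommRingCat.ofHom (MvPolynomial.eval₂Hom f.appTop.hom c) := by
    rw [toMvSpec, Scheme.Hom.comp_appTop, Scheme.toSpecΓ_appTop, Scheme.ΓSpecIso_naturality,
      Iso.inv_hom_id_assoc]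
  exact congr($h z)

set_option maxHeartbeats 1600000 in
/-- Extension of affine morphisms of finite presentation. -/
theorem exists_affine_extension {X Y M : Scheme.{u}} [IsAffine X] [IsAffine Y] (G : Y.Opens)
    (hG : IsCompact (G : Set Y)) (h : X ⟶ Y) (g : M ⟶ G.toScheme) [IsAffineHom g]
    [LocallyOfFinitePresentation g] (u : (h ⁻¹ᵁ G).toScheme ⟶ M)
    (hu : u ≫ g ≫ G.ι = (h ⁻¹ᵁ G).ι ≫ h) :
    ∃ (N : Scheme.{u}) (gN : N ⟶ Y) (v : X ⟶ N) (a : M ⟶ N),
      IsAffine N ∧ LocallyOfFinitePresentation gN ∧ IsOpenImmersion a ∧ v ≫ gN = h ∧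
      a ≫ gN = g ≫ G.ι ∧ (↑(gN ⁻¹ᵁ G) : Set N) = Set.range a ∧
      (h ⁻¹ᵁ G).ι ≫ v = u ≫ a := by
  classical
  haveI : CompactSpace G := isCompact_iff_compactSpace.mp hG
  haveI : QuasiSeparatedSpace G.toScheme := .of_isOpenEmbedding G.ι.isOpenEmbedding
  haveI : CompactSpace M := QuasiCompact.compactSpace_of_compactSpace g
  haveI : QuasiSeparatedSpace M := quasiSeparatedSpace_of_quasiSeparated g
  have hXG : IsCompact ((h ⁻¹ᵁ G : X.Opens) : Set X) := QuasiCompact.isCompact_preimage _ G.2 hG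
  let q₀ : M ⟶ Y := g ≫ G.ι
  -- finitely many basic opens covering `G`
  obtain ⟨Bs, hBs⟩ := hG.elim_finite_subcover
    (fun b : {b : Γ(Y, ⊤) // Y.basicOpen b ≤ G} => (Y.basicOpen b.1 : Set Y))
    (fun b => (Y.basicOpen b.1).2) (fun y hy => by
      obtain ⟨b, hb, hyb⟩ := (isAffineOpen_top Y).exists_basicOpen_le ⟨y, hy⟩ trivial
      exact Set.mem_iUnion.mpr ⟨⟨b, hb⟩, hyb⟩)
  let D : Bs → Y.Opens := fun k => Y.basicOpen k.1.1
  let Mb : Bs → M.Opens := fun k => q₀ ⁻¹ᵁ D k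
  have hMb : ∀ k, IsAffineOpen (Mb k) := fun k =>
    (((isAffineOpen_top Y).basicOpen k.1.1).preimage_of_isOpenImmersion G.ι
      (by rw [Scheme.Opens.opensRange_ι]; exact k.1.2)).preimage g
  let ρ : ∀ k, (Mb k).toScheme ⟶ (D k).toScheme := fun k => q₀.resLE (D k) (Mb k) le_rfl
  haveI : ∀ k, IsAffine (Mb k).toScheme := hMb
  haveI : ∀ k, IsAffine (D k).toScheme := fun k => (isAffineOpen_top Y).basicOpen k.1.1
  haveI : ∀ k, LocallyOfFiniteType (ρ k) := fun k => by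
    haveI : LocallyOfFiniteType (ρ k ≫ (D k).ι) := by
      simp only [ρ, Scheme.Hom.resLE_comp_ι, q₀]; infer_instance
    exact locallyOfFiniteType_of_comp _ (D k).ι
  choose s hs using fun k => Limit.exists_gens (ρ k)
  -- lift the generators to compatible pairs
  have key : ∀ (p : (k : Bs) × (s k)), ∃ (n : ℕ) (β : Γ(X, ⊤)) (y : Γ(M, ⊤)),
      (h ⁻¹ᵁ G).ι.appTop β = u.appTop y ∧
      (Mb p.1).ι.appTop y = (Mb p.1).ι.appTop (q₀.appTop p.1.1.1) ^ n * p.2.1 := by
    intro p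
    obtain ⟨n, y, hy⟩ := exists_ι_appTop_eq (Z := M) (D := Mb p.1)
      (Scheme.preimage_basicOpen_top q₀ p.1.1.1) p.2.1
    obtain ⟨N, β, hβ⟩ := exists_appTop_eq_pow_mul (h ⁻¹ᵁ G) hXG (b := h.appTop p.1.1.1)
      (by rw [← Scheme.preimage_basicOpen_top]; exact Scheme.Hom.preimage_mono h p.1.1.2) (u.appTop y)
    refine ⟨N + n, β, q₀.appTop p.1.1.1 ^ N * y, ?_, ?_⟩
    · rw [hβ, map_mul, map_pow]
      congr 2
      exact (Limit.appTop_apply _ _ _).symm.trans
        ((congrArg (fun f : _ ⟶ Y => f.appTop p.1.1.1) hu.symm).trans (Limit.appTop_apply _ _ _))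
    · rw [map_mul, map_pow, hy, pow_add, mul_assoc]
  choose n β y hβ hy using key
  let σ : Type u := (k : Bs) × (s k)
  haveI : Finite σ := inferInstance
  let N₀ : Scheme.{u} := Spec (CommRingCat.of (MvPolynomial σ Γ(Y, ⊤)))
  let gN₀ : N₀ ⟶ Y := mvSpecHom Y σ
  let q : M ⟶ N₀ := toMvSpec q₀ y
  let v₀ : X ⟶ N₀ := toMvSpec h β
  have hq : q ≫ gN₀ = q₀ := toMvSpec_comp _ _
  have hv₀ : v₀ ≫ gN₀ = h := toMvSpec_comp _ _
  have hcompat : (h ⁻¹ᵁ G).ι ≫ v₀ = u ≫ q := by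
    rw [comp_toMvSpec, comp_toMvSpec, hu]
    congr 1
    funext p
    exact hβ p
  let G' : N₀.Opens := gN₀ ⁻¹ᵁ G
  haveI : IsAffineHom gN₀ := inferInstance
  have hG'c : IsCompact (G' : Set N₀) := QuasiCompact.isCompact_preimage _ G.2 hG
  let m : M ⟶ G'.toScheme := IsOpenImmersion.lift G'.ι q (by
    rw [Scheme.Opens.range_ι]
    rintro _ ⟨z, rfl⟩
    show gN₀ (q z) ∈ G
    rw [← Scheme.Hom.comp_apply, hq]
    exact (g z).2)
  have hm : m ≫ G'.ι = q := IsOpenImmersion.lift_fac _ _ _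
  haveI : IsClosedImmersion m := by
    refine IsZariskiLocalAtTarget.of_iSup_eq_top (fun k : Bs => G'.ι ⁻¹ᵁ (gN₀ ⁻¹ᵁ D k)) ?_
      fun k => ?_
    · refine top_le_iff.mp fun z _ => ?_
      obtain ⟨b, hb, hzb⟩ := Set.mem_iUnion₂.mp (hBs (z.2 : gN₀ z.1 ∈ G))
      exact Opens.mem_iSup.mpr ⟨⟨b, hb⟩, hzb⟩
    let O : N₀.Opens := gN₀ ⁻¹ᵁ D k
    have hO : O ≤ G' := Scheme.Hom.preimage_mono gN₀ k.1.2
    have hpre : m ⁻¹ᵁ (G'.ι ⁻¹ᵁ O) = Mb k := by
      rw [← Scheme.Hom.comp_preimage, hm, ← Scheme.Hom.comp_preimage, hq]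
    let ρq : (Mb k).toScheme ⟶ O.toScheme := q.resLE O (Mb k)
      (by rw [← Scheme.Hom.comp_preimage, hq])
    haveI : IsAffine O.toScheme := ((isAffineOpen_top Y).basicOpen k.1.1).preimage gN₀
    haveI : IsClosedImmersion ρq := by
      refine IsClosedImmersion.of_surjective_of_isAffine _ fun z =>
        (hs k ρq.appTop.hom.range (fun w => ?_) (fun x hx => ?_)).ge (Subring.mem_top z)
      · refine ⟨(gN₀.resLE (D k) O le_rfl).appTop w, (Limit.appTop_apply _ _ w).symm.trans ?_⟩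
        refine congrArg (fun f : _ ⟶ (D k).toScheme => f.appTop w) ?_
        rw [← cancel_mono (D k).ι]
        simp [ρq, ρ, hq]
      · let p : σ := ⟨k, x, hx⟩
        have hunit : IsUnit ((D k).ι.appTop k.1.1) := isUnit_ι_appTop rfl
        have hρ : ∀ w, (Mb k).ι.appTop (q₀.appTop w) = (ρ k).appTop ((D k).ι.appTop w) :=
          fun w => (Limit.appTop_apply _ _ w).symm.trans
            ((congrArg (fun f : _ ⟶ Y => f.appTop w) (Scheme.Hom.resLE_comp_ι q₀ _).symm).trans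
              (Limit.appTop_apply _ _ w))
        have hmem : (Mb k).ι.appTop (y p) ∈ ρq.appTop.hom.range := by
          refine ⟨O.ι.appTop ((Scheme.ΓSpecIso (CommRingCat.of (MvPolynomial σ Γ(Y, ⊤)))).inv
            (MvPolynomial.X p)), (Limit.appTop_apply _ _ _).symm.trans ?_⟩
          rw [Scheme.Hom.resLE_comp_ι, Limit.appTop_apply, toMvSpec_appTop, MvPolynomial.eval₂Hom_X']
        obtain ⟨u', hu'⟩ := hunit.pow (n p)
        have hinv : (ρ k).appTop (u'⁻¹ : Γ((D k).toScheme, ⊤)ˣ).1 ∈ ρq.appTop.hom.range := by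
          refine ⟨(gN₀.resLE (D k) O le_rfl).appTop (u'⁻¹ : Γ((D k).toScheme, ⊤)ˣ).1, ?_⟩
          have e : ρq ≫ gN₀.resLE (D k) O le_rfl = ρ k := by
            rw [← cancel_mono (D k).ι]
            simp [ρq, ρ, hq]
          refine (Limit.appTop_apply _ _ _).symm.trans ?_
          rw [e]
        have := Subring.mul_mem _ hinv hmem
        rw [hy p, hρ] at this
        rw [← mul_assoc] at this
        have e1 : (ρ k).appTop (u'⁻¹ : Γ((D k).toScheme, ⊤)ˣ).1 *
            (ρ k).appTop ((D k).ι.appTop k.1.1) ^ n p = 1 := by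
          rw [← map_pow, ← hu', ← map_mul, Units.inv_mul, map_one]
        rwa [e1, one_mul] at this
    let eV : (G'.ι ⁻¹ᵁ O).toScheme ≅ O.toScheme := Scheme.Opens.isoOfLE hO
    have e : m ∣_ (G'.ι ⁻¹ᵁ O) ≫ eV.hom = (M.isoOfEq hpre).hom ≫ ρq := by
      rw [← cancel_mono O.ι]
      simp [eV, ρq, hm]
    haveI : IsClosedImmersion (m ∣_ (G'.ι ⁻¹ᵁ O) ≫ eV.hom) := by
      rw [e]; infer_instance
    exact (MorphismProperty.cancel_right_of_respectsIso (P := @IsClosedImmersion) _ eV.hom).mp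
      inferInstance
  haveI : LocallyOfFinitePresentation m := by
    haveI : LocallyOfFinitePresentation (m ≫ G'.ι ≫ gN₀) := by
      rw [reassoc_of% hm, hq]; infer_instance
    exact Groth.Agent.S12442.result m (G'.ι ≫ gN₀)
  have hle : m.ker ≤ v₀.ker.comap G'.ι := by
    intro V x hx
    rw [Scheme.IdealSheafData.ideal_comap_of_isOpenImmersion, Ideal.mem_comap]
    have hfac : v₀ ∣_ G' = (X.isoOfEq (show v₀ ⁻¹ᵁ G' = h ⁻¹ᵁ G by
        rw [← Scheme.Hom.comp_preimage, hv₀])).hom ≫ u ≫ m := by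
      rw [← cancel_mono G'.ι]
      simp [hm, ← hcompat]
    have h1 : x ∈ (v₀ ∣_ G').ker.ideal V := by
      rw [hfac, ← Category.assoc]
      exact Scheme.Hom.le_ker_comp _ m V hx
    rw [Scheme.ker_morphismRestrict_ideal] at h1
    rw [Scheme.Opens.ι_appIso]
    exact h1
  obtain ⟨K, a, hK, hKle, _, ha, hrg⟩ := exists_extend_le G' hG'c v₀.ker m hle
  let v := IsClosedImmersion.lift K.subschemeι v₀ (K.ker_subschemeι.le.trans hKle)
  have hv : v ≫ K.subschemeι = v₀ := IsClosedImmersion.lift_fac _ _ _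
  haveI := lfp_subschemeι hK
  refine ⟨K.subscheme, K.subschemeι ≫ gN₀, v, a, isAffine_of_isAffineHom K.subschemeι,
    inferInstance, inferInstance, ?_, ?_, hrg, ?_⟩
  · rw [reassoc_of% hv, hv₀]
  · rw [reassoc_of% ha, reassoc_of% hm, hq]
  · rw [← cancel_mono K.subschemeι, Category.assoc, Category.assoc, hv, ha, hm, hcompat]

end Groth.L19.Approx
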