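import Groth.Agent.L19.Approx.Zmt
import Mathlib.AlgebraicGeometry.Morphisms.Immersion
import Mathlib.AlgebraicGeometry.Morphisms.Finite
import Mathlib.AlgebraicGeometry.Morphisms.Proper
import Mathlib.AlgebraicGeometry.Morphisms.QuasiFinite

/-!
# Finite schemes over a quasi-compact open extend to finite schemes; compactifications over a separated base
-/

set_option autoImplicit false
set_option linter.style.haveILetI false
set_option backward.isDefEq.respectTransparency false
set_option backward.isDefEq.respectTransparency.types false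

universe u

open CategoryTheory CategoryTheory.Limits AlgebraicGeometry

noncomputable section

namespace Groth.L19.Approx

/-- An immersion with dense image which is proper over an open is the preimage of that open. -/
theorem isPullback_of_isOpenImmersion_dominant {X T S U : Scheme.{u}} (j : X ⟶ T) [IsOpenImmersion j] [IsDominant j]
    (π : T ⟶ S) [IsSeparated π] (ι : U ⟶ S) [IsOpenImmersion ι] (g : X ⟶ U) [IsProper g] (h : j ≫ π = g ≫ ι) :
    IsPullback j g π ι := by
  let m : X ⟶ pullback π ι := pullback.lift j g h
  haveI : IsOpenImmersion (pullback.fst π ι) := MorphismProperty.pullback_fst _ _ inferInstance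
  haveI : IsOpenImmersion (m ≫ pullback.fst π ι) := by rw [pullback.lift_fst]; infer_instance
  haveI : IsOpenImmersion m := IsOpenImmersion.of_comp m (pullback.fst π ι)
  haveI : IsSeparated (pullback.snd π ι) := MorphismProperty.pullback_snd _ _ inferInstance
  haveI : IsProper (m ≫ pullback.snd π ι) := by rw [pullback.lift_snd]; infer_instance
  haveI : IsProper m := IsProper.of_comp m (pullback.snd π ι)
  haveI : Surjective m := ⟨fun z => by
    have hcl : IsClosed (Set.range m) := m.isClosedMap.isClosed_range
    by_contra hz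
    have ho : IsOpen (pullback.fst π ι '' (Set.range m)ᶜ) :=
      (pullback.fst π ι).isOpenEmbedding.isOpenMap _ hcl.isOpen_compl
    obtain ⟨_, ⟨w, hw, hwe⟩, x, rfl⟩ := j.denseRange.inter_open_nonempty _ ho ⟨_, z, hz, rfl⟩
    refine hw ⟨x, (pullback.fst π ι).isOpenEmbedding.injective ?_⟩
    rw [hwe, ← Scheme.Hom.comp_apply, pullback.lift_fst]⟩
  haveI : IsIso m := (isIso_iff_isOpenImmersion_and_surjective m).mpr ⟨inferInstance, inferInstance⟩
  exact (IsPullback.of_hasPullback π ι).of_iso (asIso m).symm (Iso.refl _) (Iso.refl _) (Iso.refl _)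
    (by simp [m]) (by simp [m]) (by simp) (by simp)

/-- A finite scheme over a quasi-compact open of an affine scheme extends to a finite one. -/
theorem exists_finite_extend {A : Type u} [CommRing A] (U : (Spec (CommRingCat.of A)).Opens)
    (hU : IsCompact (U : Set (Spec (CommRingCat.of A)))) {U' : Scheme.{u}} (g : U' ⟶ (U : Scheme.{u})) [IsFinite g] :
    ∃ (B : Type u) (_ : CommRing B) (_ : Algebra A B) (i : U' ⟶ Spec (CommRingCat.of B)),
      Module.Finite A B ∧ IsPullback i g (Spec.map (CommRingCat.ofHom (algebraMap A B))) U.ι := by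
  haveI : CompactSpace (U : Scheme.{u}) := isCompact_iff_compactSpace.mp hU
  haveI : QuasiCompact U.ι := quasiCompact_of_compactSpace U.ι
  obtain ⟨T, j, π, hj, hjq, hπ, hjπ⟩ := exists_openImmersion_finite (g ≫ U.ι)
  let T' := j.image
  let π' : T' ⟶ Spec (CommRingCat.of A) := j.imageι ≫ π
  haveI : IsFinite π' := inferInstance
  haveI : IsAffine T' := isAffine_of_isAffineHom π'
  let φ : CommRingCat.of A ⟶ Γ(T', ⊤) := Spec.preimage (T'.isoSpec.inv ≫ π')
  letI : Algebra A Γ(T', ⊤) := φ.hom.toAlgebra
  have hφ : Spec.map (CommRingCat.ofHom (algebraMap A Γ(T', ⊤))) = T'.isoSpec.inv ≫ π' := Spec.map_preimage _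
  have hfin : Module.Finite A Γ(T', ⊤) := by
    have : IsFinite (Spec.map (CommRingCat.ofHom (algebraMap A Γ(T', ⊤)))) := by rw [hφ]; infer_instance
    exact RingHom.finite_algebraMap.mp ((IsFinite.SpecMap_iff _).mp this)
  have sq : IsPullback j.toImage g π' U.ι :=
    isPullback_of_isOpenImmersion_dominant j.toImage π' U.ι g (by rw [j.toImage_imageι_assoc, hjπ])
  exact ⟨Γ(T', ⊤), inferInstance, _, j.toImage ≫ T'.isoSpec.hom, hfin,
    sq.of_iso (Iso.refl _) T'.isoSpec (Iso.refl _) (Iso.refl _) (by simp) (by simp) (by rw [hφ]; simp) (by simp)⟩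

/-- A compactification over `S` gives one over any separated finite type `S`-scheme. -/
theorem exists_compactification_over {S X Y Xb : Scheme.{u}} (g : Y ⟶ S) [IsSeparated g]
    (f : X ⟶ Y) (j : X ⟶ Xb) [IsOpenImmersion j] [QuasiCompact j] (b : Xb ⟶ S) [IsProper b] (hj : j ≫ b = f ≫ g) :
    ∃ (Xb' : Scheme.{u}) (j' : X ⟶ Xb') (b' : Xb' ⟶ Y),
      IsOpenImmersion j' ∧ QuasiCompact j' ∧ IsProper b' ∧ j' ≫ b' = f := by
  let m : X ⟶ pullback b g := pullback.lift j f hj
  haveI : IsSeparated (pullback.fst b g) := MorphismProperty.pullback_fst _ _ inferInstance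
  haveI : IsImmersion (m ≫ pullback.fst b g) := by rw [pullback.lift_fst]; infer_instance
  haveI : IsImmersion m := IsImmersion.of_comp m (pullback.fst b g)
  haveI : QuasiCompact (m ≫ pullback.fst b g) := by rw [pullback.lift_fst]; infer_instance
  haveI : QuasiCompact m := QuasiCompact.of_comp m (pullback.fst b g)
  haveI : QuasiCompact (m.toImage ≫ m.imageι) := by rw [m.toImage_imageι]; infer_instance
  haveI : QuasiCompact m.toImage := QuasiCompact.of_comp m.toImage m.imageι
  haveI : IsProper (pullback.snd b g) := MorphismProperty.pullback_snd _ _ inferInstance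
  exact ⟨m.image, m.toImage, m.imageι ≫ pullback.snd b g, inferInstance, inferInstance, inferInstance,
    by rw [m.toImage_imageι_assoc, pullback.lift_snd]⟩

end Groth.L19.Approx
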