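import Groth.Agent.L19.Approx.IdealStage
import Groth.Agent.L19.Limit.Pullback

/-!
# A closed subscheme of a limit is the limit of its scheme-theoretic images in the stages
-/

universe u

open CategoryTheory CategoryTheory.Limits AlgebraicGeometry TopologicalSpace

namespace Groth.L19.Approx

set_option backward.isDefEq.respectTransparency.types false
set_option backward.isDefEq.respectTransparency false
set_option backward.defeqAttrib.useBackward true
set_option linter.style.haveILetI false

variable {I : Type u} [Category.{u} I] {D : I ⥤ Scheme.{u}} {c : Cone D} {X : Scheme.{u}}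
  (z : X ⟶ c.pt)

section

variable [IsCofiltered I] [∀ {i j} (f : i ⟶ j), IsAffineHom (D.map f)]

/-- An ideal on a limit is contained in the one generated by its direct images on the stages. -/
theorem le_iSup_comap_map (hc : IsLimit c) (K : c.pt.IdealSheafData) :
    K ≤ ⨆ j, (K.map (c.π.app j)).comap (c.π.app j) := by
  obtain ⟨i⟩ := IsCofiltered.nonempty (C := I)
  haveI := fun i => isAffineHom_π_app D c hc i
  let W : (D.obj i).affineOpens → c.pt.affineOpens := fun V => ⟨_, V.2.preimage (c.π.app i)⟩
  refine Scheme.IdealSheafData.le_of_iSup_eq_top W ?_ fun V a ha => ?_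
  · rw [← Scheme.Hom.preimage_iSup, AlgebraicGeometry.iSup_affineOpens_eq_top (D.obj i), Scheme.Hom.preimage_top]
  obtain ⟨j, h, s, hs⟩ := exists_appLE_eq hc i V.2 a
  let Vj : (D.obj j.left).affineOpens := ⟨_, V.2.preimage (D.map j.hom)⟩
  have e : (W V).1 = c.π.app j.left ⁻¹ᵁ Vj.1 := by
    change c.π.app i ⁻¹ᵁ _ = _
    rw [← Scheme.Hom.comp_preimage, c.w]
  have hsa : (c.π.app j.left).appLE Vj.1 (W V).1 h s = a := hs
  have hmem : s ∈ (K.map (c.π.app j.left)).ideal Vj := by
    rw [Scheme.IdealSheafData.ideal_map_of_isAffineHom, Ideal.mem_comap]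
    have := Ideal.mem_map_of_mem (res (X := c.pt) e.ge) ha
    rw [map_res K (U := ⟨_, Vj.2.preimage (c.π.app j.left)⟩) (V := W V) e.ge, ← hsa] at this
    convert this using 1
    rw [Scheme.Hom.app_eq_appLE]
    exact congr($((c.π.app j.left).appLE_map h (homOfLE e.ge).op) s).symm
  refine le_iSup (fun j => (K.map (c.π.app j)).comap (c.π.app j)) j.left (W V) ?_
  rw [L22.Ideals.comap_ideal _ _ Vj _ h, ← hsa]
  exact Ideal.mem_map_of_mem _ hmem

end

theorem ker_imageι_le {j k : I} (φ : j ⟶ k) :
    ((z ≫ c.π.app k).imageι).ker ≤ ((z ≫ c.π.app j).imageι ≫ D.map φ).ker := by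
  rw [← Scheme.IdealSheafData.map_ker, Scheme.IdealSheafData.ker_subschemeι,
    Scheme.IdealSheafData.ker_subschemeι, Scheme.IdealSheafData.map_ker, Category.assoc, c.w]

/-- The scheme-theoretic images in the stages. -/
noncomputable def imageSystem : I ⥤ Scheme.{u} where
  obj j := (z ≫ c.π.app j).image
  map {j k} φ := IsClosedImmersion.lift (z ≫ c.π.app k).imageι
    ((z ≫ c.π.app j).imageι ≫ D.map φ) (ker_imageι_le z φ)
  map_id j := by
    apply (cancel_mono (z ≫ c.π.app j).imageι).mp
    simp [IsClosedImmersion.lift_fac]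
  map_comp {j k l} φ ψ := by
    apply (cancel_mono (z ≫ c.π.app l).imageι).mp
    rw [IsClosedImmersion.lift_fac, Category.assoc, IsClosedImmersion.lift_fac, ← Category.assoc,
      IsClosedImmersion.lift_fac, Category.assoc, D.map_comp]

/-- The inclusion in the stages. -/
noncomputable def imageSystemι : imageSystem z ⟶ D where
  app j := (z ≫ c.π.app j).imageι
  naturality _ _ φ := IsClosedImmersion.lift_fac _ _ (ker_imageι_le z φ)

instance (j : I) : IsClosedImmersion ((imageSystemι z).app j) :=
  inferInstanceAs (IsClosedImmersion (z ≫ c.π.app j).imageι)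

/-- The cone with vertex `X`. -/
noncomputable def imageCone : Cone (imageSystem z) where
  pt := X
  π :=
    { app := fun j => (z ≫ c.π.app j).toImage
      naturality := fun j k φ => by
        apply (cancel_mono (z ≫ c.π.app k).imageι).mp
        simp [imageSystem, IsClosedImmersion.lift_fac] }

theorem isAffineHom_imageSystem_map {j k : I} (φ : j ⟶ k) [IsAffineHom (D.map φ)] :
    IsAffineHom ((imageSystem z).map φ) := by
  have h := (imageSystemι z).naturality φ
  haveI : IsAffineHom ((imageSystem z).map φ ≫ (imageSystemι z).app k) := by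
    rw [h]
    infer_instance
  exact IsAffineHom.of_comp _ ((imageSystemι z).app k)

variable [IsCofiltered I] [∀ {i j} (f : i ⟶ j), IsAffineHom (D.map f)] [IsClosedImmersion z]

/-- A closed subscheme of a limit is the limit of its images. -/
theorem nonempty_isLimit_imageCone (hc : IsLimit c) : Nonempty (IsLimit (imageCone z)) := by
  let m : ∀ s : Cone (imageSystem z), s.pt ⟶ c.pt := fun s =>
    hc.lift ((Cone.postcompose (imageSystemι z)).obj s)
  have hm : ∀ (s : Cone (imageSystem z)) j, m s ≫ c.π.app j = s.π.app j ≫ (z ≫ c.π.app j).imageι :=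
    fun s j => hc.fac _ j
  have hle : ∀ s : Cone (imageSystem z), z.ker ≤ (m s).ker := fun s => by
    refine (le_iSup_comap_map hc z.ker).trans (iSup_le fun j => ?_)
    rw [← Scheme.IdealSheafData.le_map_iff_comap_le, Scheme.IdealSheafData.map_ker,
      Scheme.IdealSheafData.map_ker, hm, ← Scheme.IdealSheafData.ker_subschemeι (z ≫ c.π.app j).ker]
    exact Scheme.Hom.le_ker_comp _ _
  have hfac : ∀ (s : Cone (imageSystem z)) j,
      IsClosedImmersion.lift z (m s) (hle s) ≫ (z ≫ c.π.app j).toImage = s.π.app j := fun s j => by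
    apply (cancel_mono (z ≫ c.π.app j).imageι).mp
    rw [Category.assoc, Scheme.Hom.toImage_imageι, IsClosedImmersion.lift_fac_assoc, hm]
  exact ⟨{ lift := fun s => IsClosedImmersion.lift z (m s) (hle s)
           fac := hfac
           uniq := fun s l hl => by
             rw [← cancel_mono z, IsClosedImmersion.lift_fac]
             refine hc.hom_ext fun j => ?_
             rw [Category.assoc, hm, ← hl j]
             simp [imageCone] }⟩

/-- The points of a limit lying in all images lie in the closed subscheme. -/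
theorem mem_range_of_forall_mem (hc : IsLimit c) (x : c.pt)
    (hx : ∀ j, c.π.app j x ∈ Set.range (z ≫ c.π.app j).imageι) : x ∈ Set.range z := by
  by_contra hn
  haveI : ∀ i, IsAffineHom (c.π.app i) := fun i => isAffineHom_π_app D c hc i
  obtain ⟨_, ⟨V', ⟨j, V, -, rfl⟩, rfl⟩, hxV, hdisj⟩ :=
    (isBasis_preimage_isAffineOpen D c hc).exists_subset_of_mem_open
      (show x ∈ (Set.range z)ᶜ from hn) z.isClosedEmbedding.isClosed_range.isOpen_compl
  have h1 := hx j
  rw [Scheme.IdealSheafData.range_subschemeι, Scheme.Hom.support_ker] at h1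
  obtain ⟨_, hV, y, rfl⟩ := mem_closure_iff.mp h1 V V.2 hxV
  exact hdisj (show z y ∈ c.π.app j ⁻¹ᵁ V from hV) ⟨y, rfl⟩

end Groth.L19.Approx
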