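import Groth.Agent.L19.Approx.Extend

/-!
# Models of finite presentation for affine morphisms
-/

universe u

open CategoryTheory CategoryTheory.Limits AlgebraicGeometry TopologicalSpace Opposite

namespace Groth.L19.Approx

set_option backward.isDefEq.respectTransparency.types false
set_option backward.isDefEq.respectTransparency false
set_option backward.defeqAttrib.useBackward true
set_option linter.style.haveILetI false

variable {X P : Scheme.{u}}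

theorem exists_glue_sup {Q : Scheme.{u}} (U V : X.Opens) (f : U.toScheme ⟶ Q) (g : V.toScheme ⟶ Q)
    (hfg : X.homOfLE (inf_le_left : U ⊓ V ≤ U) ≫ f = X.homOfLE (inf_le_right : U ⊓ V ≤ V) ≫ g)
    (T : X.Opens) (hT : U ⊔ V = T) (hU : U ≤ T) (hV : V ≤ T) :
    ∃ φ : T.toScheme ⟶ Q, X.homOfLE hU ≫ φ = f ∧ X.homOfLE hV ≫ φ = g := by
  let eU := Scheme.Opens.isoOfLE hU
  let eV := Scheme.Opens.isoOfLE hV
  have hle : (T.ι ⁻¹ᵁ U ⊓ T.ι ⁻¹ᵁ V) = T.ι ⁻¹ᵁ (U ⊓ V) := rfl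
  obtain ⟨φ, h1, h2⟩ := exists_glue (T.ι ⁻¹ᵁ U) (T.ι ⁻¹ᵁ V)
    (by rw [← Scheme.Hom.preimage_sup, hT, Scheme.Opens.ι_preimage_self]) (eU.hom ≫ f) (eV.hom ≫ g)
    (by
      let l : (T.ι ⁻¹ᵁ U ⊓ T.ι ⁻¹ᵁ V).toScheme ⟶ (U ⊓ V).toScheme :=
        (Scheme.Opens.isoOfLE (inf_le_left.trans hU : U ⊓ V ≤ T)).hom
      have e1 : T.toScheme.homOfLE (inf_le_left : T.ι ⁻¹ᵁ U ⊓ T.ι ⁻¹ᵁ V ≤ T.ι ⁻¹ᵁ U) ≫ eU.hom =
          l ≫ X.homOfLE (inf_le_left : U ⊓ V ≤ U) := by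
        rw [← cancel_mono U.ι]; simp [eU, l]; rfl
      have e2 : T.toScheme.homOfLE (inf_le_right : T.ι ⁻¹ᵁ U ⊓ T.ι ⁻¹ᵁ V ≤ T.ι ⁻¹ᵁ V) ≫ eV.hom =
          l ≫ X.homOfLE (inf_le_right : U ⊓ V ≤ V) := by
        rw [← cancel_mono V.ι]; simp [eV, l]; rfl
      rw [reassoc_of% e1, reassoc_of% e2, hfg])
  have e1 : X.homOfLE hU = eU.inv ≫ (T.ι ⁻¹ᵁ U).ι := by
    rw [← cancel_mono T.ι]; simp [eU]
  have e2 : X.homOfLE hV = eV.inv ≫ (T.ι ⁻¹ᵁ V).ι := by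
    rw [← cancel_mono T.ι]; simp [eV]
  exact ⟨φ, by rw [e1, Category.assoc, h1, Iso.inv_hom_id_assoc],
    by rw [e2, Category.assoc, h2, Iso.inv_hom_id_assoc]⟩

theorem hom_ext_sup {Q : Scheme.{u}} (U V : X.Opens) {T : X.Opens} (hT : U ⊔ V = T) (hU : U ≤ T)
    (hV : V ≤ T) (φ ψ : T.toScheme ⟶ Q) (h1 : X.homOfLE hU ≫ φ = X.homOfLE hU ≫ ψ)
    (h2 : X.homOfLE hV ≫ φ = X.homOfLE hV ≫ ψ) : φ = ψ := by
  refine (T.toScheme.openCoverOfIsOpenCover (fun i : Bool => cond i (T.ι ⁻¹ᵁ U) (T.ι ⁻¹ᵁ V))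
    ?_).hom_ext _ _ fun i => ?_
  · refine top_le_iff.mp fun z _ => ?_
    rcases (hT.ge z.2 : z.1 ∈ U ⊔ V) with hz | hz
    · exact Opens.mem_iSup.mpr ⟨true, hz⟩
    · exact Opens.mem_iSup.mpr ⟨false, hz⟩
  cases i with
  | true =>
    have e : (T.ι ⁻¹ᵁ U).ι = (Scheme.Opens.isoOfLE hU).hom ≫ X.homOfLE hU := by
      rw [← cancel_mono T.ι]; simp
    change (T.ι ⁻¹ᵁ U).ι ≫ φ = (T.ι ⁻¹ᵁ U).ι ≫ ψ
    rw [e, Category.assoc, Category.assoc, h1]
  | false =>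
    have e : (T.ι ⁻¹ᵁ V).ι = (Scheme.Opens.isoOfLE hV).hom ≫ X.homOfLE hV := by
      rw [← cancel_mono T.ι]; simp
    change (T.ι ⁻¹ᵁ V).ι ≫ φ = (T.ι ⁻¹ᵁ V).ι ≫ ψ
    rw [e, Category.assoc, Category.assoc, h2]

theorem morphismRestrict_of_isPullback (Q : MorphismProperty Scheme.{u}) [Q.RespectsIso]
    {T U A B : Scheme.{u}} {φ : T ⟶ B} {i : A ⟶ B} [IsOpenImmersion i] {j : U ⟶ A} {v : U ⟶ T}
    (h : IsPullback j v i φ) (hj : Q j) : Q (φ ∣_ i.opensRange) := by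
  rw [MorphismProperty.arrow_mk_iso_iff Q (morphismRestrictOpensRange φ i),
    ← h.flip.isoPullback_inv_snd, MorphismProperty.cancel_left_of_respectsIso (P := Q)]
  exact hj

/-- An affine scheme of finite presentation over an open of the target receiving `X`. -/
structure Mdl (f : X ⟶ P) (U : P.Opens) where
  /-- the scheme -/
  obj : Scheme.{u}
  /-- its structure map -/
  g : obj ⟶ U.toScheme
  /-- the map from `X` -/
  u : (f ⁻¹ᵁ U).toScheme ⟶ obj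
  aff : IsAffineHom g
  lfp : LocallyOfFinitePresentation g
  w : u ≫ g ≫ U.ι = (f ⁻¹ᵁ U).ι ≫ f

/-- `M'` restricts to `M` over `U`. -/
def Mdl.Extends {f : X ⟶ P} {U U' : P.Opens} (hUU' : U ≤ U') (M : Mdl f U) (M' : Mdl f U') : Prop :=
  ∃ a : M.obj ⟶ M'.obj, IsOpenImmersion a ∧ a ≫ M'.g ≫ U'.ι = M.g ≫ U.ι ∧
    (↑((M'.g ≫ U'.ι) ⁻¹ᵁ U) : Set M'.obj) = Set.range a ∧
    X.homOfLE (Scheme.Hom.preimage_mono f hUU') ≫ M'.u = M.u ≫ a

theorem Mdl.Extends.trans {f : X ⟶ P} {U U' U'' : P.Opens} {h : U ≤ U'} {h' : U' ≤ U''}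
    {M : Mdl f U} {M' : Mdl f U'} {M'' : Mdl f U''} (H : Mdl.Extends h M M')
    (H' : Mdl.Extends h' M' M'') : Mdl.Extends (h.trans h') M M'' := by
  obtain ⟨a, ha, e1, e2, e3⟩ := H
  obtain ⟨b, hb, f1, f2, f3⟩ := H'
  refine ⟨a ≫ b, inferInstance, by rw [Category.assoc, f1, e1], ?_, ?_⟩
  · rw [show Set.range (a ≫ b) = b '' Set.range a from by
      rw [Scheme.Hom.comp_base, TopCat.coe_comp, Set.range_comp], ← e2]
    ext z
    constructor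
    · intro hz
      obtain ⟨y, rfl⟩ : z ∈ Set.range b := f2.le (h hz)
      refine ⟨y, ?_, rfl⟩
      show (M'.g ≫ U'.ι) y ∈ U
      rw [show (M'.g ≫ U'.ι) y = (M''.g ≫ U''.ι) (b y) from congr($f1 y).symm]
      exact hz
    · rintro ⟨y, hy, rfl⟩
      show (M''.g ≫ U''.ι) (b y) ∈ U
      rw [show (M''.g ≫ U''.ι) (b y) = (M'.g ≫ U'.ι) y from congr($f1 y)]
      exact hy
  · rw [← Scheme.homOfLE_homOfLE X (Scheme.Hom.preimage_mono f h) (Scheme.Hom.preimage_mono f h'),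
      Category.assoc, f3, reassoc_of% e3]

set_option maxHeartbeats 1600000 in
theorem Mdl.exists_sup {f : X ⟶ P} [IsAffineHom f] [QuasiSeparatedSpace P] {U : P.Opens}
    (hU : IsCompact (U : Set P)) (M : Mdl f U) {W : P.Opens} (hW : IsAffineOpen W) :
    ∃ M' : Mdl f (U ⊔ W), Mdl.Extends le_sup_left M M' := by
  haveI := M.aff
  haveI := M.lfp
  let G : W.toScheme.Opens := W.ι ⁻¹ᵁ U
  haveI : IsAffine W.toScheme := hW
  haveI : IsAffine (f ⁻¹ᵁ W).toScheme := hW.preimage f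
  haveI : CompactSpace W := isCompact_iff_compactSpace.mp hW.isCompact
  haveI : QuasiCompact W.ι := quasiCompact_of_compactSpace _
  have hG : IsCompact (G : Set W.toScheme) := QuasiCompact.isCompact_preimage _ U.2 hU
  let o : G.toScheme ⟶ U.toScheme := IsOpenImmersion.lift U.ι (G.ι ≫ W.ι) (by
    rw [Scheme.Opens.range_ι]; rintro _ ⟨z, rfl⟩; exact z.2)
  have ho : o ≫ U.ι = G.ι ≫ W.ι := IsOpenImmersion.lift_fac _ _ _
  haveI : IsOpenImmersion (o ≫ U.ι) := by rw [ho]; infer_instance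
  haveI : IsOpenImmersion o := IsOpenImmersion.of_comp o U.ι
  let MG : M.obj.Opens := (M.g ≫ U.ι) ⁻¹ᵁ W
  have hrgo : o.opensRange = U.ι ⁻¹ᵁ W := by
    ext z
    constructor
    · rintro ⟨w, rfl⟩
      show (o ≫ U.ι) w ∈ W
      rw [ho]
      exact w.1.2
    · intro hz
      refine ⟨(⟨⟨z.1, hz⟩, z.2⟩ : G.toScheme), U.ι.isOpenEmbedding.injective ?_⟩
      rw [← Scheme.Hom.comp_apply, ho]
      rfl
  let gG : MG.toScheme ⟶ G.toScheme := IsOpenImmersion.lift o (MG.ι ≫ M.g) (by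
    rintro _ ⟨z, rfl⟩
    exact hrgo.ge z.2)
  have hgG : gG ≫ o = MG.ι ≫ M.g := IsOpenImmersion.lift_fac _ _ _
  have pbG : IsPullback gG MG.ι o M.g := IsOpenImmersion.isPullback _ _ _ _ hgG.symm
    (by rw [Scheme.Opens.opensRange_ι, hrgo]; rfl)
  haveI : IsAffineHom gG := MorphismProperty.of_isPullback pbG.flip inferInstance
  haveI : LocallyOfFinitePresentation gG := MorphismProperty.of_isPullback pbG.flip inferInstance
  let h : (f ⁻¹ᵁ W).toScheme ⟶ W.toScheme := f.resLE W (f ⁻¹ᵁ W) le_rfl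
  let XG : (f ⁻¹ᵁ W).toScheme.Opens := h ⁻¹ᵁ G
  let jU : XG.toScheme ⟶ (f ⁻¹ᵁ U).toScheme :=
    IsOpenImmersion.lift (f ⁻¹ᵁ U).ι (XG.ι ≫ (f ⁻¹ᵁ W).ι) (by
      rw [Scheme.Opens.range_ι]
      rintro _ ⟨z, rfl⟩
      have : (h ≫ W.ι) z.1 ∈ U := z.2
      rwa [Scheme.Hom.resLE_comp_ι] at this)
  have hjU : jU ≫ (f ⁻¹ᵁ U).ι = XG.ι ≫ (f ⁻¹ᵁ W).ι := IsOpenImmersion.lift_fac _ _ _
  have huW : jU ≫ M.u ≫ M.g ≫ U.ι = XG.ι ≫ h ≫ W.ι := by
    rw [M.w, reassoc_of% hjU, Scheme.Hom.resLE_comp_ι]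
  let uG : XG.toScheme ⟶ MG.toScheme := IsOpenImmersion.lift MG.ι (jU ≫ M.u) (by
    rw [Scheme.Opens.range_ι]
    rintro _ ⟨z, rfl⟩
    show (M.g ≫ U.ι) ((jU ≫ M.u) z) ∈ W
    rw [show (M.g ≫ U.ι) ((jU ≫ M.u) z) = (XG.ι ≫ h ≫ W.ι) z from congr($huW z)]
    exact (h z.1).2)
  have huG : uG ≫ MG.ι = jU ≫ M.u := IsOpenImmersion.lift_fac _ _ _
  have hu : uG ≫ gG ≫ G.ι = XG.ι ≫ h := by
    rw [← cancel_mono W.ι]
    simp only [Category.assoc]
    rw [← ho, reassoc_of% hgG, reassoc_of% huG, huW]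
  obtain ⟨N, gN, v, a, hN, hgN, haI, hvgN, hagN, hrga, hva⟩ :=
    exists_affine_extension G hG h gG uG hu
  have hle : a ≫ gN ≫ P.homOfLE (le_sup_right : W ≤ U ⊔ W) =
      MG.ι ≫ M.g ≫ P.homOfLE (le_sup_left : U ≤ U ⊔ W) := by
    rw [← cancel_mono (U ⊔ W).ι]
    simp only [Category.assoc, Scheme.homOfLE_ι]
    rw [reassoc_of% hagN, ← ho, reassoc_of% hgG]
  let g' : pushout MG.ι a ⟶ (U ⊔ W).toScheme := pushout.desc
    (M.g ≫ P.homOfLE le_sup_left) (gN ≫ P.homOfLE le_sup_right) hle.symm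
  have hl : pushout.inl MG.ι a ≫ g' = M.g ≫ P.homOfLE le_sup_left := pushout.inl_desc _ _ _
  have hr : pushout.inr MG.ι a ≫ g' = gN ≫ P.homOfLE le_sup_right := pushout.inr_desc _ _ _
  have hlT : ∀ y, (g' ≫ (U ⊔ W).ι) (pushout.inl MG.ι a y) = (M.g ≫ U.ι) y := fun y => by
    rw [← Scheme.Hom.comp_apply, reassoc_of% hl, Scheme.homOfLE_ι]
  have hrT : ∀ y, (g' ≫ (U ⊔ W).ι) (pushout.inr MG.ι a y) = (gN ≫ W.ι) y := fun y => by
    rw [← Scheme.Hom.comp_apply, reassoc_of% hr, Scheme.homOfLE_ι]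
  have preU : (g' ≫ (U ⊔ W).ι) ⁻¹ᵁ U = (pushout.inl MG.ι a).opensRange := by
    ext z
    constructor
    · intro hz
      rcases exists_inl_or_inr MG.ι a z with ⟨y, rfl⟩ | ⟨y, rfl⟩
      · exact ⟨y, rfl⟩
      · have : gN y ∈ G := by
          have : (g' ≫ (U ⊔ W).ι) (pushout.inr MG.ι a y) ∈ U := hz
          rwa [hrT] at this
        obtain ⟨w, rfl⟩ := hrga.le this
        exact ⟨MG.ι w, congr($(pushout.condition (f := MG.ι) (g := a)) w)⟩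
    · rintro ⟨y, rfl⟩
      show (g' ≫ (U ⊔ W).ι) _ ∈ U
      rw [hlT]
      exact (M.g y).2
  have preW : (g' ≫ (U ⊔ W).ι) ⁻¹ᵁ W = (pushout.inr MG.ι a).opensRange := by
    ext z
    constructor
    · intro hz
      rcases exists_inl_or_inr MG.ι a z with ⟨y, rfl⟩ | ⟨y, rfl⟩
      · have hy : y ∈ MG := by
          have : (g' ≫ (U ⊔ W).ι) (pushout.inl MG.ι a y) ∈ W := hz
          rwa [hlT] at this
        exact ⟨a ⟨y, hy⟩,
          (congr($(pushout.condition (f := MG.ι) (g := a)) (⟨y, hy⟩ : MG.toScheme))).symm⟩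
      · exact ⟨y, rfl⟩
    · rintro ⟨y, rfl⟩
      show (g' ≫ (U ⊔ W).ι) _ ∈ W
      rw [hrT]
      exact (gN y).2
  have pbU : IsPullback M.g (pushout.inl MG.ι a) (P.homOfLE le_sup_left) g' :=
    IsOpenImmersion.isPullback _ _ _ _ hl
      (by rw [Scheme.opensRange_homOfLE, ← Scheme.Hom.comp_preimage, preU])
  have pbW : IsPullback gN (pushout.inr MG.ι a) (P.homOfLE le_sup_right) g' :=
    IsOpenImmersion.isPullback _ _ _ _ hr
      (by rw [Scheme.opensRange_homOfLE, ← Scheme.Hom.comp_preimage, preW])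
  have hcov : ⨆ i : Bool, cond i (P.homOfLE (le_sup_left : U ≤ U ⊔ W)).opensRange
      (P.homOfLE (le_sup_right : W ≤ U ⊔ W)).opensRange = ⊤ := by
    refine top_le_iff.mp fun z _ => ?_
    rcases (show z.1 ∈ U ∨ z.1 ∈ W from z.2) with hz | hz
    · exact Opens.mem_iSup.mpr ⟨true, by
        show z ∈ (P.homOfLE _).opensRange
        rw [Scheme.opensRange_homOfLE]; exact hz⟩
    · exact Opens.mem_iSup.mpr ⟨false, by
        show z ∈ (P.homOfLE _).opensRange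
        rw [Scheme.opensRange_homOfLE]; exact hz⟩
  haveI : IsAffineHom gN := inferInstance
  haveI : IsAffineHom g' := by
    refine IsZariskiLocalAtTarget.of_iSup_eq_top _ hcov fun i => ?_
    cases i with
    | true => exact morphismRestrict_of_isPullback @IsAffineHom pbU M.aff
    | false => exact morphismRestrict_of_isPullback @IsAffineHom pbW inferInstance
  haveI : LocallyOfFinitePresentation g' := by
    refine IsZariskiLocalAtTarget.of_iSup_eq_top _ hcov fun i => ?_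
    cases i with
    | true => exact morphismRestrict_of_isPullback @LocallyOfFinitePresentation pbU M.lfp
    | false => exact morphismRestrict_of_isPullback @LocallyOfFinitePresentation pbW hgN
  obtain ⟨u', hu'1, hu'2⟩ := exists_glue_sup (f ⁻¹ᵁ U) (f ⁻¹ᵁ W)
    (M.u ≫ pushout.inl MG.ι a) (v ≫ pushout.inr MG.ι a) (by
      let k : (f ⁻¹ᵁ U ⊓ f ⁻¹ᵁ W).toScheme ⟶ XG.toScheme :=
        IsOpenImmersion.lift XG.ι (X.homOfLE inf_le_right) (by
          rw [Scheme.Opens.range_ι]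
          rintro _ ⟨z, rfl⟩
          show (h ≫ W.ι) _ ∈ U
          rw [Scheme.Hom.resLE_comp_ι, ← Scheme.Hom.comp_apply, Scheme.homOfLE_ι_assoc]
          exact z.2.1)
      have hk : k ≫ XG.ι = X.homOfLE inf_le_right := IsOpenImmersion.lift_fac _ _ _
      have hkU : k ≫ jU = X.homOfLE inf_le_left := by
        rw [← cancel_mono (f ⁻¹ᵁ U).ι, Category.assoc, hjU, reassoc_of% hk,
          Scheme.homOfLE_ι, Scheme.homOfLE_ι]
      rw [← hkU, ← hk, Category.assoc, Category.assoc, reassoc_of% hva, ← reassoc_of% huG,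
        pushout.condition])
    (f ⁻¹ᵁ (U ⊔ W)) rfl (Scheme.Hom.preimage_mono f le_sup_left) (Scheme.Hom.preimage_mono f le_sup_right)
  refine ⟨⟨pushout MG.ι a, g', u', inferInstance, inferInstance, ?_⟩,
    pushout.inl MG.ι a, inferInstance, ?_, ?_, hu'1⟩
  · refine hom_ext_sup (f ⁻¹ᵁ U) (f ⁻¹ᵁ W) (T := f ⁻¹ᵁ (U ⊔ W)) rfl
      (Scheme.Hom.preimage_mono f le_sup_left) (Scheme.Hom.preimage_mono f le_sup_right) _ _ ?_ ?_
    · rw [reassoc_of% hu'1, reassoc_of% hl, Scheme.homOfLE_ι, M.w, Scheme.homOfLE_ι_assoc]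
    · rw [reassoc_of% hu'2, reassoc_of% hr, Scheme.homOfLE_ι, reassoc_of% hvgN,
        Scheme.Hom.resLE_comp_ι, Scheme.homOfLE_ι_assoc]
  · rw [reassoc_of% hl, Scheme.homOfLE_ι]
  · rw [preU, Scheme.Hom.coe_opensRange]

/-- A model over an open extends to the whole of a qcqs scheme. -/
theorem Mdl.exists_top {f : X ⟶ P} [IsAffineHom f] [CompactSpace P] [QuasiSeparatedSpace P]
    {U : P.Opens} (hU : IsCompact (U : Set P)) (M : Mdl f U) :
    ∃ (M' : Mdl f ⊤), Mdl.Extends le_top M M' := by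
  classical
  obtain ⟨s, hs, hcov⟩ := exists_finite_affineOpens (U := (⊤ : P.Opens)) isCompact_univ
  suffices H : ∀ t : Finset P.affineOpens, ∃ (U' : P.Opens) (hle : U ≤ U') (M' : Mdl f U'),
      IsCompact (U' : Set P) ∧ t.sup (fun W => W.1) ≤ U' ∧ Mdl.Extends hle M M' by
    obtain ⟨U', hle, M', -, ht, hM'⟩ := H hs.toFinset
    have e : U' = ⊤ := top_le_iff.mp (le_trans (by
      rw [hcov, iSup_le_iff]
      exact fun V => Finset.le_sup (f := fun W : P.affineOpens => W.1) (hs.mem_toFinset.mpr V.2)) ht)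
    subst e
    exact ⟨M', hM'⟩
  intro t
  induction t using Finset.induction with
  | empty =>
    refine ⟨U, le_rfl, M, hU, by simp, 𝟙 _, inferInstance, by simp, ?_, by simp⟩
    ext z
    simp
  | insert W t _ ih =>
    obtain ⟨U', hle, M', hc, ht, hM'⟩ := ih
    obtain ⟨M'', hM''⟩ := M'.exists_sup hc W.2
    refine ⟨U' ⊔ W.1, hle.trans le_sup_left, M'', by rw [Opens.coe_sup]; exact hc.union W.2.isCompact,
      ?_, hM'.trans hM''⟩
    rw [Finset.sup_insert, sup_comm]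
    exact sup_le_sup ht le_rfl

/-- A section of an affine `X` over an affine open comes from an affine scheme of finite
presentation over the base. -/
theorem exists_model_lift (f : X ⟶ P) [IsAffineHom f] [CompactSpace P] [QuasiSeparatedSpace P]
    (V : P.affineOpens) (s : Γ((f ⁻¹ᵁ V.1).toScheme, ⊤)) :
    ∃ (M : Scheme.{u}) (q : M ⟶ P) (v : X ⟶ M), IsAffineHom q ∧ LocallyOfFinitePresentation q ∧
      v ≫ q = f ∧ ∃ (e : f ⁻¹ᵁ V.1 ≤ v ⁻¹ᵁ (q ⁻¹ᵁ V.1)) (t : Γ((q ⁻¹ᵁ V.1).toScheme, ⊤)),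
        (v.resLE (q ⁻¹ᵁ V.1) (f ⁻¹ᵁ V.1) e).appTop t = s := by
  haveI : IsAffine V.1.toScheme := V.2
  haveI : IsAffine (f ⁻¹ᵁ V.1).toScheme := V.2.preimage f
  let fV : (f ⁻¹ᵁ V.1).toScheme ⟶ V.1.toScheme := f.resLE V.1 (f ⁻¹ᵁ V.1) le_rfl
  let N₀ := Spec (CommRingCat.of (MvPolynomial PUnit.{u + 1} Γ(V.1.toScheme, ⊤)))
  let g₀ : N₀ ⟶ V.1.toScheme := mvSpecHom V.1.toScheme PUnit.{u + 1}
  let u₀ : (f ⁻¹ᵁ V.1).toScheme ⟶ N₀ := toMvSpec fV (fun _ => s)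
  let M₀ : Mdl f V.1 := ⟨N₀, g₀, u₀, inferInstance, inferInstance, by
    rw [← Category.assoc, toMvSpec_comp, Scheme.Hom.resLE_comp_ι]⟩
  obtain ⟨M, b, hb, hb1, hb2, hb3⟩ := M₀.exists_top V.2.isCompact
  haveI := M.aff
  haveI := M.lfp
  haveI : IsIso (⊤ : P.Opens).ι := isIso_ι_of_eq_top rfl
  haveI : IsIso (f ⁻¹ᵁ (⊤ : P.Opens)).ι := isIso_ι_of_eq_top rfl
  let q := M.g ≫ (⊤ : P.Opens).ι
  let v : X ⟶ M.obj := inv (f ⁻¹ᵁ (⊤ : P.Opens)).ι ≫ M.u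
  have hv : v ≫ q = f := by
    simp only [v, q, Category.assoc, M.w, IsIso.inv_hom_id_assoc]
  have e : f ⁻¹ᵁ V.1 ≤ v ⁻¹ᵁ (q ⁻¹ᵁ V.1) := by rw [← Scheme.Hom.comp_preimage, hv]
  refine ⟨M.obj, q, v, inferInstance, inferInstance, hv, e, ?_⟩
  let r : N₀ ≅ (q ⁻¹ᵁ V.1).toScheme := IsOpenImmersion.isoOfRangeEq b (q ⁻¹ᵁ V.1).ι
    (by rw [Scheme.Opens.range_ι]; exact hb2.symm)
  have hr : r.hom ≫ (q ⁻¹ᵁ V.1).ι = b := IsOpenImmersion.isoOfRangeEq_hom_fac _ _ _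
  refine ⟨r.inv.appTop ((Scheme.ΓSpecIso _).inv (MvPolynomial.X PUnit.unit)), ?_⟩
  have key : v.resLE (q ⁻¹ᵁ V.1) (f ⁻¹ᵁ V.1) e = u₀ ≫ r.hom := by
    rw [← cancel_mono (q ⁻¹ᵁ V.1).ι, Scheme.Hom.resLE_comp_ι, Category.assoc, hr, ← hb3]
    simp only [v, ← Category.assoc]
    congr 1
    rw [IsIso.comp_inv_eq, Scheme.homOfLE_ι]
  rw [key, ← CommRingCat.comp_apply, ← Scheme.Hom.comp_appTop, Category.assoc, Iso.hom_inv_id,
    Category.comp_id, toMvSpec_appTop, MvPolynomial.eval₂Hom_X']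

end Groth.L19.Approx
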