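import Groth.Agent.L19.Approx.Embed
import Groth.Agent.L19.Approx.Image
import Groth.Agent.L19.Limit.ProperClosed
import Groth.Agent.L05.DescendFP

/-!
# Schemes of finite type over a limit inside base changes from a stage; proper morphisms as limits
-/

universe u

open CategoryTheory CategoryTheory.Limits AlgebraicGeometry TopologicalSpace

namespace Groth.L19.Approx

set_option backward.isDefEq.respectTransparency.types false
set_option backward.isDefEq.respectTransparency false
set_option backward.defeqAttrib.useBackward true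
set_option linter.style.haveILetI false

variable {I : Type u} [SmallCategory I] [IsCofiltered I] {D : I ⥤ Scheme.{u}} {c : Cone D}
  [∀ {i j} (f : i ⟶ j), IsAffineHom (D.map f)] [∀ i, CompactSpace (D.obj i)]
  [∀ i, QuasiSeparatedSpace (D.obj i)]

/-- A scheme of finite type over a limit is closed in the base change of a finitely presented scheme
over some stage. -/
theorem exists_closed_in_stage (hc : IsLimit c) {X : Scheme.{u}} (a : X ⟶ c.pt)
    [QuasiCompact a] [QuasiSeparated a] [LocallyOfFiniteType a] :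
    ∃ (i : I) (W : Scheme.{u}) (w : W ⟶ D.obj i) (Z : Scheme.{u}) (q : Z ⟶ W) (r : Z ⟶ c.pt)
      (z : X ⟶ Z), LocallyOfFinitePresentation w ∧ QuasiCompact w ∧ QuasiSeparated w ∧
      IsPullback q r w (c.π.app i) ∧ IsClosedImmersion z ∧ z ≫ r = a := by
  obtain ⟨i₀⟩ := IsCofiltered.nonempty (C := I)
  haveI := fun i => isAffineHom_π_app D c hc i
  haveI : CompactSpace c.pt := Scheme.compactSpace_of_isLimit D c hc
  haveI : QuasiSeparatedSpace c.pt := quasiSeparatedSpace_of_quasiSeparated (c.π.app i₀)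
  haveI : CompactSpace X := QuasiCompact.compactSpace_of_compactSpace a
  haveI : QuasiSeparatedSpace X := quasiSeparatedSpace_of_quasiSeparated a
  obtain ⟨Z, r, z, hr, hcZ, hqZ, hz, hzr⟩ := embeds_of_locallyOfFiniteType a
  haveI : QuasiCompact r := quasiCompact_of_compactSpace r
  haveI : QuasiSeparated r := .of_comp r (terminal.from c.pt)
  obtain ⟨i, W, w, q, h1, h2, h3, h4⟩ := Groth.L05.DescendFP.exists_stage hc r
  exact ⟨i, W, w, Z, q, r, z, h1, h2, h3, h4, hz, hzr⟩

/-- A proper morphism to a limit of Noetherian schemes is a limit of proper morphisms. -/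
theorem exists_proper_system (hc : IsLimit c) [∀ i, IsLocallyNoetherian (D.obj i)] {X : Scheme.{u}}
    (f : X ⟶ c.pt) [IsProper f] :
    ∃ (K : Type u) (_ : SmallCategory K) (_ : IsCofiltered K) (F : K ⥤ I)
      (_ : Nonempty (IsLimit (c.whisker F))) (DX : K ⥤ Scheme.{u}) (φ : DX ⟶ F ⋙ D) (cX : Cone DX)
      (_ : IsLimit cX) (e : cX.pt ≅ X),
      (∀ (a b : K) (h : a ⟶ b), IsAffineHom (DX.map h)) ∧
      (∀ k, IsProper (φ.app k)) ∧
      (∀ k, cX.π.app k ≫ φ.app k = e.hom ≫ f ≫ c.π.app (F.obj k)) := by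
  obtain ⟨i, W, w, Z, q, r, z, hw₁, hw₂, hw₃, hsq, hz, hzr⟩ := exists_closed_in_stage hc f
  haveI : LocallyOfFiniteType w := inferInstance
  haveI : CompactSpace W := QuasiCompact.compactSpace_of_compactSpace w
  haveI : QuasiSeparatedSpace W := quasiSeparatedSpace_of_quasiSeparated w
  have hY : IsPullback (c.π.app i) (𝟙 c.pt) (𝟙 (D.obj i)) (c.π.app i) :=
    IsPullback.of_id_fst.flip
  let cE := Limit.sqCone (hsq.paste_vert hY)
  let E := Limit.bcDiagram D (w ≫ 𝟙 (D.obj i))
  let z' : X ⟶ cE.pt := z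
  haveI : IsClosedImmersion z' := hz
  have hcE : IsLimit cE := Limit.isLimitSqCone hc (hsq.paste_vert hY)
  let C : ∀ k : Over i, Set (E.obj k) := fun k => Set.range (z' ≫ cE.π.app k).imageι
  haveI : IsProper (z ≫ r) := hzr.symm ▸ ‹IsProper f›
  obtain ⟨j₀, hj₀⟩ := Limit.exists_isProper_closed hc (f₀ := w) (g₀ := 𝟙 _) (g := 𝟙 c.pt)
    hY hsq C (fun k => (z' ≫ cE.π.app k).imageι.isClosedEmbedding.isClosed_range)
    (fun {j k} φ => by
      rintro _ ⟨y, rfl⟩
      refine ⟨(imageSystem z').map φ y, ?_⟩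
      refine (Scheme.Hom.comp_apply _ _ y).symm.trans ?_
      exact (congr($((imageSystemι z').naturality φ) y)).trans (Scheme.Hom.comp_apply _ _ y))
    z (fun x hx => mem_range_of_forall_mem z' hcE x hx)
  let F : Over j₀ ⥤ I := Over.forget j₀ ⋙ Over.forget i
  let ψ : imageSystem z' ⟶ Over.forget i ⋙ D := imageSystemι z' ≫ Limit.bcFst D (w ≫ 𝟙 (D.obj i))
  haveI : IsCofiltered (Over j₀) := inferInstance
  refine ⟨Over j₀, inferInstance, inferInstance, F,
    ⟨(Functor.Initial.isLimitWhiskerEquiv (Over.forget j₀) (c.whisker (Over.forget i))).symm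
      ((Functor.Initial.isLimitWhiskerEquiv (Over.forget i) c).symm hc)⟩,
    Over.forget j₀ ⋙ imageSystem z', Functor.whiskerLeft (Over.forget j₀) ψ,
    (imageCone z').whisker (Over.forget j₀),
    (Functor.Initial.isLimitWhiskerEquiv (Over.forget j₀) (imageCone z')).symm
      (nonempty_isLimit_imageCone z' hcE).some,
    Iso.refl X, fun a b h => isAffineHom_imageSystem_map z' _, fun k => ?_, fun k => ?_⟩
  · show IsProper (ψ.app k.left)
    have := hj₀ k.left k.hom (z' ≫ cE.π.app k.left).imageι le_rfl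
    rw [show ψ.app k.left = ((z' ≫ cE.π.app k.left).imageι ≫ Limit.stageHom w (𝟙 _) k.left) ≫
      pullback.fst (D.map k.left.hom) (𝟙 _) by
        rw [Category.assoc, Limit.stageHom_fst]; rfl]
    infer_instance
  · show (z' ≫ cE.π.app k.left).toImage ≫ (z' ≫ cE.π.app k.left).imageι ≫
      pullback.fst (D.map k.left.hom) (w ≫ 𝟙 _) = 𝟙 X ≫ f ≫ c.π.app k.left.left
    rw [Scheme.Hom.toImage_imageι_assoc, Category.assoc, Category.id_comp, ← hzr]
    show z ≫ Limit.toStage (hsq.paste_vert hY) k.left ≫ _ = _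
    rw [Limit.toStage_fst]
    simp

end Groth.L19.Approx
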