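import Groth.Agent.L19.Limit.Sections
import Groth.Agent.L19.Approx.Embed

/-!
# Approximation relative to a quasi-compact open
-/

set_option backward.isDefEq.respectTransparency.types false
set_option backward.isDefEq.respectTransparency false
set_option backward.defeqAttrib.useBackward true
set_option linter.style.haveILetI false

universe u

open CategoryTheory CategoryTheory.Limits AlgebraicGeometry TopologicalSpace Opposite

namespace Groth.L19.Approx.Rel

/-- The kernel of the restriction of a quasi-compact morphism to an open. -/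
theorem ker_morphismRestrict {X Y : Scheme.{u}} (f : X ⟶ Y) [QuasiCompact f] (W : Y.Opens) :
    (f ∣_ W).ker = f.ker.comap W.ι := by
  ext V : 2
  rw [Scheme.IdealSheafData.ideal_comap_of_isOpenImmersion,
    Scheme.ker_ideal_of_isPullback_of_isOpenImmersion f (f ∣_ W) (f ⁻¹ᵁ W).ι W.ι
      (isPullback_morphismRestrict f W) V]

theorem appLE_appLE_of_comp_eq {X Y Z : Scheme.{u}} {z : X ⟶ Y} {w : Y ⟶ Z} {v : X ⟶ Z}
    (h : z ≫ w = v) {A : Z.Opens} {B : Y.Opens} {C : X.Opens} (e1 : B ≤ w ⁻¹ᵁ A) (e2 : C ≤ z ⁻¹ᵁ B)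
    (e3 : C ≤ v ⁻¹ᵁ A) (t : Γ(Z, A)) :
    z.appLE B C e2 (w.appLE A B e1 t) = v.appLE A C e3 t := by
  subst h
  rw [← CommRingCat.comp_apply, Scheme.Hom.appLE_comp_appLE]

variable {S T : Scheme.{u}} {f : S ⟶ T} {G : T.Opens} {I : Type u} [Preorder I]
  {DV : Iᵒᵖ ⥤ Scheme.{u}} {π : ∀ i : I, (f ⁻¹ᵁ G).toScheme ⟶ DV.obj (op i)}

/-- The hypotheses of the construction. -/
structure Data (f : S ⟶ T) (G : T.Opens) (DV : Iᵒᵖ ⥤ Scheme.{u})
    (π : ∀ i : I, (f ⁻¹ᵁ G).toScheme ⟶ DV.obj (op i)) where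
  /-- the first index receiving a map to `G` -/
  i₁ : I
  /-- the map to `G` -/
  g₁ : DV.obj (op i₁) ⟶ G.toScheme
  aff : IsAffineHom g₁
  lfp : LocallyOfFinitePresentation g₁
  fac : π i₁ ≫ g₁ = f ∣_ G
  affV : ∀ {i j : Iᵒᵖ} (a : i ⟶ j), IsAffineHom (DV.map a)
  lfpV : ∀ {i j : Iᵒᵖ} (a : i ⟶ j), LocallyOfFinitePresentation (DV.map a)
  natπ : ∀ {i j : I} (h : i ≤ j), π j ≫ DV.map (homOfLE h).op = π i

variable (d : Data f G DV π)

theorem map_map {i j k : I} (h : i ≤ j) (h' : j ≤ k) :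
    DV.map (homOfLE h').op ≫ DV.map (homOfLE h).op = DV.map (homOfLE (h.trans h')).op := by
  rw [← DV.map_comp, ← op_comp, homOfLE_comp]

theorem map_self (i : I) (h : i ≤ i) : DV.map (homOfLE h).op = 𝟙 _ := by
  rw [show homOfLE h = 𝟙 i from rfl, op_id, DV.map_id]

/-- The map to `G` of the later stages. -/
noncomputable def Data.g (m : I) (hm : d.i₁ ≤ m) : DV.obj (op m) ⟶ G.toScheme :=
  DV.map (homOfLE hm).op ≫ d.g₁

theorem Data.g_fac (m : I) (hm : d.i₁ ≤ m) : π m ≫ d.g m hm = f ∣_ G := by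
  rw [Data.g, ← Category.assoc, d.natπ, d.fac]

theorem Data.map_g {i m : I} (hi : d.i₁ ≤ i) (h : i ≤ m) :
    DV.map (homOfLE h).op ≫ d.g i hi = d.g m (hi.trans h) := by
  rw [Data.g, Data.g, ← Category.assoc, map_map]

/-- A building block: a model of `S` over `T` receiving a stage. -/
structure Atom where
  /-- the scheme -/
  M : Scheme.{u}
  /-- its structure map -/
  q : M ⟶ T
  /-- the map from `S` -/
  v : S ⟶ M
  /-- the index -/
  idx : I
  hidx : d.i₁ ≤ idx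
  /-- the map from the stage -/
  r : DV.obj (op idx) ⟶ M
  aff : IsAffineHom q
  lfp : LocallyOfFinitePresentation q
  hv : v ≫ q = f
  hr : r ≫ q = d.g idx hidx ≫ G.ι
  hπ : π idx ≫ r = (f ⁻¹ᵁ G).ι ≫ v

theorem exists_atom_stage [IsAffineHom f] [CompactSpace T] [QuasiSeparatedSpace T]
    (hG : IsCompact (G : Set T)) (m : I) (hm : d.i₁ ≤ m) :
    ∃ (A : Atom d) (h : m = A.idx), IsOpenImmersion A.r ∧
      (↑(A.q ⁻¹ᵁ G) : Set A.M) = Set.range A.r := by
  haveI := d.aff; haveI := d.lfp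
  haveI := d.affV (homOfLE hm).op; haveI := d.lfpV (homOfLE hm).op
  haveI : IsAffineHom (d.g m hm) := inferInstanceAs (IsAffineHom (_ ≫ _))
  haveI : LocallyOfFinitePresentation (d.g m hm) :=
    inferInstanceAs (LocallyOfFinitePresentation (_ ≫ _))
  let M₀ : Mdl f G :=
    { obj := DV.obj (op m), g := d.g m hm, u := π m, aff := inferInstance, lfp := inferInstance
      w := by rw [← Category.assoc, d.g_fac, morphismRestrict_ι] }
  obtain ⟨M', a, ha, e1, e2, e3⟩ := Mdl.exists_top hG M₀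
  haveI : IsIso (⊤ : T.Opens).ι := T.topIso.isIso_hom
  haveI : IsIso (f ⁻¹ᵁ (⊤ : T.Opens)).ι := S.topIso.isIso_hom
  haveI := M'.aff; haveI := M'.lfp
  have key : (f ⁻¹ᵁ G).ι ≫ inv (f ⁻¹ᵁ (⊤ : T.Opens)).ι =
      S.homOfLE (f.preimage_mono (le_top : G ≤ ⊤)) := by
    rw [IsIso.comp_inv_eq, Scheme.homOfLE_ι]
  exact ⟨{ M := M'.obj, q := M'.g ≫ (⊤ : T.Opens).ι, v := inv (f ⁻¹ᵁ (⊤ : T.Opens)).ι ≫ M'.u
           idx := m, hidx := hm, r := a, aff := inferInstance, lfp := inferInstance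
           hv := by rw [Category.assoc, IsIso.inv_comp_eq]; exact M'.w
           hr := e1
           hπ := by rw [reassoc_of% key]; exact e3.symm }, rfl, ha, e2⟩

theorem exists_atom_sec [IsAffineHom f] [CompactSpace T] [QuasiSeparatedSpace T]
    [IsDirected I (· ≤ ·)]
    [LocallyOfFinitePresentation (specULiftZIsTerminal.from T)]
    [∀ i, CompactSpace (DV.obj i)] [∀ i, QuasiSeparatedSpace (DV.obj i)]
    (c : Cone DV) (hc : IsLimit c) (e : (f ⁻¹ᵁ G).toScheme ≅ c.pt)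
    (he : ∀ i, π i = e.hom ≫ c.π.app (op i)) (s : Sec f) :
    ∃ (A : Atom d) (h : f ⁻¹ᵁ s.1.1 ≤ A.v ⁻¹ᵁ (A.q ⁻¹ᵁ s.1.1))
      (t : Γ(A.M, A.q ⁻¹ᵁ s.1.1)), A.v.appLE (A.q ⁻¹ᵁ s.1.1) (f ⁻¹ᵁ s.1.1) h t = s.2 := by
  haveI : Nonempty I := ⟨d.i₁⟩
  haveI : ∀ {i j : Iᵒᵖ} (a : i ⟶ j), IsAffineHom (DV.map a) := d.affV
  obtain ⟨hq, hq', hv, h, t, ht⟩ := sec_spec f s
  haveI := hq'
  haveI hZ : LocallyOfFinitePresentation (specULiftZIsTerminal.from (secObj f s)) := by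
    rw [specULiftZIsTerminal.hom_ext (specULiftZIsTerminal.from (secObj f s))
      (secHom f s ≫ specULiftZIsTerminal.from T)]
    infer_instance
  let base : DV ⟶ (Functor.const Iᵒᵖ).obj (Spec (CommRingCat.of (ULift.{u} ℤ))) :=
    { app := fun i => specULiftZIsTerminal.from _
      naturality := fun i j a => specULiftZIsTerminal.hom_ext _ _ }
  obtain ⟨i, r, hr, -⟩ := Scheme.exists_π_app_comp_eq_of_locallyOfFinitePresentation DV base
    (specULiftZIsTerminal.from (secObj f s)) c hc (e.inv ≫ (f ⁻¹ᵁ G).ι ≫ secPt f s)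
    (NatTrans.ext (funext fun k => specULiftZIsTerminal.hom_ext _ _))
  obtain ⟨m, hmi, hm₁⟩ := exists_ge_ge i.unop d.i₁
  have hr' : c.π.app (op m) ≫ DV.map (homOfLE hmi).op ≫ r =
      e.inv ≫ (f ⁻¹ᵁ G).ι ≫ secPt f s := by
    rw [← hr, ← Category.assoc, c.w]
  have heq : c.π.app (op m) ≫ (DV.map (homOfLE hmi).op ≫ r ≫ secHom f s) =
      c.π.app (op m) ≫ (d.g m hm₁ ≫ G.ι) := by
    rw [← cancel_epi e.hom]
    have h1 : π m ≫ d.g m hm₁ ≫ G.ι = (f ⁻¹ᵁ G).ι ≫ f := by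
      rw [← Category.assoc, d.g_fac, morphismRestrict_ι]
    rw [he m, Category.assoc] at h1
    rw [h1, reassoc_of% hr', e.hom_inv_id_assoc, hv]
  obtain ⟨k, a, hk⟩ := Scheme.exists_hom_comp_eq_comp_of_locallyOfFiniteType DV base
    (specULiftZIsTerminal.from T) c hc (i := op m) (DV.map (homOfLE hmi).op ≫ r ≫ secHom f s)
    (d.g m hm₁ ≫ G.ι) (specULiftZIsTerminal.hom_ext _ _) (specULiftZIsTerminal.hom_ext _ _) heq
  have hmk : m ≤ k.unop := a.unop.le
  refine ⟨{ M := secObj f s, q := secHom f s, v := secPt f s, idx := k.unop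
            hidx := hm₁.trans hmk
            r := DV.map (homOfLE (hmi.trans hmk)).op ≫ r
            aff := hq, lfp := hq', hv := hv, hr := ?_, hπ := ?_ }, h, t, ht⟩
  · have : a = (homOfLE hmk).op := Subsingleton.elim _ _
    rw [this, ← Category.assoc, map_map, reassoc_of% d.map_g hm₁ hmk] at hk
    rw [Category.assoc]
    exact hk
  · rw [← Category.assoc, d.natπ, he, Category.assoc]
    show e.hom ≫ c.π.app i ≫ r = _
    rw [hr, e.hom_inv_id_assoc]

section System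

variable [IsAffineHom f] [CompactSpace T] [QuasiSeparatedSpace T] (hG : IsCompact (G : Set T))
  (sel : Sec f → Atom d)

/-- The labels of the building blocks. -/
abbrev Lab : Type u := Sec f ⊕ {m : I // d.i₁ ≤ m}

/-- The chosen building blocks. -/
noncomputable def atom : Lab d → Atom d
  | .inl s => sel s
  | .inr m => (exists_atom_stage d hG m.1 m.2).choose

theorem atom_inr (m : {m : I // d.i₁ ≤ m}) :
    ∃ _ : m.1 = (atom d hG sel (.inr m)).idx, IsOpenImmersion (atom d hG sel (.inr m)).r ∧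
      (↑((atom d hG sel (.inr m)).q ⁻¹ᵁ G) : Set (atom d hG sel (.inr m)).M) =
        Set.range (atom d hG sel (.inr m)).r :=
  (exists_atom_stage d hG m.1 m.2).choose_spec

/-- The finite products of building blocks. -/
noncomputable def pr (E : Finset (Lab d)) :
    Prod f (fun s => (atom d hG sel s).M) (fun s => (atom d hG sel s).q)
      (fun s => (atom d hG sel s).v) E :=
  (nonempty_prod f _ _ _ (fun s => (atom d hG sel s).aff) (fun s => (atom d hG sel s).lfp)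
    (fun s => (atom d hG sel s).hv) E).some

/-- The indices of the system. -/
structure Ix where
  /-- the building blocks -/
  E : Finset (Lab d)
  /-- the index of the stage on `V` -/
  m : I
  hm : d.i₁ ≤ m
  mem : Sum.inr ⟨m, hm⟩ ∈ E
  le : ∀ s ∈ E, (atom d hG sel s).idx ≤ m

variable {d hG sel}

instance : Preorder (Ix d hG sel) where
  le i j := i.E ⊆ j.E ∧ i.m ≤ j.m
  le_refl i := ⟨Finset.Subset.refl _, le_rfl⟩
  le_trans i j k h h' := ⟨h.1.trans h'.1, h.2.trans h'.2⟩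

theorem exists_ix_of [IsDirected I (· ≤ ·)] (E₀ : Finset (Lab d)) (m₀ : I) :
    ∃ i : Ix d hG sel, E₀ ⊆ i.E ∧ m₀ ≤ i.m := by
  classical
  obtain ⟨m₁, h0, h1⟩ := exists_ge_ge m₀ d.i₁
  obtain ⟨M, hM⟩ : ∃ M, m₁ ≤ M ∧ ∀ s ∈ E₀, (atom d hG sel s).idx ≤ M := by
    induction E₀ using Finset.induction with
    | empty => exact ⟨m₁, le_rfl, fun s hs => absurd hs (Finset.notMem_empty s)⟩
    | insert s E hs ih =>
      obtain ⟨M, h, hM⟩ := ih
      obtain ⟨M', h', h''⟩ := exists_ge_ge M (atom d hG sel s).idx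
      refine ⟨M', h.trans h', fun t ht => ?_⟩
      rcases Finset.mem_insert.mp ht with rfl | ht
      · exact h''
      · exact (hM t ht).trans h'
  refine ⟨⟨insert (Sum.inr ⟨M, h1.trans hM.1⟩) E₀, M, h1.trans hM.1, Finset.mem_insert_self _ _,
    fun s hs => ?_⟩, Finset.subset_insert _ _, h0.trans hM.1⟩
  rcases Finset.mem_insert.mp hs with rfl | hs
  · obtain ⟨h, -⟩ := atom_inr d hG sel ⟨M, h1.trans hM.1⟩
    exact h.ge
  · exact hM.2 s hs

theorem nonempty_ix [IsDirected I (· ≤ ·)] : Nonempty (Ix d hG sel) :=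
  ⟨(exists_ix_of ∅ d.i₁).choose⟩

theorem isDirected_ix [IsDirected I (· ≤ ·)] : IsDirected (Ix d hG sel) (fun a b => a ≤ b) := by
  classical
  refine ⟨fun a b => ?_⟩
  obtain ⟨M, ha, hb⟩ := exists_ge_ge a.m b.m
  obtain ⟨c, hc, hM⟩ := exists_ix_of (hG := hG) (sel := sel) (a.E ∪ b.E) M
  exact ⟨c, ⟨Finset.subset_union_left.trans hc, ha.trans hM⟩,
    ⟨Finset.subset_union_right.trans hc, hb.trans hM⟩⟩

theorem exists_c (i : Ix d hG sel) : ∃ a : DV.obj (op i.m) ⟶ (pr d hG sel i.E).obj,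
    a ≫ (pr d hG sel i.E).hom = d.g i.m i.hm ≫ G.ι ∧ ∀ s (hs : s ∈ i.E),
      a ≫ (pr d hG sel i.E).pr s hs =
        DV.map (homOfLE (i.le s hs)).op ≫ (atom d hG sel s).r :=
  (pr d hG sel i.E).exists_lift _ _ fun s hs => by
    rw [Category.assoc, (atom d hG sel s).hr, ← Category.assoc, d.map_g]

/-- The map from a stage on `V` to the product. -/
noncomputable def cc (i : Ix d hG sel) : DV.obj (op i.m) ⟶ (pr d hG sel i.E).obj :=
  (exists_c i).choose

theorem cc_hom (i : Ix d hG sel) : cc i ≫ (pr d hG sel i.E).hom = d.g i.m i.hm ≫ G.ι :=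
  (exists_c i).choose_spec.1

theorem cc_pr (i : Ix d hG sel) (s : Lab d) (hs : s ∈ i.E) :
    cc i ≫ (pr d hG sel i.E).pr s hs = DV.map (homOfLE (i.le s hs)).op ≫ (atom d hG sel s).r :=
  (exists_c i).choose_spec.2 s hs

theorem π_cc (i : Ix d hG sel) :
    π i.m ≫ cc i = (f ⁻¹ᵁ G).ι ≫ (pr d hG sel i.E).pt := by
  refine (pr d hG sel i.E).hom_ext _ _ ?_ fun s hs => ?_
  · rw [Category.assoc, Category.assoc, cc_hom, (pr d hG sel i.E).pt_hom, ← Category.assoc,
      d.g_fac, morphismRestrict_ι]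
  · rw [Category.assoc, Category.assoc, cc_pr, (pr d hG sel i.E).pt_pr, ← Category.assoc,
      d.natπ, (atom d hG sel s).hπ]

theorem exists_trn {i j : Ix d hG sel} (h : i ≤ j) :
    ∃ a : (pr d hG sel j.E).obj ⟶ (pr d hG sel i.E).obj,
      a ≫ (pr d hG sel i.E).hom = (pr d hG sel j.E).hom ∧ ∀ s (hs : s ∈ i.E),
        a ≫ (pr d hG sel i.E).pr s hs = (pr d hG sel j.E).pr s (h.1 hs) :=
  (pr d hG sel i.E).exists_lift _ _ fun s hs => (pr d hG sel j.E).pr_hom s (h.1 hs)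

/-- The transition between the products. -/
noncomputable def trn {i j : Ix d hG sel} (h : i ≤ j) :
    (pr d hG sel j.E).obj ⟶ (pr d hG sel i.E).obj :=
  (exists_trn h).choose

theorem trn_hom {i j : Ix d hG sel} (h : i ≤ j) :
    trn h ≫ (pr d hG sel i.E).hom = (pr d hG sel j.E).hom :=
  (exists_trn h).choose_spec.1

theorem trn_pr {i j : Ix d hG sel} (h : i ≤ j) (s : Lab d) (hs : s ∈ i.E) :
    trn h ≫ (pr d hG sel i.E).pr s hs = (pr d hG sel j.E).pr s (h.1 hs) :=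
  (exists_trn h).choose_spec.2 s hs

theorem pt_trn {i j : Ix d hG sel} (h : i ≤ j) :
    (pr d hG sel j.E).pt ≫ trn h = (pr d hG sel i.E).pt :=
  (pr d hG sel i.E).hom_ext _ _
    (by rw [Category.assoc, trn_hom, (pr d hG sel j.E).pt_hom, (pr d hG sel i.E).pt_hom])
    fun s hs => by rw [Category.assoc, trn_pr, (pr d hG sel j.E).pt_pr, (pr d hG sel i.E).pt_pr]

theorem cc_trn {i j : Ix d hG sel} (h : i ≤ j) :
    cc j ≫ trn h = DV.map (homOfLE h.2).op ≫ cc i :=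
  (pr d hG sel i.E).hom_ext _ _
    (by rw [Category.assoc, Category.assoc, trn_hom, cc_hom, cc_hom, ← Category.assoc, d.map_g])
    fun s hs => by
      rw [Category.assoc, Category.assoc, trn_pr, cc_pr, cc_pr, ← Category.assoc, map_map]

variable (i : Ix d hG sel)

/-- The ideal of the stage: the schematic image of `S` and of the stage on `V`. -/
noncomputable def K : (pr d hG sel i.E).obj.IdealSheafData :=
  (cc i).ker ⊓ (pr d hG sel i.E).pt.ker

theorem K_le_map {i j : Ix d hG sel} (h : i ≤ j) : K i ≤ (K j).map (trn h) := by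
  have hm : (K j).map (trn h) = (cc j).ker.map (trn h) ⊓ (pr d hG sel j.E).pt.ker.map (trn h) :=
    (Scheme.IdealSheafData.map_gc (trn h)).u_inf
  rw [hm, Scheme.IdealSheafData.map_ker, Scheme.IdealSheafData.map_ker, pt_trn, cc_trn]
  exact inf_le_inf (Scheme.Hom.le_ker_comp _ _) le_rfl

/-- The structure map of a stage. -/
noncomputable def hom : (K i).subscheme ⟶ T := (K i).subschemeι ≫ (pr d hG sel i.E).hom

theorem isAffineHom_hom : IsAffineHom (hom i) := by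
  haveI := (pr d hG sel i.E).aff
  exact inferInstanceAs (IsAffineHom ((K i).subschemeι ≫ _))

theorem lft_hom : LocallyOfFiniteType (hom i) := by
  haveI := (pr d hG sel i.E).lfp
  exact inferInstanceAs (LocallyOfFiniteType ((K i).subschemeι ≫ _))

variable (d hG sel) in
/-- The system. -/
noncomputable def sys : (Ix d hG sel)ᵒᵖ ⥤ Scheme.{u} where
  obj i := (K i.unop).subscheme
  map {i j} a :=
    Scheme.IdealSheafData.subschemeMap (K i.unop) (K j.unop) (trn a.unop.le) (K_le_map a.unop.le)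
  map_id i := by
    rw [← cancel_mono (K i.unop).subschemeι, Scheme.IdealSheafData.subschemeMap_subschemeι,
      Category.id_comp]
    have : trn (show i.unop ≤ i.unop from le_rfl) = 𝟙 _ :=
      (pr d hG sel i.unop.E).hom_ext _ _ (by rw [trn_hom, Category.id_comp]) fun s hs => by
        rw [trn_pr, Category.id_comp]
    exact (congrArg (_ ≫ ·) this).trans (Category.comp_id _)
  map_comp {i j k} a b := by
    rw [← cancel_mono (K k.unop).subschemeι, Scheme.IdealSheafData.subschemeMap_subschemeι,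
      Category.assoc, Scheme.IdealSheafData.subschemeMap_subschemeι,
      Scheme.IdealSheafData.subschemeMap_subschemeι_assoc]
    congr 1
    exact (pr d hG sel k.unop.E).hom_ext _ _ (by rw [trn_hom, Category.assoc, trn_hom, trn_hom])
      fun s hs => by rw [trn_pr, Category.assoc, trn_pr, trn_pr]

theorem sys_map_hom {i j : (Ix d hG sel)ᵒᵖ} (a : i ⟶ j) :
    (sys d hG sel).map a ≫ hom j.unop = hom i.unop := by
  show Scheme.IdealSheafData.subschemeMap (K i.unop) (K j.unop) (trn a.unop.le) (K_le_map a.unop.le)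
    ≫ (K j.unop).subschemeι ≫ _ = _
  rw [Scheme.IdealSheafData.subschemeMap_subschemeι_assoc, trn_hom]
  rfl

theorem isAffineHom_sys_map {i j : (Ix d hG sel)ᵒᵖ} (a : i ⟶ j) :
    IsAffineHom ((sys d hG sel).map a) := by
  haveI : IsAffineHom (hom j.unop) := isAffineHom_hom _
  haveI : IsAffineHom ((sys d hG sel).map a ≫ hom j.unop) := by
    rw [sys_map_hom]; exact isAffineHom_hom _
  exact IsAffineHom.of_comp _ (hom j.unop)

variable (d hG sel) in
/-- The cone with vertex `S`. -/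
noncomputable def sysCone : Cone (sys d hG sel) where
  pt := S
  π :=
    { app := fun i => IsClosedImmersion.lift (K i.unop).subschemeι (pr d hG sel i.unop.E).pt
        ((K i.unop).ker_subschemeι.le.trans inf_le_right)
      naturality := fun i j a => by
        show 𝟙 S ≫ _ = _ ≫ Scheme.IdealSheafData.subschemeMap (K i.unop) (K j.unop) (trn a.unop.le)
          (K_le_map a.unop.le)
        rw [Category.id_comp, ← cancel_mono (K j.unop).subschemeι, Category.assoc,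
          Scheme.IdealSheafData.subschemeMap_subschemeι, IsClosedImmersion.lift_fac,
          IsClosedImmersion.lift_fac_assoc, pt_trn] }

theorem sysCone_fac (i : (Ix d hG sel)ᵒᵖ) :
    (sysCone d hG sel).π.app i ≫ (K i.unop).subschemeι = (pr d hG sel i.unop.E).pt :=
  IsClosedImmersion.lift_fac _ _ _

theorem sysCone_hom (i : (Ix d hG sel)ᵒᵖ) : (sysCone d hG sel).π.app i ≫ hom i.unop = f := by
  rw [hom, ← Category.assoc, sysCone_fac, (pr d hG sel i.unop.E).pt_hom]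

theorem hom_preimage {i j : (Ix d hG sel)ᵒᵖ} (a : i ⟶ j) :
    (sys d hG sel).map a ⁻¹ᵁ (hom j.unop ⁻¹ᵁ G) = hom i.unop ⁻¹ᵁ G := by
  rw [← Scheme.Hom.comp_preimage, sys_map_hom]

theorem sysCone_preimage (i : (Ix d hG sel)ᵒᵖ) :
    (sysCone d hG sel).π.app i ⁻¹ᵁ (hom i.unop ⁻¹ᵁ G) = f ⁻¹ᵁ G := by
  rw [← Scheme.Hom.comp_preimage, sysCone_hom]

/-- Sections vanishing on `S` vanish at a later stage. -/
theorem exists_killed [IsDirected I (· ≤ ·)] [∀ i, CompactSpace (DV.obj i)]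
    (c : Cone DV) (hc : IsLimit c) (e : (f ⁻¹ᵁ G).toScheme ≅ c.pt)
    (he : ∀ i, π i = e.hom ≫ c.π.app (op i)) (V : T.affineOpens)
    (x : Γ((pr d hG sel i.E).obj, (pr d hG sel i.E).hom ⁻¹ᵁ V.1))
    (hx : (pr d hG sel i.E).pt.app ((pr d hG sel i.E).hom ⁻¹ᵁ V.1) x = 0) :
    ∃ (k : Ix d hG sel) (h : i ≤ k)
      (hle : (pr d hG sel k.E).hom ⁻¹ᵁ V.1 ≤ trn h ⁻¹ᵁ ((pr d hG sel i.E).hom ⁻¹ᵁ V.1))
      (hV : IsAffineOpen ((pr d hG sel k.E).hom ⁻¹ᵁ V.1)),
      (trn h).appLE ((pr d hG sel i.E).hom ⁻¹ᵁ V.1) ((pr d hG sel k.E).hom ⁻¹ᵁ V.1) hle x ∈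
        (K k).ideal ⟨_, hV⟩ := by
  haveI : ∀ {i j : Iᵒᵖ} (a : i ⟶ j), IsAffineHom (DV.map a) := d.affV
  haveI : Nonempty I := ⟨i.m⟩
  haveI := (pr d hG sel i.E).aff
  haveI : QuasiSeparatedSpace (pr d hG sel i.E).obj :=
    quasiSeparatedSpace_of_quasiSeparated (pr d hG sel i.E).hom
  haveI : QuasiCompact (cc i) := quasiCompact_of_compactSpace _
  let U := (pr d hG sel i.E).hom ⁻¹ᵁ V.1
  have hUc : IsCompact ((cc i ⁻¹ᵁ U : (DV.obj (op i.m)).Opens) : Set (DV.obj (op i.m))) :=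
    QuasiCompact.isCompact_preimage (f := cc i) _ U.2 (V.2.preimage _).isCompact
  have h0 : (c.π.app (op i.m)).app (cc i ⁻¹ᵁ U) ((cc i).app U x) = 0 := by
    apply (ConcreteCategory.bijective_of_isIso (e.hom.app (c.π.app (op i.m) ⁻¹ᵁ (cc i ⁻¹ᵁ U)))).1
    rw [map_zero]
    have e1 : e.hom ≫ c.π.app (op i.m) ≫ cc i = (f ⁻¹ᵁ G).ι ≫ (pr d hG sel i.E).pt := by
      rw [← π_cc, he, Category.assoc]
    have key : (e.hom ≫ c.π.app (op i.m) ≫ cc i).appLE U
        ((e.hom ≫ c.π.app (op i.m) ≫ cc i) ⁻¹ᵁ U) le_rfl x = 0 := by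
      rw [appLE_congr_hom e1, Scheme.Hom.comp_appLE, CommRingCat.comp_apply, hx, map_zero]
    rw [← Scheme.Hom.app_eq_appLE, Scheme.Hom.comp_app, Scheme.Hom.comp_app, CommRingCat.comp_apply,
      CommRingCat.comp_apply] at key
    exact key
  obtain ⟨j, a, ha⟩ := exists_app_map_eq_zero_of_isLimit DV c hc hUc _ h0
  obtain ⟨k, hkE, hkm⟩ := exists_ix_of (hG := hG) (sel := sel) i.E j.unop
  have h : i ≤ k := ⟨hkE, a.unop.le.trans hkm⟩
  haveI := (pr d hG sel k.E).aff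
  have hle : (pr d hG sel k.E).hom ⁻¹ᵁ V.1 ≤ trn h ⁻¹ᵁ U := by
    rw [← Scheme.Hom.comp_preimage, trn_hom]
  refine ⟨k, h, hle, V.2.preimage _, ?_⟩
  rw [K, Scheme.IdealSheafData.ideal_inf, Pi.inf_apply]
  haveI : QuasiSeparatedSpace (pr d hG sel k.E).obj :=
    quasiSeparatedSpace_of_quasiSeparated (pr d hG sel k.E).hom
  haveI : QuasiCompact (cc k) := quasiCompact_of_compactSpace _
  haveI : IsAffineHom ((pr d hG sel k.E).pt ≫ (pr d hG sel k.E).hom) := by
    rw [(pr d hG sel k.E).pt_hom]; infer_instance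
  haveI : IsAffineHom (pr d hG sel k.E).pt := IsAffineHom.of_comp _ (pr d hG sel k.E).hom
  refine ⟨?_, ?_⟩
  · rw [SetLike.mem_coe, Scheme.Hom.ker_apply, RingHom.mem_ker, Scheme.Hom.app_eq_appLE,
      ← CommRingCat.comp_apply, Scheme.Hom.appLE_comp_appLE]
    have e1 : cc k ≫ trn h = DV.map (homOfLE hkm).op ≫ DV.map a ≫ cc i := by
      rw [cc_trn, ← Category.assoc, show a = (homOfLE a.unop.le).op from Subsingleton.elim _ _,
        map_map]
    rw [appLE_congr_hom e1, Scheme.Hom.comp_appLE, CommRingCat.comp_apply, Scheme.Hom.comp_app,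
      CommRingCat.comp_apply]
    exact (congrArg _ ha).trans (map_zero _)
  · rw [SetLike.mem_coe, Scheme.Hom.ker_apply, RingHom.mem_ker, Scheme.Hom.app_eq_appLE,
      ← CommRingCat.comp_apply, Scheme.Hom.appLE_comp_appLE, appLE_congr_hom (pt_trn h),
      Scheme.Hom.appLE, CommRingCat.comp_apply, hx, map_zero]

theorem sections_surjective [IsDirected I (· ≤ ·)]
    (hsel : ∀ s : Sec f, ∃ (h : f ⁻¹ᵁ s.1.1 ≤ (sel s).v ⁻¹ᵁ ((sel s).q ⁻¹ᵁ s.1.1))
      (t : Γ((sel s).M, (sel s).q ⁻¹ᵁ s.1.1)),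
        (sel s).v.appLE ((sel s).q ⁻¹ᵁ s.1.1) (f ⁻¹ᵁ s.1.1) h t = s.2)
    (V : T.affineOpens) (s : Γ(S, f ⁻¹ᵁ V.1)) :
    ∃ (k : (Ix d hG sel)ᵒᵖ)
      (e : f ⁻¹ᵁ V.1 ≤ (sysCone d hG sel).π.app k ⁻¹ᵁ (hom k.unop ⁻¹ᵁ V.1))
      (x : Γ((K k.unop).subscheme, hom k.unop ⁻¹ᵁ V.1)),
        ((sysCone d hG sel).π.app k).appLE (hom k.unop ⁻¹ᵁ V.1) (f ⁻¹ᵁ V.1) e x = s := by
  obtain ⟨k, hk, -⟩ := exists_ix_of (hG := hG) (sel := sel) {Sum.inl ⟨V, s⟩} d.i₁
  have hmem : (Sum.inl ⟨V, s⟩ : Lab d) ∈ k.E := hk (Finset.mem_singleton_self _)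
  obtain ⟨h, t, ht⟩ := hsel ⟨V, s⟩
  let w : (K k).subscheme ⟶ (sel ⟨V, s⟩).M :=
    (K k).subschemeι ≫ (pr d hG sel k.E).pr _ hmem
  have hwq : w ≫ (sel ⟨V, s⟩).q = hom k := by
    rw [Category.assoc]; exact congrArg (_ ≫ ·) ((pr d hG sel k.E).pr_hom _ hmem)
  let z : S ⟶ (K k).subscheme := (sysCone d hG sel).π.app (op k)
  have hw : z ≫ w = (sel ⟨V, s⟩).v := by
    show _ ≫ (K k).subschemeι ≫ _ = _
    rw [← Category.assoc, show z ≫ (K k).subschemeι = _ from sysCone_fac (op k)]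
    exact (pr d hG sel k.E).pt_pr _ hmem
  have hle : hom k ⁻¹ᵁ V.1 ≤ w ⁻¹ᵁ ((sel ⟨V, s⟩).q ⁻¹ᵁ V.1) := by
    rw [← Scheme.Hom.comp_preimage, hwq]
  have e2 : f ⁻¹ᵁ V.1 ≤ z ⁻¹ᵁ (hom k ⁻¹ᵁ V.1) := by
    rw [← Scheme.Hom.comp_preimage, show z ≫ hom k = f from sysCone_hom (op k)]
  refine ⟨op k, e2, w.appLE ((sel ⟨V, s⟩).q ⁻¹ᵁ V.1) (hom k ⁻¹ᵁ V.1) hle t, ?_⟩
  exact (appLE_appLE_of_comp_eq hw hle e2 h t).trans ht

theorem sections_injective [IsDirected I (· ≤ ·)] [∀ i, CompactSpace (DV.obj i)]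
    (c : Cone DV) (hc : IsLimit c) (e : (f ⁻¹ᵁ G).toScheme ≅ c.pt)
    (he : ∀ i, π i = e.hom ≫ c.π.app (op i))
    (V : T.affineOpens) (j : Ix d hG sel) (z : S ⟶ (K j).subscheme)
    (hz : z ≫ (K j).subschemeι = (pr d hG sel j.E).pt)
    (e' : f ⁻¹ᵁ V.1 ≤ z ⁻¹ᵁ (hom j ⁻¹ᵁ V.1))
    (x : Γ((K j).subscheme, hom j ⁻¹ᵁ V.1))
    (hx : z.appLE (hom j ⁻¹ᵁ V.1) (f ⁻¹ᵁ V.1) e' x = 0) :
    ∃ (k : Ix d hG sel) (h : j ≤ k) (m : (K k).subscheme ⟶ (K j).subscheme)
      (_ : m = Scheme.IdealSheafData.subschemeMap (K k) (K j) (trn h) (K_le_map h))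
      (e3 : hom k ⁻¹ᵁ V.1 ≤ m ⁻¹ᵁ (hom j ⁻¹ᵁ V.1)),
        m.appLE (hom j ⁻¹ᵁ V.1) (hom k ⁻¹ᵁ V.1) e3 x = 0 := by
  haveI := (pr d hG sel j.E).aff
  let U := (pr d hG sel j.E).hom ⁻¹ᵁ V.1
  obtain ⟨y, hy⟩ := (K j).subschemeι_app_surjective ⟨U, V.2.preimage (pr d hG sel j.E).hom⟩ x
  have hp : f ⁻¹ᵁ V.1 = (pr d hG sel j.E).pt ⁻¹ᵁ U := by
    rw [← Scheme.Hom.comp_preimage, (pr d hG sel j.E).pt_hom]
  have hy0 : (pr d hG sel j.E).pt.app U y = 0 := by
    rw [Scheme.Hom.app_eq_appLE]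
    apply (ConcreteCategory.bijective_of_isIso (S.presheaf.map (eqToHom hp).op)).1
    rw [map_zero, ← CommRingCat.comp_apply, Scheme.Hom.appLE_map,
      appLE_congr_hom hz.symm, Scheme.Hom.comp_appLE, CommRingCat.comp_apply]
    exact (congrArg _ hy).trans hx
  obtain ⟨k, h, hle, hV, hk⟩ := exists_killed j c hc e he V y hy0
  generalize hm : Scheme.IdealSheafData.subschemeMap (K k) (K j) (trn h) (K_le_map h) = m
  have hmι : m ≫ (K j).subschemeι = (K k).subschemeι ≫ trn h := by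
    rw [← hm, Scheme.IdealSheafData.subschemeMap_subschemeι]
  have hmh : m ≫ hom j = hom k := by
    rw [hom, ← Category.assoc, hmι, Category.assoc, trn_hom]; rfl
  have e3 : hom k ⁻¹ᵁ V.1 ≤ m ⁻¹ᵁ (hom j ⁻¹ᵁ V.1) := by
    rw [← Scheme.Hom.comp_preimage, hmh]
  refine ⟨k, h, m, hm.symm, e3, ?_⟩
  have hcomp : (m ≫ (K j).subschemeι).appLE U (hom k ⁻¹ᵁ V.1) e3 y = 0 := by
    rw [appLE_congr_hom hmι, ← Scheme.Hom.appLE_comp_appLE (K k).subschemeι (trn h) U
        ((pr d hG sel k.E).hom ⁻¹ᵁ V.1) (hom k ⁻¹ᵁ V.1) hle le_rfl, CommRingCat.comp_apply]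
    rw [← (K k).ker_subschemeι_app ⟨_, hV⟩, RingHom.mem_ker, Scheme.Hom.app_eq_appLE] at hk
    exact hk
  rw [Scheme.Hom.comp_appLE, CommRingCat.comp_apply] at hcomp
  rw [← hy]
  exact hcomp

theorem nonempty_isLimit_sysCone [IsDirected I (· ≤ ·)] [∀ i, CompactSpace (DV.obj i)]
    (c : Cone DV) (hc : IsLimit c) (e : (f ⁻¹ᵁ G).toScheme ≅ c.pt)
    (he : ∀ i, π i = e.hom ≫ c.π.app (op i))
    (hsel : ∀ s : Sec f, ∃ (h : f ⁻¹ᵁ s.1.1 ≤ (sel s).v ⁻¹ᵁ ((sel s).q ⁻¹ᵁ s.1.1))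
      (t : Γ((sel s).M, (sel s).q ⁻¹ᵁ s.1.1)),
        (sel s).v.appLE ((sel s).q ⁻¹ᵁ s.1.1) (f ⁻¹ᵁ s.1.1) h t = s.2) :
    Nonempty (IsLimit (sysCone d hG sel)) := by
  haveI := nonempty_ix (hG := hG) (sel := sel)
  haveI := isDirected_ix (hG := hG) (sel := sel)
  haveI : ∀ {i j : (Ix d hG sel)ᵒᵖ} (a : i ⟶ j), IsAffineHom ((sys d hG sel).map a) :=
    fun a => isAffineHom_sys_map a
  haveI : ∀ i : (Ix d hG sel)ᵒᵖ, IsAffineHom (hom i.unop) := fun i => isAffineHom_hom _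
  refine @Limit.nonempty_isLimit_of_sections _ _ _ (sys d hG sel) _ T (fun i => hom i.unop)
    (fun a => sys_map_hom a) _ (sysCone d hG sel) f ‹IsAffineHom f› (fun i => sysCone_hom i)
    (fun V s => sections_surjective hsel V s) fun V j e' x hx => ?_
  obtain ⟨k, h, m, rfl, e3, h3⟩ := sections_injective c hc e he V j.unop
    ((sysCone d hG sel).π.app j) (sysCone_fac j) e' x hx
  exact ⟨op k, (homOfLE h).op, e3, h3⟩

/-- The part over `G` of a stage is the stage on `V`. -/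
theorem exists_iso [CompactSpace (DV.obj (op i.m))] :
    ∃ l : DV.obj (op i.m) ≅ (hom i ⁻¹ᵁ G).toScheme,
      l.hom ≫ (hom i ⁻¹ᵁ G).ι ≫ (K i).subschemeι = cc i := by
  haveI := (pr d hG sel i.E).aff
  haveI : QuasiSeparatedSpace (pr d hG sel i.E).obj :=
    quasiSeparatedSpace_of_quasiSeparated (pr d hG sel i.E).hom
  haveI : QuasiCompact (cc i) := quasiCompact_of_compactSpace _
  haveI : IsAffineHom ((pr d hG sel i.E).pt ≫ (pr d hG sel i.E).hom) := by
    rw [(pr d hG sel i.E).pt_hom]; infer_instance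
  haveI : IsAffineHom (pr d hG sel i.E).pt := IsAffineHom.of_comp _ (pr d hG sel i.E).hom
  let W := (pr d hG sel i.E).hom ⁻¹ᵁ G
  haveI : CompactSpace W.toScheme := isCompact_iff_compactSpace.mp
    (QuasiCompact.isCompact_preimage (f := (pr d hG sel i.E).hom) _ G.2 hG)
  haveI : QuasiCompact W.ι := quasiCompact_of_compactSpace _
  obtain ⟨hidx, ha, hrange⟩ := atom_inr d hG sel ⟨i.m, i.hm⟩
  let A := atom d hG sel (Sum.inr ⟨i.m, i.hm⟩)
  have hrW : Set.range (cc i) ⊆ Set.range W.ι := by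
    rw [Scheme.Opens.range_ι]
    rintro _ ⟨z, rfl⟩
    show (pr d hG sel i.E).hom (cc i z) ∈ G
    rw [← Scheme.Hom.comp_apply, cc_hom, Scheme.Hom.comp_apply]
    exact (d.g i.m i.hm z).2
  let cW := IsOpenImmersion.lift W.ι (cc i) hrW
  have hcW : cW ≫ W.ι = cc i := IsOpenImmersion.lift_fac _ _ _
  let a : DV.obj (op A.idx) ⟶ A.M := A.r
  have hrA : Set.range (W.ι ≫ (pr d hG sel i.E).pr _ i.mem) ⊆ Set.range a := by
    refine subset_trans ?_ hrange.le
    rintro _ ⟨z, rfl⟩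
    show A.q ((W.ι ≫ (pr d hG sel i.E).pr _ i.mem) z) ∈ G
    rw [← Scheme.Hom.comp_apply, Category.assoc, (pr d hG sel i.E).pr_hom, Scheme.Hom.comp_apply]
    exact z.2
  let ρW : W.toScheme ⟶ DV.obj (op A.idx) := IsOpenImmersion.lift a _ hrA
  have hρW : ρW ≫ a = W.ι ≫ (pr d hG sel i.E).pr _ i.mem := IsOpenImmersion.lift_fac _ _ _
  have hret : cW ≫ ρW = DV.map (homOfLE (i.le _ i.mem)).op := by
    rw [← cancel_mono a, Category.assoc, hρW, reassoc_of% hcW, cc_pr]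
  haveI : IsIso (DV.map (homOfLE (i.le _ i.mem)).op) :=
    ⟨DV.map (homOfLE hidx.le).op, by rw [map_map, map_self], by rw [map_map, map_self]⟩
  haveI : IsSeparated ρW := by
    haveI : IsSeparated (ρW ≫ a ≫ A.q) := by
      rw [← Category.assoc, hρW, Category.assoc, (pr d hG sel i.E).pr_hom]
      infer_instance
    exact IsSeparated.of_comp ρW (a ≫ A.q)
  haveI : IsClosedImmersion cW := by
    haveI : IsClosedImmersion (cW ≫ ρW) := by rw [hret]; infer_instance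
    exact IsClosedImmersion.of_comp cW ρW
  have hk : cW.ker ≤ ((pr d hG sel i.E).pt).ker.comap W.ι := by
    rw [← ker_morphismRestrict]
    have hpre : (pr d hG sel i.E).pt ⁻¹ᵁ W = f ⁻¹ᵁ G := by
      rw [← Scheme.Hom.comp_preimage, (pr d hG sel i.E).pt_hom]
    have : (pr d hG sel i.E).pt ∣_ W = ((S.isoOfEq hpre).hom ≫ π i.m) ≫ cW := by
      rw [← cancel_mono W.ι, morphismRestrict_ι, Category.assoc, hcW, Category.assoc, π_cc,
        Scheme.isoOfEq_hom_ι_assoc]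
    rw [this]
    exact Scheme.Hom.le_ker_comp _ _
  have hker : ((K i).subschemeι ∣_ W).ker = cW.ker := by
    rw [ker_morphismRestrict, Scheme.IdealSheafData.ker_subschemeι, K,
      comap_inf_of_isOpenImmersion, ← hcW, ← Scheme.IdealSheafData.map_ker,
      comap_map_of_isOpenImmersion, inf_eq_left]
    exact hk
  haveI : IsClosedImmersion ((K i).subschemeι ∣_ W) := inferInstance
  haveI := IsClosedImmersion.isIso_lift ((K i).subschemeι ∣_ W) cW hker
  refine ⟨asIso (IsClosedImmersion.lift ((K i).subschemeι ∣_ W) cW hker.le), ?_⟩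
  show IsClosedImmersion.lift ((K i).subschemeι ∣_ W) cW hker.le ≫
    ((K i).subschemeι ⁻¹ᵁ W).ι ≫ (K i).subschemeι = cc i
  rw [← morphismRestrict_ι, IsClosedImmersion.lift_fac_assoc, hcW]

end System

end Groth.L19.Approx.Rel

namespace Groth.L19.Approx.Rel

variable {S T : Scheme.{u}} (f : S ⟶ T) (G : T.Opens) {I : Type u} [Preorder I]
  (DV : Iᵒᵖ ⥤ Scheme.{u}) (π : ∀ i : I, (f ⁻¹ᵁ G).toScheme ⟶ DV.obj (op i))

theorem exists_data [IsDirected I (· ≤ ·)] [Nonempty I] [IsAffineHom f] [CompactSpace T]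
    [IsLocallyNoetherian T] [LocallyOfFinitePresentation (specULiftZIsTerminal.from T)]
    (hG : IsCompact (G : Set T))
    (haff : ∀ {i j : Iᵒᵖ} (a : i ⟶ j), IsAffineHom (DV.map a))
    [∀ i, CompactSpace (DV.obj i)] [∀ i, IsLocallyNoetherian (DV.obj i)]
    (hlft : ∀ i, LocallyOfFiniteType (specULiftZIsTerminal.from (DV.obj i)))
    (c : Cone DV) (hc : IsLimit c) (e : (f ⁻¹ᵁ G).toScheme ≅ c.pt)
    (he : ∀ i, π i = e.hom ≫ c.π.app (op i)) : Nonempty (Data f G DV π) := by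
  haveI := hlft
  have hlft' : ∀ {X : Scheme.{u}} (i : Iᵒᵖ) (g : DV.obj i ⟶ X), LocallyOfFiniteType g := fun i g => by
    haveI : LocallyOfFiniteType (g ≫ specULiftZIsTerminal.from _) := by
      rw [specULiftZIsTerminal.hom_ext (g ≫ specULiftZIsTerminal.from _)
        (specULiftZIsTerminal.from (DV.obj i))]
      exact hlft i
    exact locallyOfFiniteType_of_comp g (specULiftZIsTerminal.from _)
  haveI : IsLocallyNoetherian G.toScheme := isLocallyNoetherian_of_isOpenImmersion G.ι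
  haveI : CompactSpace G := isCompact_iff_compactSpace.mp hG
  haveI : QuasiSeparatedSpace G.toScheme := inferInstance
  haveI : LocallyOfFinitePresentation (specULiftZIsTerminal.from G.toScheme) := by
    rw [specULiftZIsTerminal.hom_ext (specULiftZIsTerminal.from G.toScheme)
      (G.ι ≫ specULiftZIsTerminal.from T)]
    infer_instance
  let base : DV ⟶ (Functor.const Iᵒᵖ).obj (Spec (CommRingCat.of (ULift.{u} ℤ))) :=
    { app := fun i => specULiftZIsTerminal.from _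
      naturality := fun i j a => specULiftZIsTerminal.hom_ext _ _ }
  obtain ⟨i, g, hg, -⟩ := Scheme.exists_π_app_comp_eq_of_locallyOfFinitePresentation DV base
    (specULiftZIsTerminal.from G.toScheme) c hc (e.inv ≫ f ∣_ G)
    (NatTrans.ext (funext fun k => specULiftZIsTerminal.hom_ext _ _))
  haveI : IsAffineHom (f ∣_ G) := IsZariskiLocalAtTarget.restrict (P := @IsAffineHom) inferInstance _
  haveI : IsAffineHom (c.π.app i ≫ g) := by rw [hg]; infer_instance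
  haveI : QuasiCompact g := quasiCompact_of_compactSpace _
  obtain ⟨j, a, hj⟩ := Limit.exists_isAffineHom hc (i := i) g
  haveI := hlft' j (DV.map a ≫ g)
  refine ⟨⟨j.unop, DV.map a ≫ g, hj, ?_, ?_, fun b => haff b, fun {k l} b => ?_, fun {k l} h => ?_⟩⟩
  · exact LocallyOfFinitePresentation.iff_locallyOfFiniteType.mpr inferInstance
  · rw [he, Category.assoc]
    show e.hom ≫ c.π.app j ≫ DV.map a ≫ g = _
    rw [← Category.assoc (c.π.app j), c.w, hg, e.hom_inv_id_assoc]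
  · exact LocallyOfFinitePresentation.iff_locallyOfFiniteType.mpr (hlft' k _)
  · rw [he, he, Category.assoc, c.w]

end Groth.L19.Approx.Rel
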