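import Groth.Agent.L19.Approx.UnivHomeo
import Groth.Agent.L19.Approx.AlgColimit

/-!
# Universal homeomorphisms of affine schemes as colimits of finitely presented ones
-/

universe u

open CategoryTheory CategoryTheory.Limits AlgebraicGeometry Opposite

namespace Groth.L19.Approx

set_option backward.isDefEq.respectTransparency.types false
set_option backward.isDefEq.respectTransparency false
set_option backward.defeqAttrib.useBackward true
set_option linter.style.haveILetI false

theorem surjective_residueFieldMap_of_comp {X Y W : Scheme.{u}} (p : X ⟶ Y) (h : Y ⟶ W)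
    (f : X ⟶ W) (e : p ≫ h = f) (hf : ∀ x, Function.Surjective (f.residueFieldMap x))
    (hp : Function.Surjective p) (y : Y) : Function.Surjective (h.residueFieldMap y) := by
  subst e
  obtain ⟨x, rfl⟩ := hp y
  intro a
  obtain ⟨b, hb⟩ := hf x (p.residueFieldMap x a)
  refine ⟨b, (p.residueFieldMap x).hom.injective ?_⟩
  rw [Scheme.residueFieldMap_comp, CommRingCat.comp_apply] at hb
  exact hb

theorem surjective_residueFieldMap_iso_comp {X Y W : Scheme.{u}} (p : X ⟶ Y) [IsIso p] (h : Y ⟶ W)
    (hh : ∀ y, Function.Surjective (h.residueFieldMap y)) (x : X) :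
    Function.Surjective ((p ≫ h).residueFieldMap x) := by
  intro a
  have hp : Function.Surjective (p.residueFieldMap x) := fun a => by
    obtain ⟨b, rfl⟩ := IsLocalRing.residue_surjective a
    obtain ⟨c, rfl⟩ := (ConcreteCategory.bijective_of_isIso (p.stalkMap x)).2 b
    exact ⟨IsLocalRing.residue _ c, IsLocalRing.ResidueField.map_residue _ _⟩
  obtain ⟨b, rfl⟩ := hp a
  obtain ⟨d, rfl⟩ := hh (p x) b
  exact ⟨d, by rw [Scheme.residueFieldMap_comp, CommRingCat.comp_apply]; rfl⟩

/-- The conclusion of both milestones. -/
theorem exists_algebra_colimit {A B : CommRingCat.{u}} (φ : A ⟶ B)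
    (hφ : FlatMor.IsUnivHomeo (Spec.map φ)) :
    ∃ (J : Type u) (_ : SmallCategory J) (_ : IsFiltered J) (F : J ⥤ Under A)
      (c : Cocone F) (_ : IsColimit c),
      (∀ j, (F.obj j).hom.hom.FinitePresentation ∧ FlatMor.IsUnivHomeo (Spec.map (F.obj j).hom) ∧
        ((∀ x, Function.Surjective ((Spec.map φ).residueFieldMap x)) →
          ∀ y, Function.Surjective ((Spec.map (F.obj j).hom).residueFieldMap y))) ∧
      Nonempty (c.pt ≅ Under.mk φ) := by
  let f := Spec.map φ
  haveI : IsAffineHom f := inferInstance
  have h : Cofinal f FiniteUH := fun {_} => cofinal_finiteUH f hφ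
  haveI := isDirected_idx h
  haveI := nonempty_idx h
  let D := system f FiniteUH
  haveI : ∀ i, IsFinite (D.obj i).hom := fun i => (prop_system_hom f FiniteUH i).1
  haveI : ∀ i, IsAffine (D.obj i).left := fun i => isAffine_of_isAffineHom (D.obj i).hom
  obtain ⟨cc, hcc, he⟩ := exists_colimit φ D (cone f FiniteUH) inferInstance
    (nonempty_isLimit_cone f FiniteUH h).some (Iso.refl _)
  refine ⟨Idx f FiniteUH, Preorder.smallCategory _, inferInstance, algFunctor D, cc, hcc,
    fun j => ⟨?_, ?_, fun hres y => ?_⟩, he⟩
  · haveI := lfp_system_hom f FiniteUH (op j)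
    have : LocallyOfFinitePresentation (Spec.map ((algFunctor D).obj j).hom) := by
      rw [spec_map_algFunctor_hom]; infer_instance
    exact (HasRingHomProperty.Spec_iff (P := @LocallyOfFinitePresentation)).mp this
  · rw [spec_map_algFunctor_hom]
    exact ((MorphismProperty.universally_respectsIso
      (topologically (fun f => IsHomeomorph f))).toRespectsLeft.precomp _
        (inferInstance : IsIso (D.obj (op j)).left.isoSpec.inv) _
        (prop_system_hom f FiniteUH (op j)).2)
  · let W := (D.obj (op j)).left
    have hw : ((cone f FiniteUH).π.app (op j)).left ≫ (D.obj (op j)).hom = f :=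
      Over.w ((cone f FiniteUH).π.app (op j))
    have hsurj : Function.Surjective ((cone f FiniteUH).π.app (op j)).left := fun w => by
      obtain ⟨x, hx⟩ := ((Groth.L20.isUnivHomeo_iff f).mp hφ).2.2.surj ((D.obj (op j)).hom w)
      refine ⟨x, (Groth.L20.isHomeomorph_of_isUnivHomeo
        (prop_system_hom f FiniteUH (op j)).2).injective ?_⟩
      rw [← Scheme.Hom.comp_apply]
      exact (congr($hw x)).trans hx
    have H : ∀ (q : Spec ((algFunctor D).obj j).right ⟶ Spec A),
        q = W.isoSpec.inv ≫ (D.obj (op j)).hom → ∀ y, Function.Surjective (q.residueFieldMap y) := by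
      intro q hq y
      subst hq
      exact surjective_residueFieldMap_iso_comp _ _
        (surjective_residueFieldMap_of_comp _ _ f hw hres hsurj) y
    exact H _ (spec_map_algFunctor_hom D j) y

end Groth.L19.Approx
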